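import Groth.Prelude.Def_Smoothing
import Mathlib.RingTheory.Extension.Presentation.Basic

/-! Standard elements are stable under base change. -/

set_option autoImplicit false

universe u

open TensorProduct MvPolynomial

namespace Groth.Agent.Lib.SmoothingH7

variable {R A R' : Type u} [CommRing R] [CommRing A] [Algebra R A] [CommRing R'] [Algebra R R']

theorem exists_baseChange (P : Smoothing.MarkedPresentation R A) :
    ∃ P' : Smoothing.MarkedPresentation R' (R' ⊗[R] A), ∃ (hn : P'.n = P.n) (hm : P'.m = P.m) (hc : P'.c = P.c),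
      (∀ cols : Fin P.c → Fin P.n,
        P'.hom (Smoothing.jacobianMinor P'.rel (Fin.castLE P'.hcm)
          (Fin.cast hn.symm ∘ cols ∘ Fin.cast hc)) =
        (1 : R') ⊗ₜ[R] P.hom (Smoothing.jacobianMinor P.rel (Fin.castLE P.hcm) cols)) ∧
      ∀ a : A, Smoothing.KillsTail P a → Smoothing.KillsTail P' ((1 : R') ⊗ₜ[R] a) := by
  classical
  let G : Algebra.Generators R A (Fin P.n) := Algebra.Generators.ofSurjective (fun i => P.hom (X i)) (by
    rw [show (fun i => P.hom (X i)) = ⇑P.hom ∘ X from rfl, ← MvPolynomial.aeval_unique P.hom]; exact P.surj)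
  have hG : ∀ p, aeval G.val p = P.hom p := fun p => (AlgHom.congr_fun (MvPolynomial.aeval_unique P.hom) p).symm
  have hker : Ideal.span (Set.range P.rel) = G.ker := by
    rw [← P.ker_eq]
    ext x
    show P.hom x = 0 ↔ algebraMap G.Ring A x = 0
    rw [Algebra.Generators.algebraMap_apply, hG]
  let Q : Algebra.Presentation R A (Fin P.n) (Fin P.m) :=
    { toGenerators := G, relation := P.rel, span_range_relation_eq_ker := hker }
  let Q' := Q.baseChange R'
  let μ : MvPolynomial (Fin P.n) R →+* MvPolynomial (Fin P.n) R' := MvPolynomial.map (algebraMap R R')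
  let hom' : MvPolynomial (Fin P.n) R' →ₐ[R'] R' ⊗[R] A := aeval Q'.val
  have hval : ∀ p, hom' (μ p) = (1 : R') ⊗ₜ[R] P.hom p := fun p => by
    induction p using MvPolynomial.induction_on with
    | C r =>
      rw [show μ (C r) = C (algebraMap R R' r) from map_C _ _, show hom' (C _) = _ from hom'.commutes _,
        show P.hom (C r) = _ from P.hom.commutes r, ← IsScalarTower.algebraMap_apply,
        Algebra.TensorProduct.algebraMap_apply']
    | add p q hp hq => simp only [map_add, tmul_add, hp, hq]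
    | mul_X p i hp =>
      rw [map_mul, map_mul, hp, map_mul, show μ (X i) = X i from map_X _ i,
        show hom' (X i) = _ from aeval_X _ i]
      exact Algebra.TensorProduct.tmul_mul_tmul _ _ _ _ |>.trans (by rw [one_mul]; rfl)
  have hsurj : Function.Surjective hom' := fun x => ⟨Q'.σ x, Q'.aeval_val_σ x⟩
  let rel' : Fin P.m → MvPolynomial (Fin P.n) R' := fun j => μ (P.rel j)
  have hspan : Ideal.span (Set.range rel') = (Ideal.span (Set.range P.rel)).map μ := by
    rw [Ideal.map_span, ← Set.range_comp]; rfl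
  have hker' : RingHom.ker hom'.toRingHom = Ideal.span (Set.range rel') := by
    rw [show Ideal.span (Set.range rel') = Q'.ker from Q'.span_range_relation_eq_ker]
    ext x
    show hom' x = 0 ↔ algebraMap Q'.Ring _ x = 0
    exact Iff.of_eq (congrArg (· = 0) (Algebra.Generators.algebraMap_apply Q'.toGenerators x).symm)
  refine ⟨⟨P.n, P.m, P.c, P.hcn, P.hcm, rel', hom', hsurj, hker'⟩, rfl, rfl, rfl, fun cols => ?_, fun a hk => ?_⟩
  · show hom' (Smoothing.jacobianMinor rel' (Fin.castLE P.hcm) cols) = _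
    rw [← hval]
    congr 1
    unfold Smoothing.jacobianMinor
    rw [RingHom.map_det]
    congr 1
    ext1 i j
    exact pderiv_map
  · intro a₁ ha₁ j hj
    obtain ⟨a₀, ha₀⟩ := P.surj a
    have hi : a₁ - μ a₀ ∈ Ideal.span (Set.range rel') := by
      rw [← hker']
      exact RingHom.mem_ker.2 (show hom' _ = 0 by rw [map_sub, hval, ha₀]; exact sub_eq_zero.2 ha₁)
    have h := Ideal.mem_map_of_mem μ (hk a₀ ha₀ j hj)
    rw [Ideal.map_sup, Ideal.map_pow, ← hspan, Ideal.map_span, Set.image_image, map_mul] at h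
    show a₁ * rel' j ∈ Ideal.span (rel' '' {j' : Fin P.m | (j' : ℕ) < P.c}) ⊔ Ideal.span (Set.range rel') ^ 2
    rw [show a₁ * rel' j = μ a₀ * rel' j + (a₁ - μ a₀) * rel' j by ring]
    refine Submodule.add_mem _ h (Submodule.mem_sup_right ?_)
    rw [pow_two]
    exact Ideal.mul_mem_mul hi (Ideal.subset_span ⟨j, rfl⟩)

theorem isStandard_baseChange (a : A) :
    (Smoothing.IsElementaryStandard R A a →
        Smoothing.IsElementaryStandard R' (R' ⊗[R] A) ((1 : R') ⊗ₜ[R] a)) ∧
      (Smoothing.IsStrictlyStandard R A a →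
        Smoothing.IsStrictlyStandard R' (R' ⊗[R] A) ((1 : R') ⊗ₜ[R] a)) := by
  constructor
  · rintro ⟨P, ⟨a', ha⟩, hk⟩
    obtain ⟨P', hn, hm, hc, hmin, hkill⟩ := exists_baseChange (R' := R') P
    refine ⟨P', ⟨(1 : R') ⊗ₜ[R] a', ?_⟩, hkill a hk⟩
    have h := hmin (Fin.castLE P.hcn)
    rw [show (Fin.cast hn.symm ∘ Fin.castLE P.hcn ∘ Fin.cast hc) = Fin.castLE P'.hcn from funext fun i => Fin.ext rfl] at h
    rw [h, Algebra.TensorProduct.tmul_mul_tmul, one_mul, ← ha]
  · rintro ⟨P, ha, hk⟩
    obtain ⟨P', hn, hm, hc, hmin, hkill⟩ := exists_baseChange (R' := R') P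
    refine ⟨P', ?_, hkill a hk⟩
    have := Ideal.mem_map_of_mem (Algebra.TensorProduct.includeRight : A →ₐ[R] R' ⊗[R] A).toRingHom ha
    refine (Ideal.map_le_iff_le_comap.2 (Ideal.span_le.2 ?_)) this
    rintro _ ⟨cols, rfl⟩
    exact Ideal.subset_span ⟨Fin.cast hn.symm ∘ cols ∘ Fin.cast hc, hmin cols⟩

end Groth.Agent.Lib.SmoothingH7
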