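import Groth.Agent.Lib.SmoothingH7.Desing
import Groth.Agent.Lib.SmoothingH7.BaseChange
import Mathlib.RingTheory.LocalRing.ResidueField.Ideal

/-! The relative desingularization lemma. -/

set_option autoImplicit false

universe u

open TensorProduct

namespace Groth.Agent.Lib.SmoothingH7

theorem exists_pow_mul_annihilator {R D : Type u} [CommRing R] [CommRing D] [Algebra R D] [IsNoetherianRing D]
    [Algebra.FinitePresentation R D] (π : R) (hR : ∀ r : R, π ^ 2 * r = 0 → π * r = 0) (d : D)
    (hd : d ∈ Smoothing.singularIdeal R D) :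
    ∃ n : ℕ, ∀ x : D, algebraMap R D π ^ 2 * x = 0 → algebraMap R D π * (d ^ n * x) = 0 := by
  classical
  haveI : Algebra.Smooth R (Localization.Away d) := by
    refine Algebra.basicOpen_subset_smoothLocus_iff_smooth.1 fun q hq => ?_
    by_contra hns
    exact hq ((PrimeSpectrum.mem_vanishingIdeal _ _).1 hd q hns)
  let L := Localization.Away d
  have hann : ∀ x : D, algebraMap R D π ^ 2 * x = 0 → algebraMap D L (algebraMap R D π * x) = 0 := by
    intro x hx
    have h1 : (π ^ 2 : R) • algebraMap D L x = 0 := by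
      rw [Algebra.smul_def, IsScalarTower.algebraMap_apply R D L, ← map_mul, map_pow, hx, map_zero]
    obtain ⟨k, a, y, hy, ha⟩ := Module.Flat.isTrivialRelation_of_sum_smul_eq_zero (R := R) (M := L)
      (ι := Unit) (f := fun _ => π ^ 2) (x := fun _ => algebraMap D L x) (by simpa using h1)
    rw [map_mul, show algebraMap D L x = ∑ l, a () l • y l from hy (), Finset.mul_sum]
    refine Finset.sum_eq_zero fun l _ => ?_
    have h2 : π ^ 2 * a () l = 0 := by simpa using ha l
    rw [Algebra.smul_def, ← IsScalarTower.algebraMap_apply, ← mul_assoc, ← map_mul, hR _ h2, map_zero, zero_mul]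
  let K : Ideal D := LinearMap.ker (LinearMap.mulLeft D (algebraMap R D π ^ 2))
  obtain ⟨N, g, hg⟩ := Submodule.fg_iff_exists_fin_generating_family.mp (IsNoetherian.noetherian K)
  have hgK : ∀ i, algebraMap R D π ^ 2 * g i = 0 := fun i =>
    (hg ▸ Submodule.subset_span ⟨i, rfl⟩ : g i ∈ K)
  choose e he using fun i => (IsLocalization.map_eq_zero_iff (Submonoid.powers d) L _).1 (hann (g i) (hgK i))
  choose n hn using fun i => (e i).2
  refine ⟨∑ i, n i, fun x hx => ?_⟩
  have hxK : x ∈ K := hx
  rw [← hg] at hxK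
  induction hxK using Submodule.span_induction with
  | mem z hz =>
    obtain ⟨i, rfl⟩ := hz
    have h0 : d ^ n i * (algebraMap R D π * g i) = 0 := by
      rw [show d ^ n i = (e i : D) from hn i]; exact he i
    rw [← Finset.add_sum_erase _ n (Finset.mem_univ i), pow_add]
    linear_combination d ^ (∑ j ∈ Finset.univ.erase i, n j) * h0
  | zero => simp
  | add a b ha hb iha ihb =>
    have hK' : ∀ z ∈ Submodule.span D (Set.range g), algebraMap R D π ^ 2 * z = 0 := fun z hz => by
      rw [hg] at hz; exact hz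
    rw [mul_add, mul_add, iha (hK' a ha), ihb (hK' b hb), add_zero]
  | smul c a ha iha =>
    have hK' : algebraMap R D π ^ 2 * a = 0 := by rw [hg] at ha; exact ha
    rw [smul_eq_mul]
    linear_combination c * iha hK'

theorem desingularize_rel {R Λ A D : Type u} [CommRing R] [IsNoetherianRing R]
    [CommRing Λ] [Algebra R Λ] (π : R) (hR : ∀ r : R, π ^ 2 * r = 0 → π * r = 0)
    (hΛ : ∀ x : Λ, π ^ 2 • x = 0 → π • x = 0) [CommRing A] [Algebra R A]
    [Algebra.FinitePresentation R A] [CommRing D] [Algebra R D] [Algebra.FinitePresentation R D]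
    (φ : A →ₐ[R] Λ) (δ : D →ₐ[R] Λ) (hπ : Smoothing.IsStrictlyStandard R A (algebraMap R A π))
    (ψ : A →ₐ[R] D ⧸ Ideal.span {algebraMap R D (π ^ 4)})
    (hψ : ∀ (a : A) (d : D), Ideal.Quotient.mk (Ideal.span {algebraMap R D (π ^ 4)}) d = ψ a →
      δ d - φ a ∈ Ideal.span {algebraMap R Λ (π ^ 4)}) :
    ∃ (B : Type u) (_ : CommRing B) (_ : Algebra R B) (_ : Algebra D B) (_ : IsScalarTower R D B),
      Algebra.FinitePresentation R B ∧
      ∃ (α : A →ₐ[R] B) (β : B →ₐ[R] Λ), β.comp α = φ ∧
        β.comp (IsScalarTower.toAlgHom R D B) = δ ∧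
        (Smoothing.singularIdeal R D).map (algebraMap D B) ≤ Smoothing.singularIdeal D B ∧
        (Smoothing.singularIdeal R D).map (algebraMap D B) ≤ Smoothing.singularIdeal R B := by
  classical
  haveI : IsNoetherianRing D := Algebra.FiniteType.isNoetherianRing R D
  letI : Algebra D Λ := δ.toRingHom.toAlgebra
  haveI : IsScalarTower R D Λ := IsScalarTower.of_algebraMap_eq fun r => (δ.commutes r).symm
  let πD := algebraMap R D π
  let AD := D ⊗[R] A
  let φD : AD →ₐ[D] Λ := Algebra.TensorProduct.lift (Algebra.ofId D Λ) φ fun _ _ => Commute.all _ _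
  have hπD : Smoothing.IsStrictlyStandard D AD (algebraMap D AD πD) := by
    have h1 := (isStandard_baseChange (R' := D) (algebraMap R A π)).2 hπ
    rwa [show algebraMap D AD πD = (1 : D) ⊗ₜ[R] algebraMap R A π by
      rw [← IsScalarTower.algebraMap_apply, Algebra.TensorProduct.algebraMap_apply']]
  have hφD : ∀ a : A, φD ((1 : D) ⊗ₜ[R] a) = φ a := fun a =>
    (Algebra.TensorProduct.lift_tmul _ _ _ _ _).trans (by rw [map_one, one_mul])
  let I4 : Ideal D := Ideal.span {πD ^ 4}
  have hI : Ideal.span {algebraMap R D (π ^ 4)} = I4 := by rw [map_pow]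
  let ρ : AD →ₐ[D] D ⧸ I4 := Algebra.TensorProduct.lift (Algebra.ofId D _)
    ((Ideal.quotientEquivAlgOfEq R hI).toAlgHom.comp ψ) fun _ _ => Commute.all _ _
  have hρ : ∀ (a : AD) (r : D), Ideal.Quotient.mk I4 r = ρ a →
      algebraMap D Λ r - φD a ∈ Ideal.span {algebraMap D Λ (πD ^ 4)} := by
    have hK : Ideal.span {algebraMap D Λ (πD ^ 4)} = Ideal.span {algebraMap R Λ (π ^ 4)} := by
      rw [map_pow, map_pow, ← IsScalarTower.algebraMap_apply]
    let K := Ideal.span {algebraMap D Λ (πD ^ 4)}
    let t₁ : AD →ₐ[D] Λ ⧸ K := (Ideal.Quotient.mkₐ D K).comp φD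
    let L4 : (D ⧸ I4) →ₐ[D] Λ ⧸ K := Ideal.Quotient.liftₐ I4 ((Ideal.Quotient.mkₐ D K).comp (Algebra.ofId D Λ))
      fun x hx => by
        obtain ⟨c, rfl⟩ := Ideal.mem_span_singleton'.1 hx
        show Ideal.Quotient.mk K (algebraMap D Λ (c * πD ^ 4)) = 0
        rw [Ideal.Quotient.eq_zero_iff_mem, map_mul]
        exact K.mul_mem_left _ (Ideal.mem_span_singleton_self _)
    let t₂ : AD →ₐ[D] Λ ⧸ K := L4.comp ρ
    have heq : t₂ = t₁ := Algebra.TensorProduct.ext (Subsingleton.elim _ _) (AlgHom.ext fun a => by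
      show t₂ ((1 : D) ⊗ₜ[R] a) = t₁ ((1 : D) ⊗ₜ[R] a)
      obtain ⟨d, hd⟩ := Ideal.Quotient.mk_surjective (ψ a)
      have h1 : ρ ((1 : D) ⊗ₜ[R] a) = Ideal.Quotient.mk I4 d := by
        refine (Algebra.TensorProduct.lift_tmul _ _ _ _ _).trans ?_
        rw [map_one, one_mul]
        show Ideal.quotientEquivAlgOfEq R hI (ψ a) = _
        rw [← hd]
        rfl
      show L4 (ρ ((1 : D) ⊗ₜ[R] a)) = Ideal.Quotient.mk K (φD ((1 : D) ⊗ₜ[R] a))
      rw [h1, hφD]
      show Ideal.Quotient.mk K (δ d) = Ideal.Quotient.mk K (φ a)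
      rw [Ideal.Quotient.eq]
      show δ d - φ a ∈ Ideal.span {algebraMap D Λ (πD ^ 4)}
      rw [hK]
      exact hψ a d hd)
    intro a r hr
    rw [← Ideal.Quotient.eq]
    have := AlgHom.congr_fun heq a
    rw [show t₂ a = Ideal.Quotient.mk K (algebraMap D Λ r) by
      show L4 (ρ a) = _
      rw [← hr]; rfl] at this
    exact this
  have hΛD : ∀ x : Λ, πD ^ 2 • x = 0 → πD • x = 0 := fun x hx => by
    rw [show πD • x = π • x from algebraMap_smul D π x]
    refine hΛ x ?_
    rw [← algebraMap_smul D (π ^ 2) x, map_pow]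
    exact hx
  obtain ⟨B, _, _, hfp, α, β, hαβ, hsing⟩ := desingularize πD hΛD φD hπD ρ hρ
  letI : Algebra R B := ((algebraMap D B).comp (algebraMap R D)).toAlgebra
  haveI : IsScalarTower R D B := IsScalarTower.of_algebraMap_eq' rfl
  haveI : Algebra.FinitePresentation R B := Algebra.FinitePresentation.trans R D B
  have h1 : (Smoothing.singularIdeal R D).map (algebraMap D B) ≤ Smoothing.singularIdeal D B :=
    Ideal.map_le_iff_le_comap.2 fun d hd => by
      obtain ⟨n, hn⟩ := exists_pow_mul_annihilator π hR d hd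
      refine (PrimeSpectrum.mem_vanishingIdeal _ _).2 fun q hq => ?_
      refine q.isPrime.mem_of_pow_mem n ?_
      rw [← map_pow]
      exact (PrimeSpectrum.mem_vanishingIdeal _ _).1 (hsing (d ^ n) fun x hx => hn x hx) q hq
  have h2 : (Smoothing.singularIdeal R D).map (algebraMap D B) ≤ Smoothing.singularIdeal R B :=
    Ideal.map_le_iff_le_comap.2 fun d hd => by
      refine (PrimeSpectrum.mem_vanishingIdeal _ _).2 fun q hq => ?_
      by_contra hdq
      refine hq ?_
      haveI hDB : Algebra.FormallySmooth D (Localization.AtPrime q.asIdeal) := by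
        by_contra hns
        exact hdq ((PrimeSpectrum.mem_vanishingIdeal _ _).1 (h1 (Ideal.mem_map_of_mem _ hd)) q hns)
      let p : Ideal D := q.asIdeal.comap (algebraMap D B)
      haveI hRD : Algebra.FormallySmooth R (Localization.AtPrime p) := by
        by_contra hns
        exact hdq ((PrimeSpectrum.mem_vanishingIdeal _ _).1 hd ⟨p, inferInstance⟩ hns)
      let Dp := Localization.AtPrime p
      let Bq := Localization.AtPrime q.asIdeal
      letI : Algebra Dp Bq := (IsLocalization.lift (M := p.primeCompl) (S := Dp) (g := algebraMap D Bq)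
        fun y => by
          rw [IsScalarTower.algebraMap_apply D B Bq]
          exact IsLocalization.map_units Bq (⟨_, y.2⟩ : q.asIdeal.primeCompl)).toAlgebra
      haveI : IsScalarTower D Dp Bq :=
        IsScalarTower.of_algebraMap_eq (R := D) (S := Dp) (A := Bq) fun x => (IsLocalization.lift_eq _ x).symm
      haveI : IsScalarTower R Dp Bq := IsScalarTower.to₁₃₄ R D Dp Bq
      haveI : Algebra.FormallySmooth Dp Bq := Algebra.FormallySmooth.localization_base p.primeCompl
      exact Algebra.FormallySmooth.comp R Dp Bq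
  refine ⟨B, inferInstance, inferInstance, inferInstance, inferInstance, inferInstance,
    (α.restrictScalars R).comp Algebra.TensorProduct.includeRight, β.restrictScalars R,
    AlgHom.ext fun a => ?_, AlgHom.ext fun d => β.commutes d, h1, h2⟩
  show β (α ((1 : D) ⊗ₜ[R] a)) = φ a
  rw [show β (α _) = φD _ from AlgHom.congr_fun hαβ _, hφD]

end Groth.Agent.Lib.SmoothingH7
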