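import Groth.Agent.Lib.SmoothingH7.LiftSq
import Groth.Agent.Lib.SmoothingH7.DesingRel

/-! Lifting a factorisation modulo `π⁸` to a factorisation. -/

set_option autoImplicit false

universe u

namespace Groth.Agent.Lib.SmoothingH7

theorem isSmoothAt_congr {R D : Type u} [CommRing R] [CommRing D] [Algebra R D] {I J : Ideal D} [I.IsPrime]
    [J.IsPrime] (h : I = J) (hI : Algebra.IsSmoothAt R I) : Algebra.IsSmoothAt R J := by
  subst h; exact hI

theorem exists_factor_of_mod {R Λ A C₀ : Type u} [CommRing R] [IsNoetherianRing R] [CommRing Λ]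
    [Algebra R Λ] (π : R) (hR : ∀ r : R, π ^ 2 * r = 0 → π * r = 0)
    (hΛ : ∀ x : Λ, π ^ 2 • x = 0 → π • x = 0) [CommRing A] [Algebra R A]
    [Algebra.FinitePresentation R A] (φ : A →ₐ[R] Λ)
    (hπ : Smoothing.IsStrictlyStandard R A (algebraMap R A π)) (p : R) (hp : p = (π ^ 4) ^ 2)
    [CommRing C₀] [Algebra R C₀] [Algebra (R ⧸ Ideal.span {p}) C₀] [IsScalarTower R (R ⧸ Ideal.span {p}) C₀]
    [Algebra.FinitePresentation (R ⧸ Ideal.span {p}) C₀]
    (γ : A →ₐ[R] C₀) (g : C₀ →ₐ[R] Λ ⧸ Ideal.span {algebraMap R Λ p})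
    (hfac : ∀ a : A, g (γ a) = Ideal.Quotient.mk (Ideal.span {algebraMap R Λ p}) (φ a)) :
    ∃ (B : Type u) (_ : CommRing B) (_ : Algebra R B), Algebra.FinitePresentation R B ∧
      ∃ (α : A →ₐ[R] B) (β : B →ₐ[R] Λ), β.comp α = φ ∧
        (∀ (Q : Ideal B) [Q.IsPrime], algebraMap R B π ∉ Q → Algebra.IsSmoothAt R Q) ∧
        (Smoothing.singularIdeal (R ⧸ Ideal.span {p}) C₀).map g ≤
          ((Smoothing.singularIdeal R B).map β).radical.map (Ideal.Quotient.mk (Ideal.span {algebraMap R Λ p})) := by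
  subst hp
  have hR' : ∀ k : ℕ, ∀ r : R, π ^ k * r = 0 → π * r = 0 := by
    intro k
    induction k with
    | zero => intro r hr; rw [pow_zero, one_mul] at hr; rw [hr, mul_zero]
    | succ k ih =>
      intro r hr
      exact hR r ((sq π).symm ▸ (mul_assoc π π r).trans (ih (π * r) (by rw [← hr]; ring)))
  have hΛ' : ∀ k : ℕ, ∀ x : Λ, π ^ k • x = 0 → π • x = 0 := by
    intro k
    induction k with
    | zero => intro x hx; rw [pow_zero, one_smul] at hx; rw [hx, smul_zero]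
    | succ k ih =>
      intro x hx
      refine hΛ x ?_
      rw [sq, mul_smul]
      exact ih (π • x) (by rw [smul_smul, ← pow_succ]; exact hx)
  obtain ⟨D, _, _, _, δ, ψ, hψ, hoff, hon⟩ := exists_lift_sq (π ^ 4)
    (fun r hr => by rw [← pow_mul] at hr; rw [pow_succ, mul_assoc, hR' _ r hr, mul_zero])
    (fun x hx => by rw [← pow_mul] at hx; rw [pow_succ, mul_smul, hΛ' _ x hx, smul_zero]) g
  obtain ⟨B, _, _, _, _, hfp, α, β, hαβ, hβδ, -, hsing⟩ := desingularize_rel π hR hΛ φ δ hπ (ψ.comp γ)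
    fun a d hd => hψ (γ a) d (φ a) hd (hfac a).symm
  have hπD : algebraMap R D π ∈ Smoothing.singularIdeal R D := by
    refine (PrimeSpectrum.mem_vanishingIdeal _ _).2 fun Q hQ => ?_
    by_contra hπQ
    exact hQ (hoff Q.asIdeal fun h => hπQ (Q.isPrime.mem_of_pow_mem 4 (by rwa [← map_pow])))
  have hπB : algebraMap R B π ∈ Smoothing.singularIdeal R B := by
    rw [IsScalarTower.algebraMap_apply R D B]
    exact hsing (Ideal.mem_map_of_mem _ hπD)
  refine ⟨B, inferInstance, inferInstance, hfp, α, β, hαβ, fun Q hQ hπQ => ?_, ?_⟩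
  · by_contra hns
    exact hπQ ((PrimeSpectrum.mem_vanishingIdeal _ _).1 hπB ⟨Q, hQ⟩ hns)
  rw [Ideal.map_le_iff_le_comap]
  intro c hc
  obtain ⟨d, hd⟩ := Ideal.Quotient.mk_surjective (ψ c)
  obtain ⟨l, hl⟩ := Ideal.Quotient.mk_surjective (g c)
  rw [Ideal.mem_comap, ← hl]
  refine Ideal.mem_map_of_mem _ ?_
  have hdD : d ∈ Smoothing.singularIdeal R D := by
    refine (PrimeSpectrum.mem_vanishingIdeal _ _).2 fun Q hQ => ?_
    by_contra hdQ
    have hπQ : algebraMap R D (π ^ 4) ∈ Q.asIdeal := by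
      by_contra h
      exact hQ (hoff Q.asIdeal h)
    let K : Ideal D := Ideal.span {algebraMap R D (π ^ 4)}
    have hK : K ≤ Q.asIdeal := (Ideal.span_singleton_le_iff_mem _).2 hπQ
    let Q' : Ideal (D ⧸ K) := Q.asIdeal.map (Ideal.Quotient.mk K)
    have hQ' : Q'.comap (Ideal.Quotient.mk K) = Q.asIdeal := by
      rw [Ideal.comap_map_of_surjective _ Ideal.Quotient.mk_surjective, ← RingHom.ker_eq_comap_bot, Ideal.mk_ker]
      exact sup_eq_left.2 hK
    haveI : Q'.IsPrime := Ideal.map_isPrime_of_surjective Ideal.Quotient.mk_surjective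
      (by rw [Ideal.mk_ker]; exact hK)
    haveI hPp : (Q'.comap ψ).IsPrime := Ideal.IsPrime.comap _
    have hsmC : Algebra.IsSmoothAt (R ⧸ Ideal.span {(π ^ 4) ^ 2}) (Q'.comap ψ) := by
      by_contra hns
      have h1 : ψ c ∈ Q' := (PrimeSpectrum.mem_vanishingIdeal _ _).1 hc ⟨Q'.comap ψ, hPp⟩ hns
      rw [← hd] at h1
      exact hdQ (hQ' ▸ h1)
    have h2 := hon Q' hsmC
    refine hQ ?_
    show Algebra.IsSmoothAt R Q.asIdeal
    exact isSmoothAt_congr hQ' h2
  have h1 : δ d ∈ ((Smoothing.singularIdeal R B).map β).radical := Ideal.le_radical (by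
    rw [← hβδ]
    exact Ideal.mem_map_of_mem β (hsing (Ideal.mem_map_of_mem _ hdD)))
  have h2 : Ideal.span {algebraMap R Λ (π ^ 4)} ≤ ((Smoothing.singularIdeal R B).map β).radical := by
    rw [Ideal.span_singleton_le_iff_mem, ← β.commutes]
    refine Ideal.le_radical (Ideal.mem_map_of_mem β ?_)
    rw [map_pow, pow_succ]
    exact Ideal.mul_mem_left _ _ hπB
  have h3 := h2 (hψ c d l hd hl)
  have h4 := Ideal.sub_mem _ h1 h3
  rwa [sub_sub_cancel] at h4

end Groth.Agent.Lib.SmoothingH7
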