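import Groth.Agent.Lib.SmoothingH7.LiftOnce
import Mathlib.RingTheory.TensorProduct.Quotient
import Mathlib.RingTheory.Ideal.Quotient.Nilpotent
import Mathlib.RingTheory.RingHom.Smooth
import Mathlib.RingTheory.RingHom.FinitePresentation

/-! Ind-smoothness lifts along nilpotent flat deformations. -/

set_option autoImplicit false

universe u

open MvPolynomial TensorProduct

namespace Groth.Agent.Lib.SmoothingH7

theorem indSmooth_of_sq_zero {R Λ : Type u} [CommRing R] [CommRing Λ] [Algebra R Λ] [Module.Flat R Λ]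
    (I : Ideal R) (hI : I ^ 2 = ⊥) (h : Smoothing.IndSmooth (R ⧸ I) (Λ ⧸ I.map (algebraMap R Λ))) :
    Smoothing.IndSmooth R Λ := by
  classical
  intro A _ _ hA ψA
  obtain ⟨B, _, _, hB, J, hJI, hJfg, g, k, hgk⟩ := lift_once I hI h ψA
  haveI := hB
  let φ : B →ₐ[R] Λ := k.comp (Ideal.Quotient.mkₐ R J)
  have hφJ : ∀ x ∈ J, φ x = 0 := fun x hx => by
    show k (Ideal.Quotient.mk J x) = 0
    rw [Ideal.Quotient.eq_zero_iff_mem.2 hx, map_zero]
  obtain ⟨B', _, _, hB', α, β, hα, hβ⟩ := lifting_lemma I hI h φ J hJI hJfg hφJ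
  haveI := hB'
  letI : Algebra B Λ := φ.toRingHom.toAlgebra
  haveI : IsScalarTower R B Λ := IsScalarTower.of_algebraMap_eq fun r => (φ.commutes r).symm
  let IΛ : Ideal Λ := I.map (algebraMap R Λ)
  have hmulI : ∀ x ∈ IΛ, ∀ y ∈ IΛ, x * y = 0 := fun x hx y hy => mul_eq_zero_of_mem I hI hx hy
  let δ₀ : B →ₗ[R] IΛ := ((β.comp α).toLinearMap - φ.toLinearMap).codRestrict (IΛ.restrictScalars R) hβ
  have hδ₀ : ∀ b, (δ₀ b : Λ) = β (α b) - φ b := fun b => rfl
  let δ : Derivation R B IΛ := Derivation.mk' δ₀ fun a b => Subtype.ext (by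
    show (δ₀ (a * b) : Λ) = φ a * (δ₀ b : Λ) + φ b * (δ₀ a : Λ)
    rw [hδ₀, hδ₀, hδ₀, map_mul, map_mul, map_mul]
    linear_combination hmulI _ (hβ a) _ (hβ b))
  obtain ⟨r, f, hf⟩ := Module.Finite.exists_fin' B Ω[B⁄R]
  obtain ⟨sec, hsec⟩ := f.exists_rightInverse_of_surjective (LinearMap.range_eq_top.2 hf)
  let ξ : Fin r → Derivation R B B := fun i =>
    ((LinearMap.proj i).comp sec).compDer (KaehlerDifferential.D R B)
  let ω : Fin r → Λ := fun i => (δ.liftKaehlerDifferential (f (Pi.single i 1)) : Λ)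
  have hω : ∀ i, ω i ∈ IΛ := fun i => (δ.liftKaehlerDifferential (f (Pi.single i 1))).2
  have hδξ : ∀ b, (δ₀ b : Λ) = ∑ i, φ (ξ i b) * ω i := fun b => by
    have h1 : δ b = δ.liftKaehlerDifferential (f (sec (KaehlerDifferential.D R B b))) := by
      rw [show f (sec _) = _ from LinearMap.congr_fun hsec _]
      exact (Derivation.liftKaehlerDifferential_comp_D δ b).symm
    rw [show (δ₀ b : Λ) = (δ b : Λ) from rfl, h1, pi_eq_sum_univ' (sec (KaehlerDifferential.D R B b)), map_sum,
      map_sum, AddSubmonoidClass.coe_finsetSum]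
    refine Finset.sum_congr rfl fun i _ => ?_
    rw [map_smul, map_smul]
    rfl
  choose N rr lam hrr hlam using fun i => exists_sum_of_mem I (hω i)
  let σ := Σ i : Fin r, Fin (N i)
  let B'' := MvPolynomial σ B'
  haveI : Algebra.Smooth B' B'' := ⟨inferInstance, inferInstance⟩
  haveI : Algebra.Smooth R B'' := Algebra.Smooth.comp R B' B''
  let p : Fin r → B'' := fun i => ∑ t, algebraMap R B'' (rr i t) * X ⟨i, t⟩
  have hp : ∀ i, p i ∈ I.map (algebraMap R B'') := fun i =>
    Ideal.sum_mem _ fun t _ => Ideal.mul_mem_right _ _ (Ideal.mem_map_of_mem _ (hrr i t))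
  let α₂ : B → B'' := fun b => C (α b) - ∑ i, C (α (ξ i b)) * p i
  have hS : ∀ b, (∑ i, C (α (ξ i b)) * p i) ∈ I.map (algebraMap R B'') := fun b =>
    Ideal.sum_mem _ fun i _ => Ideal.mul_mem_left _ _ (hp i)
  let α' : B →ₐ[R] B'' :=
    { toFun := α₂
      map_one' := by simp [α₂]
      map_zero' := by simp [α₂]
      map_add' := fun a b => by
        simp only [α₂, map_add, add_mul, Finset.sum_add_distrib]; ring
      map_mul' := fun a b => by
        have e : (∑ i, C (α (ξ i (a * b))) * p i) =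
            C (α a) * (∑ i, C (α (ξ i b)) * p i) + C (α b) * (∑ i, C (α (ξ i a)) * p i) := by
          simp only [Derivation.leibniz, smul_eq_mul, map_add, map_mul, add_mul, Finset.sum_add_distrib,
            Finset.mul_sum, mul_assoc]
        show C (α (a * b)) - _ = (C (α a) - _) * (C (α b) - _)
        rw [e, map_mul, map_mul]
        linear_combination -(mul_eq_zero_of_mem I hI (hS a) (hS b))
      commutes' := fun c => by
        simp only [α₂, Derivation.map_algebraMap, map_zero, zero_mul, Finset.sum_const_zero, sub_zero,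
          AlgHom.commutes]
        exact (IsScalarTower.algebraMap_apply R B' B'' c).symm }
  let β' : B'' →ₐ[R] Λ := aevalTower β fun s : σ => lam s.1 s.2
  have hβ'p : ∀ i, β' (p i) = ω i := fun i => by
    rw [hlam i, map_sum]
    exact Finset.sum_congr rfl fun t _ => by rw [map_mul, β'.commutes, aevalTower_X]
  have hcomp : ∀ b, β' (α' b) = φ b := fun b => by
    show β' (C (α b) - ∑ i, C (α (ξ i b)) * p i) = φ b
    rw [map_sub, aevalTower_C, map_sum]
    have h1 : ∀ i, β' (C (α (ξ i b)) * p i) = φ (ξ i b) * ω i := fun i => by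
      rw [map_mul, aevalTower_C, hβ'p]
      linear_combination hmulI _ (hβ (ξ i b)) _ (hω i)
    rw [Finset.sum_congr rfl fun i _ => h1 i, ← hδξ, hδ₀]
    ring
  have hkill : ∀ x ∈ J, α' x = 0 := fun x hx => by
    show C (α x) - ∑ i, C (α (ξ i x)) * p i = 0
    rw [hα x hx, map_zero, zero_sub, neg_eq_zero]
    refine Finset.sum_eq_zero fun i _ => mul_eq_zero_of_mem I hI ?_ (hp i)
    obtain ⟨M, c, d, hc, hxs⟩ := exists_sum_of_mem I (hJI hx)
    rw [hxs, map_sum, map_sum, map_sum]
    refine Ideal.sum_mem _ fun t _ => ?_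
    rw [← Algebra.smul_def, Derivation.map_smul, Algebra.smul_def, map_mul, map_mul, α.commutes,
      show C (algebraMap R B' (c t)) = algebraMap R B'' (c t) from (IsScalarTower.algebraMap_apply R B' B'' _).symm]
    exact Ideal.mul_mem_right _ _ (Ideal.mem_map_of_mem _ (hc t))
  refine ⟨B'', inferInstance, inferInstance, inferInstance, (Ideal.Quotient.liftₐ J α' hkill).comp g, β', ?_⟩
  rw [← hgk]
  refine AlgHom.ext fun x => ?_
  obtain ⟨b, hb⟩ := Ideal.Quotient.mk_surjective (g x)
  show β' (Ideal.Quotient.liftₐ J α' hkill (g x)) = k (g x)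
  rw [← hb]
  exact hcomp b

/-- Ind-smoothness is invariant under isomorphisms of base and algebra. -/
theorem indSmooth_of_equiv {R R' Λ Λ' : Type u} [CommRing R] [CommRing R'] [CommRing Λ] [CommRing Λ'] [Algebra R Λ]
    [Algebra R' Λ'] (eR : R ≃+* R') (eΛ : Λ ≃+* Λ') (he : ∀ r, eΛ (algebraMap R Λ r) = algebraMap R' Λ' (eR r))
    (h : Smoothing.IndSmooth R Λ) : Smoothing.IndSmooth R' Λ' := by
  intro A _ _ hA f
  letI : Algebra R A := ((algebraMap R' A).comp eR.toRingHom).toAlgebra
  have hA' : Algebra.FinitePresentation R A := by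
    rw [← RingHom.finitePresentation_algebraMap, RingHom.algebraMap_toAlgebra]
    exact (RingHom.finitePresentation_algebraMap.2 hA).comp (RingHom.FinitePresentation.of_bijective eR.bijective)
  let f' : A →ₐ[R] Λ :=
    { eΛ.symm.toRingHom.comp f.toRingHom with
      commutes' := fun r => by
        show eΛ.symm (f (algebraMap R' A (eR r))) = _
        rw [f.commutes, ← he, RingEquiv.symm_apply_apply] }
  obtain ⟨B, _, _, hB, g, k, hgk⟩ := h A hA' f'
  letI : Algebra R' B := ((algebraMap R B).comp eR.symm.toRingHom).toAlgebra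
  have hB' : Algebra.Smooth R' B := by
    rw [← RingHom.smooth_algebraMap, RingHom.algebraMap_toAlgebra]
    exact (RingHom.Smooth.of_bijective (f := eR.symm.toRingHom) eR.symm.bijective).comp (RingHom.smooth_algebraMap.2 hB)
  have hsym : ∀ r', eR (eR.symm r') = r' := eR.apply_symm_apply
  refine ⟨B, inferInstance, inferInstance, hB',
    { g.toRingHom with commutes' := fun r' => ?_ },
    { eΛ.toRingHom.comp k.toRingHom with commutes' := fun r' => ?_ }, AlgHom.ext fun x => ?_⟩
  · show g (algebraMap R' A r') = algebraMap R B (eR.symm r')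
    rw [← g.commutes]
    show _ = g (algebraMap R' A (eR (eR.symm r')))
    rw [hsym]
  · show eΛ (k (algebraMap R B (eR.symm r'))) = _
    rw [k.commutes, he, hsym]
  · show eΛ (k (g x)) = f x
    rw [show k (g x) = f' x from AlgHom.congr_fun hgk x]
    exact eΛ.apply_symm_apply _

theorem flat_quotient_map {R Λ : Type u} [CommRing R] [CommRing Λ] [Algebra R Λ] [Module.Flat R Λ] (I : Ideal R) :
    Module.Flat (R ⧸ I) (Λ ⧸ I.map (algebraMap R Λ)) :=
  Module.Flat.of_linearEquiv (Algebra.TensorProduct.quotIdealMapEquivQuotTensor Λ I).toLinearEquiv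

theorem indSmooth_of_nilpotent {R Λ : Type u} [CommRing R] [CommRing Λ] [Algebra R Λ] (I : Ideal R)
    (hI : IsNilpotent I) [hflat : Module.Flat R Λ]
    (h : Smoothing.IndSmooth (R ⧸ I) (Λ ⧸ I.map (algebraMap R Λ))) : Smoothing.IndSmooth R Λ := by
  let P : ∀ ⦃S : Type u⦄ [CommRing S], Ideal S → Prop := fun {S} _ I =>
    ∀ (Λ : Type u) [CommRing Λ] [Algebra S Λ] [Module.Flat S Λ],
      Smoothing.IndSmooth (S ⧸ I) (Λ ⧸ I.map (algebraMap S Λ)) → Smoothing.IndSmooth S Λ
  suffices H : P I from H Λ h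
  refine Ideal.IsNilpotent.induction_on (S := R) I hI (P := P) ?_ ?_
  · intro S _ I hI Λ _ _ _ h
    exact indSmooth_of_sq_zero I hI h
  · intro S _ I J hIJ h1 h2 Λ _ _ _ h
    refine h1 Λ ?_
    haveI := flat_quotient_map (R := S) (Λ := Λ) I
    refine h2 _ ?_
    let IΛ := I.map (algebraMap S Λ)
    have hle : IΛ ≤ J.map (algebraMap S Λ) := Ideal.map_mono hIJ
    have he : (J.map (Ideal.Quotient.mk I)).map (algebraMap (S ⧸ I) (Λ ⧸ IΛ)) =
        (J.map (algebraMap S Λ)).map (Ideal.Quotient.mk IΛ) := by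
      rw [Ideal.map_map, Ideal.map_map]
      rfl
    refine indSmooth_of_equiv (DoubleQuot.quotQuotEquivQuotOfLE hIJ).symm
      (((Ideal.quotEquivOfEq he).trans (DoubleQuot.quotQuotEquivQuotOfLE hle)).symm) (fun s => ?_) h
    obtain ⟨s, rfl⟩ := Ideal.Quotient.mk_surjective s
    rw [RingEquiv.symm_apply_eq]
    rfl

end Groth.Agent.Lib.SmoothingH7
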