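import Groth.Prelude.Def_Smoothing
import Mathlib.RingTheory.Smooth.StandardSmooth
import Mathlib.LinearAlgebra.Matrix.NonsingularInverse
import Mathlib.RingTheory.Finiteness.Ideal

/-! Elementary standard elements give standard smooth localizations. -/

universe u
open MvPolynomial

namespace Groth.Agent.Lib.SmoothingH7

/-- If `v` times each generator `g j` of an ideal `K` lies in `K²`, some `D` kills `K` and is
congruent to a power of `v` modulo `K`. -/
theorem exists_annihilator {B : Type u} [CommRing B] {m : ℕ} (g : Fin m → B) (v : B)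
    (h : ∀ j, v * g j ∈ Ideal.span (Set.range g) ^ 2) :
    ∃ D : B, (∀ x ∈ Ideal.span (Set.range g), D * x = 0) ∧
      D - v ^ m ∈ Ideal.span (Set.range g) := by
  classical
  set K := Ideal.span (Set.range g) with hK
  have hc : ∀ j, ∃ c : Fin m → B, (∀ l, c l ∈ K) ∧ ∑ l, c l * g l = v * g j := by
    intro j
    have : v * g j ∈ K • Submodule.span B (Set.range g) := by
      have e := h j
      rwa [pow_two] at e
    obtain ⟨c, hc, e⟩ := (Submodule.mem_ideal_smul_span_iff_exists_sum K g _).mp this
    refine ⟨fun l => c l, hc, ?_⟩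
    rw [← e, Finsupp.sum_fintype]
    · simp [smul_eq_mul]
    · simp
  choose c hcK hc using hc
  set M : Matrix (Fin m) (Fin m) B := Matrix.scalar (Fin m) v - Matrix.of c with hM
  have hMg : M.mulVec g = 0 := by
    ext j
    simp only [hM, Matrix.sub_mulVec, Pi.sub_apply, Pi.zero_apply]
    rw [sub_eq_zero]
    simp [Matrix.mulVec, dotProduct, Matrix.diagonal, hc]
  have hd : ∀ j, M.det * g j = 0 := by
    intro j
    have e := congr_arg (fun w => M.adjugate.mulVec w) hMg
    simp only [Matrix.mulVec_mulVec, Matrix.adjugate_mul, Matrix.mulVec_zero] at e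
    simpa [Matrix.smul_mulVec] using congr_fun e j
  refine ⟨M.det, ?_, ?_⟩
  · intro x hx
    induction hx using Submodule.span_induction with
    | mem x hx => obtain ⟨j, rfl⟩ := hx; exact hd j
    | zero => simp
    | add x y _ _ hx hy => rw [mul_add, hx, hy, add_zero]
    | smul r x _ hx => rw [smul_eq_mul, ← mul_assoc, mul_comm _ r, mul_assoc, hx, mul_zero]
  · rw [← Ideal.Quotient.eq, RingHom.map_det]
    have : (Ideal.Quotient.mk K).mapMatrix M = Matrix.scalar (Fin m) (Ideal.Quotient.mk K v) := by
      ext i j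
      have hz : Ideal.Quotient.mk K (c i j) = 0 := Ideal.Quotient.eq_zero_iff_mem.mpr (hcK i j)
      by_cases hij : i = j <;> simp [hM, hij] <;> simp_all
    rw [this]
    simp

variable {R A : Type u} [CommRing R] [CommRing A] [Algebra R A]

/-- `A_a` is standard smooth when `a` is elementary standard. -/
theorem isStandardSmooth_away (a : A) (ha : Smoothing.IsElementaryStandard R A a)
    (L : Type u) [CommRing L] [Algebra A L] [Algebra R L] [IsScalarTower R A L]
    [IsLocalization.Away a L] :
    Algebra.IsStandardSmooth R L := by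
  classical
  obtain ⟨P, ⟨a₁, hJ⟩, hkill⟩ := ha
  let v : Fin P.c → MvPolynomial (Fin P.n) R := fun i => P.rel (Fin.castLE P.hcm i)
  let J₀ : Ideal (MvPolynomial (Fin P.n) R) := Ideal.span (Set.range v)
  have hle : J₀ ≤ Ideal.span (Set.range P.rel) :=
    Ideal.span_mono (by rintro _ ⟨i, rfl⟩; exact ⟨_, rfl⟩)
  let B := MvPolynomial (Fin P.n) R ⧸ J₀
  let π : B →ₐ[R] A := Ideal.Quotient.liftₐ J₀ P.hom (fun x hx => by
    have := hle hx; rw [← P.ker_eq] at this; exact this)
  have hπ : ∀ x, π (Ideal.Quotient.mk J₀ x) = P.hom x := fun x => rfl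
  letI : Algebra B A := π.toRingHom.toAlgebra
  haveI : IsScalarTower R B A := IsScalarTower.of_algebraMap_eq' π.comp_algebraMap.symm
  obtain ⟨a', ha'⟩ := P.surj a
  let g : Fin P.m → B := fun j => Ideal.Quotient.mk J₀ (P.rel j)
  have hker : ∀ x : B, π x = 0 ↔ x ∈ Ideal.span (Set.range g) := by
    intro x
    obtain ⟨x, rfl⟩ := Ideal.Quotient.mk_surjective x
    rw [hπ]
    change _ ↔ _ ∈ Ideal.span (Set.range (Ideal.Quotient.mk J₀ ∘ P.rel))
    rw [Set.range_comp, ← Ideal.map_span, Ideal.mem_quotient_iff_mem hle, ← P.ker_eq]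
    exact RingHom.mem_ker.symm
  obtain ⟨D, hD, hDc⟩ := exists_annihilator g (Ideal.Quotient.mk J₀ a') (fun j => by
    by_cases hj : (j : ℕ) < P.c
    · have : g j = 0 := Ideal.Quotient.eq_zero_iff_mem.mpr
        (Ideal.subset_span ⟨⟨j, hj⟩, by simp [v]⟩)
      simp [this]
    · have h2 : a' * P.rel j ∈ J₀ ⊔ Ideal.span (Set.range P.rel) ^ 2 := by
        refine SetLike.le_def.mp (sup_le_sup_right (a := Ideal.span _) (Ideal.span_mono ?_) _) (hkill a' ha' j (Nat.le_of_not_lt hj))
        rintro _ ⟨j', hj', rfl⟩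
        exact ⟨⟨j', hj'⟩, by simp [v]⟩
      have h3 := Ideal.mem_map_of_mem (Ideal.Quotient.mk J₀) h2
      rw [Ideal.map_sup, Ideal.map_quotient_self, bot_sup_eq, Ideal.map_pow, Ideal.map_span,
        ← Set.range_comp, map_mul] at h3
      exact h3)
  have hπD : π D = a ^ P.m := by
    have := (hker _).mpr hDc
    rwa [map_sub, map_pow, hπ, ha', sub_eq_zero] at this
  let J := Ideal.Quotient.mk J₀ (Smoothing.jacobianMinor P.rel (Fin.castLE P.hcm) (Fin.castLE P.hcn))
  have hJ' : a = a₁ * π J := hJ
  set a0 := algebraMap A L a with ha0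
  have hau : IsUnit a0 := IsLocalization.Away.algebraMap_isUnit a
  have hJu : IsUnit (algebraMap A L (π J)) := by
    have hau := hau
    rw [ha0, hJ', map_mul] at hau
    exact (IsUnit.mul_iff.mp hau).2
  set u := Ideal.Quotient.mk J₀ a'
  let h : B := J * (D * u)
  letI : Algebra B L := ((algebraMap A L).comp π.toRingHom).toAlgebra
  haveI : IsScalarTower B A L := IsScalarTower.of_algebraMap_eq' rfl
  haveI : IsScalarTower R B L := IsScalarTower.of_algebraMap_eq (R := R) (S := B) (A := L) (fun r => by
    rw [IsScalarTower.algebraMap_apply R A L]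
    show _ = algebraMap A L (π (algebraMap R B r))
    rw [π.commutes])
  have hmap : ∀ x : B, algebraMap B L x = algebraMap A L (π x) := fun x => rfl
  have hh : algebraMap B L h = algebraMap A L (π J) * a0 ^ (P.m + 1) := by
    simp only [hmap, h, map_mul, hπD, u, hπ, ha', map_pow, ha0, pow_succ]
  have hsurjπ : Function.Surjective π := fun x => by
    obtain ⟨y, rfl⟩ := P.surj x; exact ⟨_, hπ y⟩
  haveI : IsLocalization.Away h L := by
    refine IsLocalization.Away.mk h ?_ (fun z => ?_) (fun x y e => ?_)
    · rw [hh]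
      exact hJu.mul (hau.pow _)
    · obtain ⟨k, z', e⟩ := IsLocalization.Away.surj a z
      obtain ⟨b, rfl⟩ := hsurjπ z'
      refine ⟨k, b * J ^ k * u ^ (P.m * k), ?_⟩
      simp only [map_mul, map_pow, hh]
      rw [hmap b, ← e, hmap J, hmap u]
      simp only [u, hπ, ha', ← ha0]
      ring
    · rw [hmap, hmap] at e
      obtain ⟨k, hk⟩ := IsLocalization.Away.exists_of_eq a e
      have hk' : u ^ k * (x - y) ∈ Ideal.span (Set.range g) := by
        rw [← hker, map_mul, map_pow, map_sub, hπ, ha', mul_sub]
        exact sub_eq_zero.mpr hk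
      refine ⟨k + 1, sub_eq_zero.mp ?_⟩
      have hz := hD _ hk'
      calc h ^ (k + 1) * x - h ^ (k + 1) * y
          = J ^ (k + 1) * D ^ k * u * (D * (u ^ k * (x - y))) := by simp only [h]; ring
        _ = 0 := by rw [hz, mul_zero]
  let Q : Algebra.PreSubmersivePresentation R B (Fin P.n) (Fin P.c) :=
    Algebra.PreSubmersivePresentation.naive (v := v) (Fin.castLE P.hcn) (Fin.castLE_injective _)
  have hQ : Q.jacobian = J := by
    rw [Q.jacobian_eq_jacobiMatrix_det]
    have : Q.jacobiMatrix = (Matrix.of fun j k : Fin P.c =>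
        pderiv (Fin.castLE P.hcn k) (P.rel (Fin.castLE P.hcm j))).transpose := by
      ext1 i j
      rw [Q.jacobiMatrix_apply]
      rfl
    rw [this, Matrix.det_transpose, Algebra.Generators.algebraMap_apply]
    have hval : ∀ p : MvPolynomial (Fin P.n) R, aeval Q.val p = Ideal.Quotient.mk J₀ p := by
      intro p
      have : (aeval Q.val : MvPolynomial (Fin P.n) R →ₐ[R] B) = Ideal.Quotient.mkₐ R J₀ := by
        ext i
        simp [Q]
        rfl
      exact DFunLike.congr_fun this p
    exact hval _
  let S := (Algebra.PreSubmersivePresentation.localizationAway L h).comp Q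
  have hS : IsUnit S.jacobian := by
    simp only [S, Algebra.PreSubmersivePresentation.comp_jacobian_eq_jacobian_smul_jacobian,
      Algebra.PreSubmersivePresentation.localizationAway_jacobian, hQ, Algebra.smul_def]
    rw [hh, hmap]
    exact hJu.mul (hJu.mul (hau.pow _))
  exact (Algebra.SubmersivePresentation.mk S hS).isStandardSmooth

end Groth.Agent.Lib.SmoothingH7
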