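import Groth.Agent.Lib.SmoothingH7.Detect
import Groth.Agent.Lib.SmoothingH7.ElemStd
import Mathlib.RingTheory.Derivation.MapCoeffs
import Mathlib.Algebra.MvPolynomial.Derivation

/-!
The standard elements cut out the singular locus.
-/

set_option autoImplicit false

universe u

open MvPolynomial

namespace Groth.Agent.Lib.SmoothingH7

variable {R A : Type u} [CommRing R] [CommRing A] [Algebra R A]

/-- A standard element at a smooth point. -/
theorem exists_standard_at {n m : ℕ}
    (f : Fin m → MvPolynomial (Fin n) R) (φ : MvPolynomial (Fin n) R →ₐ[R] A) (hφ : Function.Surjective φ)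
    (hker : RingHom.ker φ.toRingHom = Ideal.span (Set.range f)) (q : Ideal A) [q.IsPrime]
    (hsm : Algebra.IsSmoothAt R q) :
    ∃ a : A, a ∉ q ∧ ∃ (c : ℕ) (rows : Fin c ↪ Fin m) (cols : Fin c ↪ Fin n) (a' : A),
      a = a' * φ (Smoothing.jacobianMinor f rows cols) ∧
      ∀ a₁ : MvPolynomial (Fin n) R, φ a₁ = a → ∀ ℓ : Fin m,
        a₁ * f ℓ ∈ Ideal.span (Set.range (f ∘ rows)) ⊔ Ideal.span (Set.range f) ^ 2 := by
  classical
  let B := MvPolynomial (Fin n) R
  letI : Algebra B A := φ.toRingHom.toAlgebra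
  haveI : IsScalarTower R B A := IsScalarTower.of_algebraMap_eq fun r => (φ.commutes r).symm
  obtain ⟨c, rows, D, hinj, hgen, hdet⟩ := exists_rows (R := R) (B := B) hφ f hker q hsm
  let Q : Ideal B := q.comap (algebraMap B A)
  haveI : Q.IsPrime := Ideal.IsPrime.comap _
  let K := FractionRing (B ⧸ Q)
  let ι : B →+* K := (algebraMap (B ⧸ Q) K).comp (Ideal.Quotient.mk Q)
  have hι : ∀ z, ι z = 0 ↔ z ∈ Q := fun z => by
    rw [RingHom.comp_apply, (IsFractionRing.injective (B ⧸ Q) K).eq_iff' (map_zero _),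
      Ideal.Quotient.eq_zero_iff_mem]
  let v : Fin c → Fin n → K := fun i k => ι (pderiv k (f (rows i)))
  have hv : LinearIndependent K v := by
    by_contra hv
    rw [Fintype.not_linearIndependent_iff] at hv
    obtain ⟨g, hg, i₀, hi₀⟩ := hv
    refine hdet ((hι _).1 ?_)
    rw [RingHom.map_det]
    refine Matrix.exists_vecMul_eq_zero_iff.1 ⟨g, fun h => hi₀ (congrFun h i₀), funext fun j => ?_⟩
    have hD : ∀ p : B, D j p = ∑ k, pderiv k p * D j (X k) := by
      intro p
      have h : D j = ∑ k, D j (X k) • pderiv k := derivation_ext fun l => by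
        rw [← Derivation.coeFnAddMonoidHom_apply (∑ k, D j (X k) • pderiv k), map_sum, Finset.sum_apply]
        simp only [Derivation.coeFnAddMonoidHom_apply, Derivation.smul_apply, pderiv_X, smul_eq_mul]
        rw [Finset.sum_eq_single l (fun k _ hk => by rw [Pi.single_eq_of_ne' hk, mul_zero])
          (by simp), Pi.single_eq_same, mul_one]
      conv_lhs => rw [h]
      rw [← Derivation.coeFnAddMonoidHom_apply, map_sum, Finset.sum_apply]
      simp [mul_comm]
    show ∑ i, g i * ι (D j (f (rows i))) = 0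
    have hsum : ∀ i, ι (D j (f (rows i))) = ∑ k, ι (pderiv k (f (rows i))) * ι (D j (X k)) := fun i => by
      rw [hD (f (rows i)), map_sum]
      exact Finset.sum_congr rfl fun k _ => map_mul ι _ _
    simp only [hsum, Finset.mul_sum]
    rw [Finset.sum_comm]
    refine Finset.sum_eq_zero fun k _ => ?_
    simp only [← mul_assoc, ← Finset.sum_mul]
    rw [show ∑ i, g i * ι (pderiv k (f (rows i))) = 0 by
      simpa [v, Finset.sum_apply] using congrFun hg k, zero_mul]
  obtain ⟨cols, hcols⟩ := LeftInv.exists_columns_det_ne_zero v hv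
  have hcinj : Function.Injective cols := fun i j h => by
    by_contra hne
    exact hcols (Matrix.det_zero_of_column_eq hne fun k => by simp [h])
  choose w hw hwx using fun l => hgen (f l) (Ideal.subset_span ⟨l, rfl⟩)
  let Δ := Smoothing.jacobianMinor f rows cols
  have hΔ : Δ ∉ Q := fun h => hcols (by
    have e : (Matrix.of fun i j => v i (cols j)) =
        ι.mapMatrix (Matrix.of fun j k : Fin c => pderiv (cols k) (f (rows j))) := rfl
    rw [e, ← RingHom.map_det]
    exact (hι _).2 h)
  refine ⟨φ ((∏ l, w l) * Δ), fun h => ?_, c, ⟨rows, hinj⟩, ⟨cols, hcinj⟩, φ (∏ l, w l), map_mul φ _ _,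
    fun a₁ ha₁ l => ?_⟩
  · refine hΔ ((‹Q.IsPrime›.mem_or_mem (show (∏ l, w l) * Δ ∈ Q from h)).resolve_left fun h' => ?_)
    obtain ⟨l, -, hl⟩ := ‹Q.IsPrime›.prod_mem_iff.1 h'
    exact hw l hl
  · have hi : a₁ - (∏ l, w l) * Δ ∈ Ideal.span (Set.range f) := by
      rw [← hker]
      exact RingHom.mem_ker.2 (show φ _ = 0 by rw [map_sub, ha₁, sub_self])
    rw [show a₁ * f l = ((∏ l, w l) * Δ) * f l + (a₁ - (∏ l, w l) * Δ) * f l by ring]
    refine Submodule.add_mem_sup ?_ ?_
    · rw [← Finset.mul_prod_erase _ w (Finset.mem_univ l),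
        show w l * (∏ x ∈ Finset.univ.erase l, w x) * Δ * f l =
          ((∏ x ∈ Finset.univ.erase l, w x) * Δ) * (w l * f l) by ring]
      exact Ideal.mul_mem_left _ _ (hwx l)
    · rw [pow_two]
      exact Ideal.mul_mem_mul hi (Ideal.subset_span ⟨l, rfl⟩)

/-- Reordering a presentation puts the chosen relations and variables first. -/
theorem isElementaryStandard_of_rows_cols {n m c : ℕ}
    (f : Fin m → MvPolynomial (Fin n) R) (φ : MvPolynomial (Fin n) R →ₐ[R] A) (hφ : Function.Surjective φ)
    (hker : RingHom.ker φ.toRingHom = Ideal.span (Set.range f))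
    (rows : Fin c ↪ Fin m) (cols : Fin c ↪ Fin n) (a a' : A)
    (ha : a = a' * φ (Smoothing.jacobianMinor f rows cols))
    (hkill : ∀ a₁ : MvPolynomial (Fin n) R, φ a₁ = a → ∀ ℓ : Fin m,
        a₁ * f ℓ ∈ Ideal.span (Set.range (f ∘ rows)) ⊔ Ideal.span (Set.range f) ^ 2) :
    Smoothing.IsElementaryStandard R A a := by
  classical
  have hcm : c ≤ m := by simpa using Fintype.card_le_of_embedding rows
  have hcn : c ≤ n := by simpa using Fintype.card_le_of_embedding cols
  obtain ⟨em, hem⟩ := Equiv.Perm.exists_extending_pair (Fin.castLE hcm) rows (Fin.castLE_injective _) rows.injective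
  obtain ⟨en, hen⟩ := Equiv.Perm.exists_extending_pair (Fin.castLE hcn) cols (Fin.castLE_injective _) cols.injective
  let σ := rename (R := R) (en.symm : Fin n → Fin n)
  let τ := rename (R := R) (en : Fin n → Fin n)
  have hτσ : ∀ p, τ (σ p) = p := fun p => by simp [σ, τ, rename_rename]
  have hστ : ∀ p, σ (τ p) = p := fun p => by simp [σ, τ, rename_rename]
  let rel' : Fin m → MvPolynomial (Fin n) R := fun j => σ (f (em j))
  have hspan : Ideal.span (Set.range rel') = (Ideal.span (Set.range f)).map σ.toRingHom := by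
    rw [Ideal.map_span, ← Set.range_comp]
    exact congrArg Ideal.span (em.surjective.range_comp fun j => σ (f j))
  let P : Smoothing.MarkedPresentation R A :=
    { n := n, m := m, c := c, hcn := hcn, hcm := hcm, rel := rel', hom := φ.comp τ,
      surj := fun x => by
        obtain ⟨y, rfl⟩ := hφ x
        exact ⟨σ y, by show φ (τ (σ y)) = φ y; rw [hτσ]⟩
      ker_eq := by
        rw [hspan, ← hker]
        refine le_antisymm (fun x hx => ?_) (Ideal.map_le_iff_le_comap.2 fun x hx => ?_)
        · rw [← hστ x]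
          exact Ideal.mem_map_of_mem σ.toRingHom hx
        · show φ (τ (σ x)) = 0
          rw [hτσ]
          exact hx }
  have hrel : ∀ i : Fin c, P.rel (Fin.castLE P.hcm i) = σ (f (rows i)) := fun i => congrArg (fun j => σ (f j)) (hem i)
  have hminor : P.hom (Smoothing.jacobianMinor P.rel (Fin.castLE P.hcm) (Fin.castLE P.hcn)) =
      φ (Smoothing.jacobianMinor f rows cols) := by
    show φ (τ _) = _
    congr 1
    unfold Smoothing.jacobianMinor
    rw [AlgHom.map_det]
    congr 1
    ext1 i j
    show τ (pderiv (Fin.castLE P.hcn j) (P.rel (Fin.castLE P.hcm i))) = pderiv (cols j) (f (rows i))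
    have h1 : cols j = en (Fin.castLE P.hcn j) := (hen j).symm
    rw [hrel, h1, show τ (pderiv (Fin.castLE P.hcn j) (σ (f (rows i)))) = _ from
      (pderiv_rename en.injective (Fin.castLE P.hcn j) (σ (f (rows i)))).symm]
    show pderiv _ (τ (σ (f (rows i)))) = _
    rw [hτσ]
  refine ⟨P, ⟨a', by rw [hminor]; exact ha⟩, fun a₁ ha₁ j _ => ?_⟩
  have h := Ideal.mem_map_of_mem σ.toRingHom (hkill (τ a₁) ha₁ (em j))
  rw [Ideal.map_sup, Ideal.map_pow, ← hspan, Ideal.map_span, ← Set.range_comp] at h
  have e : σ.toRingHom (τ a₁ * f (em j)) = a₁ * P.rel j := by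
    show σ (τ a₁ * f (em j)) = _
    rw [map_mul, hστ]
  rw [e] at h
  refine SetLike.le_def.mp (sup_le_sup_right (Ideal.span_mono ?_) _) h
  rintro _ ⟨i, rfl⟩
  exact ⟨Fin.castLE P.hcm i, i.2, hrel i⟩

/-- A multiple of a strictly standard element by one of its minors is elementary standard. -/
theorem exists_elementary_of_strictly (a : A) (P : Smoothing.MarkedPresentation R A)
    (hkill : Smoothing.KillsTail P a) (cols : Fin P.c → Fin P.n) (hinj : Function.Injective cols) :
    Smoothing.IsElementaryStandard R A (a * P.hom (Smoothing.jacobianMinor P.rel (Fin.castLE P.hcm) cols)) := by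
  refine isElementaryStandard_of_rows_cols P.rel P.hom P.surj P.ker_eq (Fin.castLEEmb P.hcm) ⟨cols, hinj⟩ _ a rfl
    fun a₁ ha₁ l => ?_
  have hrows : Ideal.span (Set.range (P.rel ∘ (Fin.castLEEmb P.hcm))) =
      Ideal.span (P.rel '' {j' : Fin P.m | (j' : ℕ) < P.c}) := by
    refine congrArg Ideal.span (Set.ext fun x => ⟨?_, ?_⟩)
    · rintro ⟨i, rfl⟩; exact ⟨_, i.2, rfl⟩
    · rintro ⟨j, hj, rfl⟩; exact ⟨⟨j, hj⟩, rfl⟩
  rw [hrows]
  by_cases hl : (l : ℕ) < P.c
  · exact Submodule.mem_sup_left (Ideal.mul_mem_left _ _ (Ideal.subset_span ⟨l, hl, rfl⟩))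
  obtain ⟨a₀, ha₀⟩ := P.surj a
  let Δ := Smoothing.jacobianMinor P.rel (Fin.castLE P.hcm) cols
  have hi : a₁ - a₀ * Δ ∈ Ideal.span (Set.range P.rel) := by
    rw [← P.ker_eq]
    exact RingHom.mem_ker.2 (show P.hom _ = 0 by rw [map_sub, map_mul, ha₀, ha₁, sub_self])
  rw [show a₁ * P.rel l = Δ * (a₀ * P.rel l) + (a₁ - a₀ * Δ) * P.rel l by ring]
  refine Submodule.add_mem _ (Ideal.mul_mem_left _ _ (hkill a₀ ha₀ l (Nat.le_of_not_lt hl))) (Submodule.mem_sup_right ?_)
  rw [pow_two]
  exact Ideal.mul_mem_mul hi (Ideal.subset_span ⟨l, rfl⟩)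

theorem finitePresentation_of_marked (P : Smoothing.MarkedPresentation R A) : Algebra.FinitePresentation R A :=
  Algebra.FinitePresentation.of_surjective P.surj (P.ker_eq.symm ▸ Submodule.fg_span (Set.finite_range _))

theorem smooth_away_of_strictly (a : A) (ha : Smoothing.IsStrictlyStandard R A a) :
    Algebra.Smooth R (Localization.Away a) := by
  classical
  obtain ⟨P, hspan, hkill⟩ := ha
  haveI := finitePresentation_of_marked P
  refine Algebra.basicOpen_subset_smoothLocus_iff_smooth.1 fun q (hq : a ∉ q.asIdeal) => ?_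
  obtain ⟨cols, hcols⟩ : ∃ cols : Fin P.c → Fin P.n,
      P.hom (Smoothing.jacobianMinor P.rel (Fin.castLE P.hcm) cols) ∉ q.asIdeal := by
    by_contra h
    push Not at h
    exact hq ((Ideal.span_le.2 (Set.range_subset_iff.2 h)) hspan)
  have hinj : Function.Injective cols := fun i j h => by
    by_contra hne
    refine hcols ?_
    rw [show Smoothing.jacobianMinor P.rel (Fin.castLE P.hcm) cols = 0 from
      Matrix.det_zero_of_column_eq hne fun k => by simp [h], map_zero]
    exact q.asIdeal.zero_mem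
  haveI := isStandardSmooth_away _ (exists_elementary_of_strictly a P hkill cols hinj)
    (Localization.Away (a * P.hom (Smoothing.jacobianMinor P.rel (Fin.castLE P.hcm) cols)))
  exact Algebra.basicOpen_subset_smoothLocus_iff_smooth.2 inferInstance
    (show a * P.hom _ ∉ q.asIdeal from q.isPrime.mul_notMem hq hcols)

theorem isStrictlyStandard_of_elementary (a : A) (ha : Smoothing.IsElementaryStandard R A a) :
    Smoothing.IsStrictlyStandard R A a := by
  obtain ⟨P, ⟨a', rfl⟩, hk⟩ := ha
  exact ⟨P, Ideal.mul_mem_left _ _ (Ideal.subset_span ⟨_, rfl⟩), hk⟩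

theorem singularIdeal_eq [Algebra.FinitePresentation R A] :
    Smoothing.singularIdeal R A = (Ideal.span {a : A | Smoothing.IsStrictlyStandard R A a}).radical ∧
      Smoothing.singularIdeal R A = (Ideal.span {a : A | Smoothing.IsElementaryStandard R A a}).radical := by
  have h1 : PrimeSpectrum.zeroLocus ({a : A | Smoothing.IsElementaryStandard R A a}) ⊆ (Algebra.smoothLocus R A)ᶜ := by
    intro q hq hsm
    obtain ⟨n, φ, hφ, hfg⟩ := Algebra.FinitePresentation.out (R := R) (A := A)
    obtain ⟨m, f, hf⟩ := Submodule.fg_iff_exists_fin_generating_family.mp hfg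
    obtain ⟨a, haq, c, rows, cols, a', ha, hk⟩ := exists_standard_at f φ hφ hf.symm q.asIdeal hsm
    exact haq (hq (isElementaryStandard_of_rows_cols f φ hφ hf.symm rows cols a a' ha hk))
  have h2 : (Algebra.smoothLocus R A)ᶜ ⊆ PrimeSpectrum.zeroLocus ({a : A | Smoothing.IsStrictlyStandard R A a}) := by
    intro q hq a ha
    by_contra haq
    haveI := smooth_away_of_strictly a ha
    exact hq (Algebra.basicOpen_subset_smoothLocus_iff_smooth.2 inferInstance haq)
  have h3 : PrimeSpectrum.zeroLocus ({a : A | Smoothing.IsStrictlyStandard R A a}) ⊆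
      PrimeSpectrum.zeroLocus ({a : A | Smoothing.IsElementaryStandard R A a}) :=
    PrimeSpectrum.zeroLocus_anti_mono fun a ha => isStrictlyStandard_of_elementary a ha
  have e1 := (h3.trans h1).antisymm h2
  have e2 := h1.antisymm (h2.trans h3)
  constructor
  · rw [Smoothing.singularIdeal, ← e1, ← PrimeSpectrum.zeroLocus_span,
      PrimeSpectrum.vanishingIdeal_zeroLocus_eq_radical]
  · rw [Smoothing.singularIdeal, ← e2, ← PrimeSpectrum.zeroLocus_span,
      PrimeSpectrum.vanishingIdeal_zeroLocus_eq_radical]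

end Groth.Agent.Lib.SmoothingH7
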