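import Groth.Agent.Lib.SmoothingH7.Standard
import Groth.Agent.Lib.SmoothRetractH7.Basic
import Mathlib.RingTheory.MvPolynomial.Localization
import Mathlib.RingTheory.Localization.BaseChange

/-! A factorisation through a smooth algebra over a localisation of the base gives a standard element. -/

set_option autoImplicit false

universe u

open MvPolynomial TensorProduct

namespace Groth.Agent.Lib.SmoothingH7

/-- Substituting scaled variables commutes with derivatives up to the scalar. -/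
theorem pderiv_scale {Q : Type*} [CommRing Q] {ι : Type*} (v : ι → Q) (p : MvPolynomial ι Q) (k : ι) :
    pderiv k (aeval (fun j => C (v j) * X j) p) = C (v k) * aeval (fun j => C (v j) * X j) (pderiv k p) := by
  classical
  induction p using MvPolynomial.induction_on with
  | C r => simp
  | add p q hp hq => simp only [map_add, hp, hq, mul_add]
  | mul_X p j hp =>
    simp only [map_mul, aeval_X, pderiv_mul, hp, map_add, pderiv_C, zero_mul, zero_add]
    rcases eq_or_ne j k with rfl | hne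
    · rw [pderiv_X_self, map_one]; ring
    · rw [pderiv_X_of_ne hne, map_zero]; ring

variable {R : Type u} [CommRing R] (S : Submonoid R) (Rₛ : Type u) [CommRing Rₛ] [Algebra R Rₛ]
  [IsLocalization S Rₛ]

/-- Clearing denominators of a polynomial over a localisation. -/
theorem exists_clear {σ : Type*} (P : MvPolynomial σ Rₛ) :
    ∃ t : S, ∃ p : MvPolynomial σ R,
      MvPolynomial.map (algebraMap R Rₛ) p = C (algebraMap R Rₛ t) * P := by
  letI : Algebra (MvPolynomial σ R) (MvPolynomial σ Rₛ) := MvPolynomial.algebraMvPolynomial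
  haveI := MvPolynomial.isLocalization (σ := σ) S Rₛ
  obtain ⟨⟨p, ⟨_, t, ht, rfl⟩⟩, hp⟩ := IsLocalization.surj (S.map (C (σ := σ) : R →+* MvPolynomial σ R)) P
  refine ⟨⟨t, ht⟩, p, ?_⟩
  change P * MvPolynomial.map (algebraMap R Rₛ) (C t) = MvPolynomial.map (algebraMap R Rₛ) p at hp
  rw [← hp, map_C, mul_comm]

/-- An ideal membership after extension to a localisation. -/
theorem exists_clear_mem {σ : Type*} (J : Ideal (MvPolynomial σ R)) (p : MvPolynomial σ R)
    (h : MvPolynomial.map (algebraMap R Rₛ) p ∈ J.map (MvPolynomial.map (algebraMap R Rₛ))) :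
    ∃ s : S, C (s : R) * p ∈ J := by
  letI : Algebra (MvPolynomial σ R) (MvPolynomial σ Rₛ) := MvPolynomial.algebraMvPolynomial
  haveI := MvPolynomial.isLocalization (σ := σ) S Rₛ
  obtain ⟨_, ⟨s, hs, rfl⟩, hx⟩ := (IsLocalization.algebraMap_mem_map_algebraMap_iff
    (S.map (C (σ := σ) : R →+* MvPolynomial σ R)) (MvPolynomial σ Rₛ) J p).1 h
  exact ⟨⟨s, hs⟩, hx⟩

theorem exists_standard_delocalize {A Λ B' : Type u} [CommRing A] [Algebra R A] [Algebra.FinitePresentation R A]
    [CommRing Λ] [Algebra R Λ] (φ : A →ₐ[R] Λ) [CommRing B'] [Algebra Rₛ B'] [Algebra.Smooth Rₛ B']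
    (g : Rₛ ⊗[R] A →ₐ[Rₛ] B') (h : B' →ₐ[Rₛ] Rₛ ⊗[R] Λ)
    (hgh : h.comp g = Algebra.TensorProduct.map (AlgHom.id Rₛ Rₛ) φ) :
    ∃ (B : Type u) (_ : CommRing B) (_ : Algebra R B) (α : A →ₐ[R] B) (β : B →ₐ[R] Λ),
      β.comp α = φ ∧ ∃ s ∈ S, Smoothing.IsElementaryStandard R B (algebraMap R B s) := by
  classical
  -- reduce to a standard smooth algebra
  obtain ⟨B₂, _, _, _, _, _, ⟨r⟩, hstd⟩ := SmoothRetractH7.exists_retract_isStandardSmooth Rₛ B'
  haveI := hstd
  let g₂ : Rₛ ⊗[R] A →ₐ[Rₛ] B₂ := (IsScalarTower.toAlgHom Rₛ B' B₂).comp g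
  let h₂ : B₂ →ₐ[Rₛ] Rₛ ⊗[R] Λ := h.comp (r.restrictScalars Rₛ)
  have hgh₂ : ∀ a : A, h₂ (g₂ (1 ⊗ₜ[R] a)) = 1 ⊗ₜ[R] φ a := fun a => by
    show h (r (algebraMap B' B₂ (g _))) = _
    rw [r.commutes]
    exact (AlgHom.congr_fun hgh _).trans (Algebra.TensorProduct.map_tmul _ _ _ _)
  obtain ⟨ι, σ, hι, hσ, ⟨P⟩⟩ := (‹Algebra.IsStandardSmooth Rₛ B₂›).out
  haveI := hι
  haveI := hσ
  haveI := Fintype.ofFinite ι
  haveI := Fintype.ofFinite σ
  let mkΛ := TensorProduct.mk R Rₛ Λ 1
  haveI : IsLocalizedModule S mkΛ := inferInstance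
  choose scl hscl using fun k => IsLocalizedModule.surj S mkΛ (h₂ (P.val k))
  let u : ι → Rₛ := fun k => algebraMap R Rₛ (scl k).2
  have hu : ∀ k, IsUnit (u k) := fun k => IsLocalization.map_units Rₛ (scl k).2
  let lam : ι → Λ := fun k => (scl k).1
  let val' : ι → B₂ := fun k => u k • P.val k
  let v : ι → Rₛ := fun k => ↑(hu k).unit⁻¹
  let θ : MvPolynomial ι Rₛ →ₐ[Rₛ] MvPolynomial ι Rₛ := aeval fun j => C (v j) * X j
  let θ' : MvPolynomial ι Rₛ →ₐ[Rₛ] MvPolynomial ι Rₛ := aeval fun j => C (u j) * X j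
  have hθ : ∀ p, aeval val' (θ p) = aeval P.val p := fun p => by
    have : (aeval val').comp θ = aeval P.val := MvPolynomial.algHom_ext fun j => by
      show aeval val' (θ (X j)) = aeval P.val (X j)
      rw [show θ (X j) = C (v j) * X j from aeval_X _ j, map_mul, aeval_C, aeval_X, aeval_X, ← Algebra.smul_def,
        smul_smul, IsUnit.val_inv_mul, one_smul]
    exact AlgHom.congr_fun this p
  have hθθ' : ∀ p, θ (θ' p) = p := fun p => by
    have : θ.comp θ' = AlgHom.id Rₛ _ := MvPolynomial.algHom_ext fun j => by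
      show θ (θ' (X j)) = X j
      rw [show θ' (X j) = C (u j) * X j from aeval_X _ j, map_mul, show θ (X j) = C (v j) * X j from aeval_X _ j,
        show θ (C (u j)) = C (u j) from aeval_C _ _, ← mul_assoc, ← map_mul, IsUnit.mul_val_inv, map_one, one_mul]
    exact AlgHom.congr_fun this p
  let f' : σ → MvPolynomial ι Rₛ := fun i => θ (P.relation i)
  have hkerP : ∀ p, aeval P.val p = 0 → p ∈ Ideal.span (Set.range P.relation) := fun p hp => by
    rw [P.span_range_relation_eq_ker]
    exact RingHom.mem_ker.2 ((Algebra.Generators.algebraMap_apply P.toGenerators p).trans hp)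
  have hrelP : ∀ i, aeval P.val (P.relation i) = 0 := fun i => P.aeval_val_relation i
  have hker' : ∀ p, aeval val' p = 0 → p ∈ Ideal.span (Set.range f') := fun p hp => by
    have h1 : aeval P.val (θ' p) = 0 := by rw [← hθ, hθθ']; exact hp
    have h2 := Ideal.mem_map_of_mem θ.toRingHom (hkerP _ h1)
    rw [Ideal.map_span, ← Set.range_comp] at h2
    rw [← hθθ' p]
    exact h2
  have hsurj' : ∀ y, ∃ p, aeval val' p = y := fun y => ⟨θ (P.σ y), by rw [hθ]; exact P.aeval_val_σ y⟩
  have hlam : ∀ k, h₂ (val' k) = 1 ⊗ₜ[R] lam k := fun k => by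
    rw [show h₂ (val' k) = u k • h₂ (P.val k) from map_smul h₂ _ _, algebraMap_smul]
    exact hscl k
  have hev : ∀ p : MvPolynomial ι R,
      h₂ (aeval val' (MvPolynomial.map (algebraMap R Rₛ) p)) = 1 ⊗ₜ[R] aeval lam p := fun p => by
    induction p using MvPolynomial.induction_on with
    | C c =>
      rw [map_C, aeval_C, aeval_C, h₂.commutes, ← IsScalarTower.algebraMap_apply,
        Algebra.TensorProduct.algebraMap_apply']
    | add p q hp hq => simp only [map_add, tmul_add, hp, hq]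
    | mul_X p k hp =>
      rw [map_mul, map_mul, map_mul, hp, map_X, aeval_X, hlam, map_mul, aeval_X,
        Algebra.TensorProduct.tmul_mul_tmul, one_mul]
  -- the relations over `R`
  choose t₀ f₀ hf₀ using fun i => exists_clear S Rₛ (f' i)
  have hf0l : ∀ i, ∃ t : S, (t : R) • aeval lam (f₀ i) = 0 := fun i => by
    have h1 : mkΛ (aeval lam (f₀ i)) = mkΛ 0 := by
      show (1 : Rₛ) ⊗ₜ[R] aeval lam (f₀ i) = (1 : Rₛ) ⊗ₜ[R] 0
      rw [← hev, hf₀, map_mul, show aeval val' (f' i) = 0 from (hθ _).trans (hrelP i), mul_zero, map_zero, tmul_zero]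
    obtain ⟨t, ht⟩ := IsLocalizedModule.exists_of_eq (S := S) h1
    exact ⟨t, by simpa [Submonoid.smul_def] using ht⟩
  choose t₁ ht₁ using hf0l
  obtain ⟨N, q, hq, hqfg⟩ := Algebra.FinitePresentation.out (R := R) (A := A)
  obtain ⟨M, gA, hgA⟩ := Submodule.fg_iff_exists_fin_generating_family.mp hqfg
  choose p' hp' using fun l : Fin N => hsurj' (g₂ (1 ⊗ₜ[R] q (X l)))
  choose t₂ p₀ hp₀ using fun l => exists_clear S Rₛ (p' l)
  have hpl : ∀ l, ∃ t : S, (t : R) • ((t₂ l : R) • φ (q (X l)) - aeval lam (p₀ l)) = 0 := fun l => by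
    have h1 : mkΛ ((t₂ l : R) • φ (q (X l)) - aeval lam (p₀ l)) = mkΛ 0 := by
      show (1 : Rₛ) ⊗ₜ[R] _ = (1 : Rₛ) ⊗ₜ[R] (0 : Λ)
      rw [tmul_sub, tmul_zero, tmul_smul, ← hev, hp₀, map_mul, map_mul, hp', hgh₂, aeval_C, h₂.commutes,
        ← Algebra.smul_def, algebraMap_smul, sub_self]
    obtain ⟨t, ht⟩ := IsLocalizedModule.exists_of_eq (S := S) h1
    exact ⟨t, by simpa [Submonoid.smul_def] using ht⟩
  choose t₃ ht₃ using hpl
  let nV := Fintype.card (ι ⊕ Fin N)
  let eV : (ι ⊕ Fin N) ≃ Fin nV := Fintype.equivFin _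
  let jx : ι → Fin nV := fun k => eV (Sum.inl k)
  let jz : Fin N → Fin nV := fun l => eV (Sum.inr l)
  have hjx : Function.Injective jx := eV.injective.comp Sum.inl_injective
  have hjz : Function.Injective jz := eV.injective.comp Sum.inr_injective
  let F : σ → MvPolynomial (Fin nV) R := fun i => C (t₁ i : R) * rename jx (f₀ i)
  let G : Fin N → MvPolynomial (Fin nV) R := fun l =>
    C (t₃ l : R) * (C (t₂ l : R) * X (jz l) - rename jx (p₀ l))
  let T : Fin M → MvPolynomial (Fin nV) R := fun j => rename jz (gA j)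
  let nR := Fintype.card ((σ ⊕ Fin N) ⊕ Fin M)
  let eR : ((σ ⊕ Fin N) ⊕ Fin M) ≃ Fin nR := Fintype.equivFin _
  let rel : Fin nR → MvPolynomial (Fin nV) R := fun x => (Sum.elim (Sum.elim F G) T) (eR.symm x)
  let J : Ideal (MvPolynomial (Fin nV) R) := Ideal.span (Set.range rel)
  let Lead : Ideal (MvPolynomial (Fin nV) R) := Ideal.span (Set.range (Sum.elim F G))
  let B := MvPolynomial (Fin nV) R ⧸ J
  let w : Fin nV → Λ := fun x => (Sum.elim lam fun l => φ (q (X l))) (eV.symm x)
  have hwx : ∀ p : MvPolynomial ι R, aeval w (rename jx p) = aeval lam p := fun p => by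
    rw [aeval_rename]
    congr 2
    funext k
    show w (eV (Sum.inl k)) = lam k
    simp [w]
  have hwz : ∀ p : MvPolynomial (Fin N) R, aeval w (rename jz p) = φ (q p) := fun p => by
    rw [aeval_rename, show w ∘ jz = fun l => φ (q (X l)) from funext fun l => by simp [w, jz],
      show φ (q p) = φ.comp q p from rfl, aeval_unique (φ.comp q)]
    rfl
  have hwzX : ∀ l, w (jz l) = φ (q (X l)) := fun l => by simp [w, jz]
  have hgA0 : ∀ j, q (gA j) = 0 := fun j => RingHom.mem_ker.1 (hgA ▸ Submodule.subset_span ⟨j, rfl⟩ :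
    gA j ∈ RingHom.ker q.toRingHom)
  have hJw : ∀ z ∈ J, aeval w z = 0 := fun z hz => RingHom.mem_ker.1 <| (Ideal.span_le.2 (Set.range_subset_iff.2
    fun x => RingHom.mem_ker.2 (by
      show aeval w (rel x) = 0
      obtain ⟨y, rfl⟩ := eR.surjective x
      simp only [rel, Equiv.symm_apply_apply]
      rcases y with (i | l) | j
      · show aeval w (F i) = 0
        rw [map_mul, aeval_C, hwx, ← Algebra.smul_def, ht₁]
      · show aeval w (G l) = 0
        rw [map_mul, aeval_C, map_sub, map_mul, aeval_C, aeval_X, hwx, hwzX, ← Algebra.smul_def,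
          ← Algebra.smul_def, ht₃]
      · show aeval w (T j) = 0
        rw [hwz, hgA0, map_zero]))) hz
  let β : B →ₐ[R] Λ := Ideal.Quotient.liftₐ J (aeval w) hJw
  have hTJ : ∀ j, T j ∈ J := fun j => Ideal.subset_span ⟨eR (Sum.inr j), by simp [rel]⟩
  let α : A →ₐ[R] B := AlgHom.liftOfSurjective q hq ((Ideal.Quotient.mkₐ R J).comp (rename jz)) fun z hz => by
    refine RingHom.mem_ker.2 (Ideal.Quotient.eq_zero_iff_mem.2 ?_)
    have hz' : z ∈ Ideal.span (Set.range gA) := by rw [Ideal.span, hgA]; exact hz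
    have h2 := Ideal.mem_map_of_mem (rename (R := R) jz).toRingHom hz'
    rw [Ideal.map_span, ← Set.range_comp] at h2
    exact Ideal.span_le.2 (Set.range_subset_iff.2 hTJ) h2
  refine ⟨B, inferInstance, inferInstance, α, β, AlgHom.ext fun a => ?_, ?_⟩
  · obtain ⟨p, rfl⟩ := hq a
    show β (α (q p)) = φ (q p)
    rw [show α (q p) = Ideal.Quotient.mkₐ R J (rename jz p) from AlgHom.liftOfSurjective_apply _ _ _ _ p]
    exact hwz p
  -- the map to `B₂`
  let w₂ : Fin nV → B₂ := fun x => (Sum.elim val' fun l => g₂ (1 ⊗ₜ[R] q (X l))) (eV.symm x)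
  let μ : MvPolynomial (Fin nV) R →+* MvPolynomial (Fin nV) Rₛ := MvPolynomial.map (algebraMap R Rₛ)
  let ev₂ : MvPolynomial (Fin nV) Rₛ →ₐ[Rₛ] B₂ := aeval w₂
  have hmapx : ∀ p : MvPolynomial ι R, μ (rename jx p) = rename jx (MvPolynomial.map (algebraMap R Rₛ) p) := fun p => map_rename _ _ _
  have hw₂x : ∀ p : MvPolynomial ι Rₛ, ev₂ (rename jx p) = aeval val' p := fun p => by
    rw [aeval_rename]
    congr 2
    funext k
    show w₂ (eV (Sum.inl k)) = val' k
    simp [w₂]
  have hw₂z : ∀ p : MvPolynomial (Fin N) R, ev₂ (μ (rename jz p)) = g₂ (1 ⊗ₜ[R] q p) := fun p => by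
    induction p using MvPolynomial.induction_on with
    | C c =>
      rw [rename_C, map_C, aeval_C, show q (C c) = algebraMap R A c from q.commutes c,
        ← Algebra.TensorProduct.algebraMap_apply', IsScalarTower.algebraMap_apply R Rₛ (Rₛ ⊗[R] A), g₂.commutes]
    | add p p' hp hp' => simp only [map_add, tmul_add, hp, hp']
    | mul_X p l hp =>
      rw [map_mul, map_mul, map_mul, hp, rename_X, map_X, aeval_X, map_mul,
        show w₂ (jz l) = g₂ (1 ⊗ₜ[R] q (X l)) by simp [w₂, jz], ← map_mul, Algebra.TensorProduct.tmul_mul_tmul,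
        one_mul]
  have hμF : ∀ i, μ (F i) = C (algebraMap R Rₛ (t₁ i) * algebraMap R Rₛ (t₀ i)) * rename jx (f' i) := fun i => by
    rw [map_mul, map_C, hmapx, hf₀, map_mul, rename_C, ← mul_assoc, ← map_mul]
  have hμG : ∀ l, μ (G l) = C (algebraMap R Rₛ (t₃ l) * algebraMap R Rₛ (t₂ l)) *
      (X (jz l) - rename jx (p' l)) := fun l => by
    rw [map_mul, map_C, map_sub, map_mul, map_C, map_X, hmapx, hp₀, map_mul, rename_C, map_mul]
    ring
  have hU : ∀ a b : S, IsUnit (C (algebraMap R Rₛ (a : R) * algebraMap R Rₛ (b : R)) : MvPolynomial (Fin nV) Rₛ) :=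
    fun a b => ((IsLocalization.map_units Rₛ a).mul (IsLocalization.map_units Rₛ b)).map C
  have hFin : ∀ i, rename jx (f' i) ∈ Lead.map μ := fun i => by
    refine (Ideal.unit_mul_mem_iff_mem _ (hU (t₁ i) (t₀ i))).1 ?_
    rw [← hμF]
    exact Ideal.mem_map_of_mem _ (Ideal.subset_span ⟨Sum.inl i, rfl⟩)
  have hGin : ∀ l, (X (jz l) - rename jx (p' l)) ∈ Lead.map μ := fun l => by
    refine (Ideal.unit_mul_mem_iff_mem _ (hU (t₃ l) (t₂ l))).1 ?_
    rw [← hμG]
    exact Ideal.mem_map_of_mem _ (Ideal.subset_span ⟨Sum.inr l, rfl⟩)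
  let sub : MvPolynomial (Fin nV) Rₛ →ₐ[Rₛ] MvPolynomial ι Rₛ := aeval fun x => (Sum.elim X p') (eV.symm x)
  have hred : ∀ Q, Q - rename jx (sub Q) ∈ Lead.map μ := fun Q => by
    induction Q using MvPolynomial.induction_on with
    | C c => rw [aeval_C, algebraMap_eq, rename_C, sub_self]; exact Submodule.zero_mem _
    | add p p₁ hp hp₁ => rw [map_add, map_add, add_sub_add_comm]; exact Submodule.add_mem _ hp hp₁
    | mul_X p x hp =>
      have hx : X x - rename jx (sub (X x)) ∈ Lead.map μ := by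
        obtain ⟨y, rfl⟩ := eV.surjective x
        rw [aeval_X, Equiv.symm_apply_apply]
        rcases y with k | l
        · rw [show (Sum.elim X p' (Sum.inl k) : MvPolynomial ι Rₛ) = X k from rfl, rename_X, sub_self]
          exact Submodule.zero_mem _
        · exact hGin l
      rw [map_mul, map_mul, show p * X x - rename jx (sub p) * rename jx (sub (X x)) =
        (p - rename jx (sub p)) * X x + rename jx (sub p) * (X x - rename jx (sub (X x))) by ring]
      exact Submodule.add_mem _ (Ideal.mul_mem_right _ _ hp) (Ideal.mul_mem_left _ _ hx)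
  have hev₂sub : ∀ Q, aeval val' (sub Q) = ev₂ Q := fun Q => by
    have : (aeval val').comp sub = ev₂ := MvPolynomial.algHom_ext fun x => by
      show aeval val' (sub (X x)) = ev₂ (X x)
      obtain ⟨y, rfl⟩ := eV.surjective x
      rw [aeval_X, aeval_X, Equiv.symm_apply_apply]
      rcases y with k | l <;> simp [w₂, hp']
    exact AlgHom.congr_fun this Q
  have kills : ∀ p, ev₂ (μ p) = 0 → ∃ s : S, C (s : R) * p ∈ Lead := fun p hp => by
    refine exists_clear_mem S Rₛ Lead p ?_
    have h1 : sub (μ p) ∈ Ideal.span (Set.range f') := hker' _ (by rw [hev₂sub]; exact hp)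
    have h2 := Ideal.mem_map_of_mem (rename (R := Rₛ) jx).toRingHom h1
    rw [Ideal.map_span, ← Set.range_comp] at h2
    have h3 : rename jx (sub (μ p)) ∈ Lead.map μ := Ideal.span_le.2 (Set.range_subset_iff.2 hFin) h2
    simpa using Submodule.add_mem _ (hred (μ p)) h3
  -- the minor
  let nc := Fintype.card (σ ⊕ Fin N)
  let eC : (σ ⊕ Fin N) ≃ Fin nc := Fintype.equivFin _
  let rows : Fin nc ↪ Fin nR :=
    ⟨fun c => eR (Sum.inl (eC.symm c)), eR.injective.comp (Sum.inl_injective.comp eC.symm.injective)⟩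
  let cols : Fin nc ↪ Fin nV :=
    ⟨fun c => eV (Sum.map P.map id (eC.symm c)),
      eV.injective.comp ((P.map_inj.sumMap Function.injective_id).comp eC.symm.injective)⟩
  let Δ := Smoothing.jacobianMinor rel rows cols
  have hΔu : IsUnit (ev₂ (μ Δ)) := by
    let Mx : Matrix σ σ B₂ := Matrix.of fun i j => aeval val' (pderiv (P.map j) (f' i))
    let ρ : MvPolynomial (Fin nV) R →+* B₂ := ev₂.toRingHom.comp μ
    have hentry : ρ.mapMatrix (Matrix.of fun a b : σ ⊕ Fin N =>
        pderiv (eV (Sum.map P.map id b)) ((Sum.elim F G) a)) =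
        Matrix.fromBlocks (Matrix.of fun i j => algebraMap Rₛ B₂ (algebraMap R Rₛ (t₁ i) * algebraMap R Rₛ (t₀ i)) * Mx i j)
          0 (Matrix.of fun l j => ρ (pderiv (jx (P.map j)) (G l)))
          (Matrix.diagonal fun l => algebraMap Rₛ B₂ (algebraMap R Rₛ (t₃ l) * algebraMap R Rₛ (t₂ l))) := by
      ext (i | l) (j | l')
      · show ev₂ (μ (pderiv (jx (P.map j)) (F i))) = _ * aeval val' (pderiv (P.map j) (f' i))
        rw [← pderiv_map, hμF, pderiv_C_mul, pderiv_rename hjx, map_mul, aeval_C, hw₂x]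
      · show ev₂ (μ (pderiv (jz l') (F i))) = (0 : B₂)
        rw [← pderiv_map, hμF, pderiv_C_mul, pderiv_eq_zero_of_notMem_vars, mul_zero, map_zero]
        intro hmem
        have := vars_rename _ _ hmem
        simp only [Finset.mem_image] at this
        obtain ⟨k, -, hk⟩ := this
        exact Sum.inl_ne_inr (eV.injective hk)
      · rfl
      · show ev₂ (μ (pderiv (jz l') (G l))) = Matrix.diagonal (fun l => algebraMap Rₛ B₂ (algebraMap R Rₛ (t₃ l) * algebraMap R Rₛ (t₂ l))) l l'
        rw [← pderiv_map, hμG, pderiv_C_mul, map_sub, pderiv_eq_zero_of_notMem_vars (f := rename jx (p' l)), sub_zero]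
        · rw [map_mul, aeval_C]
          rcases eq_or_ne l l' with rfl | hne
          · rw [pderiv_X_self, map_one, mul_one, Matrix.diagonal_apply_eq]
          · rw [pderiv_X_of_ne (hjz.ne hne), map_zero, mul_zero, Matrix.diagonal_apply_ne _ hne]
        · intro hmem
          have := vars_rename _ _ hmem
          simp only [Finset.mem_image] at this
          obtain ⟨k, -, hk⟩ := this
          exact Sum.inl_ne_inr (eV.injective hk)
    have e1 : ev₂ (μ Δ) = (ρ.mapMatrix (Matrix.of fun a b : σ ⊕ Fin N =>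
        pderiv (eV (Sum.map P.map id b)) ((Sum.elim F G) a))).det := by
      rw [← RingHom.map_det]
      refine congrArg ρ ?_
      show Smoothing.jacobianMinor rel rows cols = _
      unfold Smoothing.jacobianMinor
      rw [← Matrix.det_submatrix_equiv_self eC]
      congr 1
      ext1 a b
      simp [rows, cols, rel]
    rw [e1, hentry, Matrix.det_fromBlocks_zero₁₂, Matrix.det_diagonal, Matrix.det_mul_column]
    refine IsUnit.mul (IsUnit.mul (IsUnit.prod_univ_iff.2 fun i => ?_) ?_) (IsUnit.prod_univ_iff.2 fun l => ?_)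
    · exact ((IsLocalization.map_units Rₛ _).mul (IsLocalization.map_units Rₛ _)).map _
    · have e2 : Mx = Matrix.of fun i j => algebraMap Rₛ B₂ (v (P.map j)) *
          (Matrix.of fun i j => aeval P.val (pderiv (P.map j) (P.relation i))) i j := by
        ext1 i j
        show aeval val' (pderiv (P.map j) (θ (P.relation i))) = _
        rw [pderiv_scale, map_mul, aeval_C]
        exact congrArg _ (hθ _)
      rw [e2, Matrix.det_mul_row]
      refine IsUnit.mul (IsUnit.prod_univ_iff.2 fun j => ((hu _).unit⁻¹).isUnit.map _) ?_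
      have h3 := P.jacobian_isUnit
      rw [P.jacobian_eq_jacobiMatrix_det, Algebra.Generators.algebraMap_apply] at h3
      rw [← Matrix.det_transpose]
      convert h3 using 1
      rw [AlgHom.map_det]
      congr 1
      ext1 a b
      simp [Algebra.PreSubmersivePresentation.jacobiMatrix_apply]
    · exact ((IsLocalization.map_units Rₛ _).mul (IsLocalization.map_units Rₛ _)).map _
  obtain ⟨inv, hinv⟩ := hΔu.exists_right_inv
  obtain ⟨W, hW⟩ : ∃ W : MvPolynomial (Fin nV) Rₛ, ev₂ W = inv := by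
    obtain ⟨p, hp⟩ := hsurj' inv
    exact ⟨rename jx p, (hw₂x p).trans hp⟩
  obtain ⟨tW, W₀, hW₀⟩ := exists_clear S Rₛ W
  obtain ⟨sΔ, hsΔ⟩ := kills (Δ * W₀ - C (tW : R)) (by
    rw [map_sub, map_mul, hW₀, map_C, map_sub, map_mul, map_mul, aeval_C, hW, mul_left_comm, hinv, mul_one,
      sub_self])
  choose sT hsT using fun j => kills (T j) (by
    rw [hw₂z, hgA0, tmul_zero, map_zero])
  let a : R := (sΔ : R) * tW * ∏ j, (sT j : R)
  refine ⟨a, S.mul_mem (S.mul_mem sΔ.2 tW.2) (prod_mem fun j _ => (sT j).2), ?_⟩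
  have hLead : Lead = Ideal.span (Set.range (rel ∘ rows)) := by
    refine congrArg Ideal.span ?_
    rw [← eC.symm.surjective.range_comp (Sum.elim F G)]
    congr 1
    funext c
    simp [rows, rel]
  have hLJ : Lead ≤ J := by
    rw [hLead]; exact Ideal.span_mono (Set.range_comp_subset_range _ _)
  let mk : MvPolynomial (Fin nV) R →ₐ[R] B := Ideal.Quotient.mkₐ R J
  refine isElementaryStandard_of_rows_cols rel mk Ideal.Quotient.mk_surjective Ideal.mk_ker rows cols _
    (mk (C ((sΔ : R) * ∏ j, (sT j : R)) * W₀)) ?_ fun a₁ ha₁ x => ?_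
  · show Ideal.Quotient.mk J (C a) = Ideal.Quotient.mk J _ * Ideal.Quotient.mk J Δ
    rw [← map_mul, Ideal.Quotient.eq]
    have : C a - C ((sΔ : R) * ∏ j, (sT j : R)) * W₀ * Δ =
        -(C (∏ j, (sT j : R)) * (C (sΔ : R) * (Δ * W₀ - C (tW : R)))) := by
      simp only [a, map_mul]; ring
    rw [this]
    exact J.neg_mem (J.mul_mem_left _ (hLJ hsΔ))
  · rw [← hLead]
    have hi : a₁ - C a ∈ J := by
      rw [← Ideal.Quotient.eq]
      exact ha₁
    rw [show a₁ * rel x = C a * rel x + (a₁ - C a) * rel x by ring]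
    refine Submodule.add_mem_sup ?_ (by rw [pow_two]; exact Ideal.mul_mem_mul hi (Ideal.subset_span ⟨x, rfl⟩))
    obtain ⟨y, rfl⟩ := eR.surjective x
    rcases y with y | j
    · refine Ideal.mul_mem_left _ _ (Ideal.subset_span ⟨y, ?_⟩)
      simp [rel]
    · rw [show rel (eR (Sum.inr j)) = T j by simp [rel],
        show C a * T j = C ((sΔ : R) * tW * ∏ i ∈ Finset.univ.erase j, (sT i : R)) * (C (sT j : R) * T j) by
          rw [← mul_assoc, ← map_mul, mul_assoc _ _ (sT j : R), Finset.prod_erase_mul _ _ (Finset.mem_univ j)]]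
      exact Ideal.mul_mem_left _ _ (hsT j)

end Groth.Agent.Lib.SmoothingH7
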