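import Groth.Agent.Lib.SmoothingH7.LiftFactor
import Groth.Agent.Lib.SmoothingH7.BaseChange

/-! Resolving modulo eighth powers suffices. -/

set_option autoImplicit false

universe u

open TensorProduct

namespace Groth.Agent.Lib.SmoothingH7

/-- Smoothness at a prime passes to the quotient by an ideal of the base. -/
theorem formallySmooth_of_surjective_base {R R₁ A A₁ : Type u} [CommRing R] [CommRing R₁] [Algebra R R₁]
    [CommRing A] [Algebra R A] [CommRing A₁] [Algebra R A₁] [Algebra R₁ A₁] [IsScalarTower R R₁ A₁]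
    (hs : Function.Surjective (algebraMap R R₁)) (pA : A →ₐ[R] A₁) (hpA : Function.Surjective pA)
    (hker : RingHom.ker pA.toRingHom ≤ (RingHom.ker (algebraMap R R₁)).map (algebraMap R A))
    (P : Ideal A₁) [P.IsPrime] (hsm : Algebra.IsSmoothAt R (P.comap pA)) :
    Algebra.IsSmoothAt R₁ P := by
  refine Algebra.FormallySmooth.iff_comp_surjective.2 ?_
  intro B _ _ I hI f
  let S₀ := Localization.AtPrime (P.comap pA)
  let L := Localization.AtPrime P
  letI : Algebra R B := ((algebraMap R₁ B).comp (algebraMap R R₁)).toAlgebra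
  haveI : IsScalarTower R R₁ B := IsScalarTower.of_algebraMap_eq' rfl
  let v₀ : S₀ →+* L := IsLocalization.lift (M := (P.comap pA).primeCompl) (S := S₀)
    (g := (algebraMap A₁ L).comp pA.toRingHom) fun y => IsLocalization.map_units L (⟨pA y, y.2⟩ : P.primeCompl)
  let v : S₀ →ₐ[R] L := ⟨v₀, fun r => by
    show v₀ (algebraMap R S₀ r) = algebraMap R L r
    rw [IsScalarTower.algebraMap_apply R A S₀, IsLocalization.lift_eq, IsScalarTower.algebraMap_apply R A₁ L]
    exact congrArg (algebraMap A₁ L) (pA.commutes r)⟩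
  haveI : Algebra.FormallySmooth R S₀ := hsm
  obtain ⟨w, hw⟩ := Algebra.FormallySmooth.comp_surjective (R := R) (A := S₀) I hI ((f.restrictScalars R).comp v)
  let z : A →ₐ[R] B := w.comp (IsScalarTower.toAlgHom R A S₀)
  have hz : RingHom.ker pA.toRingHom ≤ RingHom.ker z.toRingHom := hker.trans (Ideal.map_le_iff_le_comap.2 fun r hr => by
    show z (algebraMap R A r) = 0
    rw [z.commutes, IsScalarTower.algebraMap_apply R R₁ B, RingHom.mem_ker.1 hr, map_zero])
  let z₁ : A₁ →ₐ[R] B := AlgHom.liftOfSurjective pA hpA z hz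
  have hz₁ : ∀ a, z₁ (pA a) = z a := AlgHom.liftOfSurjective_apply _ _ _ _
  have hwf : ∀ s, Ideal.Quotient.mk I (w s) = f (v s) := fun s => AlgHom.congr_fun hw s
  have hzf : ∀ a, Ideal.Quotient.mk I (z₁ a) = f (algebraMap A₁ L a) := fun a => by
    obtain ⟨a, rfl⟩ := hpA a
    rw [hz₁]
    show Ideal.Quotient.mk I (w (algebraMap A S₀ a)) = _
    rw [hwf, show v (algebraMap A S₀ a) = algebraMap A₁ L (pA a) from IsLocalization.lift_eq _ a]
  have hu : ∀ y : P.primeCompl, IsUnit (z₁.toRingHom y) := fun y => by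
    obtain ⟨a, ha⟩ := hpA y
    show IsUnit (z₁ y)
    rw [← ha, hz₁]
    exact (IsLocalization.map_units S₀
      (⟨a, fun h => y.2 (show (y : A₁) ∈ P from ha ▸ h)⟩ : (P.comap pA).primeCompl)).map w
  let u₀ : L →+* B := IsLocalization.lift (M := P.primeCompl) hu
  let u' : L →ₐ[R₁] B := ⟨u₀, fun c => by
    obtain ⟨r, rfl⟩ := hs c
    show u₀ (algebraMap R₁ L (algebraMap R R₁ r)) = _
    rw [← IsScalarTower.algebraMap_apply R R₁ L, ← IsScalarTower.algebraMap_apply R R₁ B,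
      IsScalarTower.algebraMap_apply R A₁ L, IsLocalization.lift_eq]
    exact z₁.commutes r⟩
  refine ⟨u', AlgHom.coe_ringHom_injective (IsLocalization.ringHom_ext P.primeCompl (RingHom.ext fun a => ?_))⟩
  show Ideal.Quotient.mk I (u₀ (algebraMap A₁ L a)) = f (algebraMap A₁ L a)
  rw [IsLocalization.lift_eq]
  exact hzf a

/-- The singular ideal maps into the singular ideal of the reduction. -/
theorem singularIdeal_map_le {R R₁ A A₁ : Type u} [CommRing R] [CommRing R₁] [Algebra R R₁]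
    [CommRing A] [Algebra R A] [CommRing A₁] [Algebra R A₁] [Algebra R₁ A₁] [IsScalarTower R R₁ A₁]
    (hs : Function.Surjective (algebraMap R R₁)) (pA : A →ₐ[R] A₁) (hpA : Function.Surjective pA)
    (hker : RingHom.ker pA.toRingHom ≤ (RingHom.ker (algebraMap R R₁)).map (algebraMap R A))
    {a : A} (ha : a ∈ Smoothing.singularIdeal R A) : pA a ∈ Smoothing.singularIdeal R₁ A₁ := by
  refine (PrimeSpectrum.mem_vanishingIdeal _ _).2 fun P hP => ?_
  haveI : (P.asIdeal.comap pA).IsPrime := Ideal.IsPrime.comap _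
  exact (PrimeSpectrum.mem_vanishingIdeal _ _).1 ha ⟨P.asIdeal.comap pA, inferInstance⟩
    fun h => hP (formallySmooth_of_surjective_base hs pA hpA hker P.asIdeal h)

/-- Changing the base along an isomorphism does not change the singular ideal. -/
theorem singularIdeal_eq_of_bijective {R R₁ C₀ : Type u} [CommRing R] [CommRing R₁] [Algebra R R₁]
    [CommRing C₀] [Algebra R C₀] [Algebra R₁ C₀] [IsScalarTower R R₁ C₀]
    (hb : Function.Bijective (algebraMap R R₁)) :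
    Smoothing.singularIdeal R C₀ = Smoothing.singularIdeal R₁ C₀ := by
  haveI : Algebra.FormallySmooth R R₁ :=
    Algebra.FormallySmooth.of_equiv (AlgEquiv.ofBijective (Algebra.ofId R R₁) hb)
  haveI : Algebra.FormallyUnramified R R₁ :=
    Algebra.FormallyUnramified.of_surjective (Algebra.ofId R R₁) hb.2
  refine congrArg (fun s => PrimeSpectrum.vanishingIdeal sᶜ) (Set.ext fun P => ⟨fun h => ?_, fun h => ?_⟩)
  · haveI : Algebra.FormallySmooth R (Localization.AtPrime P.asIdeal) := h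
    exact Algebra.FormallySmooth.of_restrictScalars (R := R) (A := R₁) (B := Localization.AtPrime P.asIdeal)
  · haveI : Algebra.FormallySmooth R₁ (Localization.AtPrime P.asIdeal) := h
    exact Algebra.FormallySmooth.comp R R₁ (Localization.AtPrime P.asIdeal)

/-- One step of the induction. -/
theorem resolvable_step {R R₁ A A₁ Λ Λ₁ : Type u} [CommRing R] [IsNoetherianRing R] [CommRing R₁] [Algebra R R₁]
    [CommRing A] [Algebra R A] [Algebra.FinitePresentation R A] [CommRing Λ] [Algebra R Λ]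
    [CommRing A₁] [Algebra R A₁] [Algebra R₁ A₁] [IsScalarTower R R₁ A₁]
    [CommRing Λ₁] [Algebra R Λ₁] [Algebra R₁ Λ₁] [IsScalarTower R R₁ Λ₁]
    (π : R) (hR : ∀ r : R, π ^ 2 * r = 0 → π * r = 0) (hΛ : ∀ x : Λ, π ^ 2 • x = 0 → π • x = 0)
    (hs : Function.Surjective (algebraMap R R₁)) (hk : RingHom.ker (algebraMap R R₁) = Ideal.span {π ^ 8})
    (pA : A →ₐ[R] A₁) (hpA : Function.Surjective pA)
    (hkA : RingHom.ker pA.toRingHom = (Ideal.span {π ^ 8}).map (algebraMap R A))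
    (pΛ : Λ →ₐ[R] Λ₁) (hpΛ : Function.Surjective pΛ)
    (hkΛ : RingHom.ker pΛ.toRingHom = (Ideal.span {π ^ 8}).map (algebraMap R Λ))
    (φ : A →ₐ[R] Λ) (φ₁ : A₁ →ₐ[R₁] Λ₁) (hφ : ∀ a, φ₁ (pA a) = pΛ (φ a))
    (hπ : Smoothing.IsStrictlyStandard R A (algebraMap R A π)) (𝔮 : Ideal Λ)
    (hres : Smoothing.Resolvable R₁ φ₁ (𝔮.map pΛ)) : Smoothing.Resolvable R φ 𝔮 := by
  obtain ⟨C₁, _, _, _, gC, hC, hgh, hle, hnle⟩ := hres
  let Rp := R ⧸ Ideal.span {π ^ 8}
  let e : Rp →+* R₁ := Ideal.Quotient.lift _ (algebraMap R R₁) fun x hx => RingHom.mem_ker.1 (hk.ge hx)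
  have he : Function.Bijective e := by
    refine ⟨(injective_iff_map_eq_zero e).2 fun x hx => ?_, fun y => ?_⟩
    · obtain ⟨x, rfl⟩ := Ideal.Quotient.mk_surjective x
      exact Ideal.Quotient.eq_zero_iff_mem.2 (hk.le (RingHom.mem_ker.2 hx))
    · obtain ⟨r, rfl⟩ := hs y
      exact ⟨Ideal.Quotient.mk _ r, rfl⟩
  letI : Algebra Rp R₁ := e.toAlgebra
  letI : Algebra Rp C₁ := ((algebraMap R₁ C₁).comp e).toAlgebra
  haveI : IsScalarTower Rp R₁ C₁ := IsScalarTower.of_algebraMap_eq' rfl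
  letI : Algebra R C₁ := ((algebraMap R₁ C₁).comp (algebraMap R R₁)).toAlgebra
  haveI : IsScalarTower R R₁ C₁ := IsScalarTower.of_algebraMap_eq' rfl
  haveI : IsScalarTower R Rp C₁ := IsScalarTower.of_algebraMap_eq' rfl
  haveI : Algebra.FinitePresentation Rp R₁ :=
    Algebra.FinitePresentation.equiv (AlgEquiv.ofBijective (Algebra.ofId Rp R₁) he)
  haveI : Algebra.FinitePresentation Rp C₁ := Algebra.FinitePresentation.trans Rp R₁ C₁
  let K : Ideal Λ := Ideal.span {algebraMap R Λ (π ^ 8)}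
  have hK : RingHom.ker pΛ = K := by
    rw [show K = (Ideal.span {π ^ 8}).map (algebraMap R Λ) by rw [Ideal.map_span, Set.image_singleton]]
    exact hkΛ
  let eΛ : (Λ ⧸ K) ≃ₐ[R] Λ₁ :=
    (Ideal.quotientEquivAlgOfEq R hK.symm).trans (Ideal.quotientKerAlgEquivOfSurjective hpΛ)
  have heΛ : ∀ x, eΛ (Ideal.Quotient.mk K x) = pΛ x := fun x => rfl
  let γ : A →ₐ[R] C₁ := (gC.restrictScalars R).comp pA
  let g : C₁ →ₐ[R] Λ ⧸ K := eΛ.symm.toAlgHom.comp (hC.restrictScalars R)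
  have heg : ∀ c, eΛ (g c) = hC c := fun c => eΛ.apply_symm_apply _
  obtain ⟨B, _, _, hfp, α, β, hαβ, hoff, hsing⟩ := exists_factor_of_mod π hR hΛ φ hπ (π ^ 8) (by rw [← pow_mul])
    γ g fun a => eΛ.injective (by
      rw [heg, heΛ, ← hφ]
      exact AlgHom.congr_fun hgh (pA a))
  rw [singularIdeal_eq_of_bijective (R := Rp) (R₁ := R₁) he] at hsing
  let T : Ideal Λ := Smoothing.singRad R β
  have hπB : algebraMap R B π ∈ Smoothing.singularIdeal R B := by
    refine (PrimeSpectrum.mem_vanishingIdeal _ _).2 fun Q hQ => ?_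
    by_contra h
    exact hQ (hoff Q.asIdeal h)
  have hKT : K ≤ T := by
    rw [Ideal.span_singleton_le_iff_mem, map_pow, ← β.commutes]
    exact Ideal.pow_mem_of_mem _ (Ideal.le_radical (Ideal.mem_map_of_mem β hπB)) 8 (by norm_num)
  have hCT : (Smoothing.singularIdeal R₁ C₁).map hC ≤ T.map pΛ := by
    refine Ideal.map_le_iff_le_comap.2 fun c hc => ?_
    obtain ⟨x, hx, hxc⟩ := (Ideal.mem_map_iff_of_surjective _ Ideal.Quotient.mk_surjective).1
      (hsing (Ideal.mem_map_of_mem g hc))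
    rw [Ideal.mem_comap, ← heg, ← hxc, heΛ]
    exact Ideal.mem_map_of_mem pΛ hx
  have hcomap : (T.map pΛ).comap pΛ = T := by
    refine le_antisymm (fun x hx => ?_) Ideal.le_comap_map
    obtain ⟨y, hy, hyx⟩ := (Ideal.mem_map_iff_of_surjective pΛ hpΛ).1 hx
    have h1 := hKT (hK.le (RingHom.mem_ker.2 (show pΛ (x - y) = 0 by rw [map_sub, hyx, sub_self])))
    have h2 := T.add_mem h1 hy
    rwa [sub_add_cancel] at h2
  refine ⟨B, inferInstance, inferInstance, hfp, α, β, hαβ, ?_, fun hq => ?_⟩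
  · have h : (Smoothing.singularIdeal R A).map φ ≤ T := by
      refine Ideal.map_le_iff_le_comap.2 fun a ha => ?_
      have h1 : pA a ∈ Smoothing.singularIdeal R₁ A₁ :=
        singularIdeal_map_le hs pA hpA (by rw [hk]; exact hkA.le) ha
      obtain ⟨k, hk'⟩ := hle (Ideal.le_radical (Ideal.mem_map_of_mem φ₁ h1))
      have h2 := hCT hk'
      rw [hφ, ← map_pow] at h2
      have h3 : φ a ^ k ∈ T := hcomap.le h2
      exact (Ideal.radical_isRadical _) ⟨k, h3⟩
    exact (Ideal.radical_mono h).trans (Ideal.radical_idem _).le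
  · refine hnle fun y hy => ?_
    obtain ⟨k, hk'⟩ := hy
    obtain ⟨x, rfl⟩ := hpΛ y
    have h1 : x ^ k ∈ T := hcomap.le (show pΛ (x ^ k) ∈ T.map pΛ by rw [map_pow]; exact hCT hk')
    exact Ideal.mem_map_of_mem pΛ (hq ((Ideal.radical_isRadical _) ⟨k, h1⟩))

/-- Strictly standard elements stay so modulo an ideal of the base. -/
theorem isStrictlyStandard_quotient {R A : Type u} [CommRing R] [CommRing A] [Algebra R A] (I : Ideal R) (a : A)
    (h : Smoothing.IsStrictlyStandard R A a) :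
    Smoothing.IsStrictlyStandard (R ⧸ I) (A ⧸ I.map (algebraMap R A)) (Ideal.Quotient.mk _ a) := by
  let J := I.map (algebraMap R A)
  let R' := R ⧸ I
  let f : R' ⊗[R] A →ₐ[R'] A ⧸ J :=
    Algebra.TensorProduct.lift (Algebra.ofId R' _) (Ideal.Quotient.mkₐ R J) fun _ _ => Commute.all _ _
  let g : A ⧸ J →ₐ[R] R' ⊗[R] A := Ideal.Quotient.liftₐ J Algebra.TensorProduct.includeRight
    fun x hx => RingHom.mem_ker.1 ((Ideal.map_le_iff_le_comap.2 fun r hr => by
      show (1 : R') ⊗ₜ[R] algebraMap R A r = 0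
      rw [← Algebra.TensorProduct.algebraMap_apply' r, IsScalarTower.algebraMap_apply R R' (R' ⊗[R] A),
        show algebraMap R R' r = 0 from Ideal.Quotient.eq_zero_iff_mem.2 hr, map_zero] :
      J ≤ RingHom.ker (Algebra.TensorProduct.includeRight : A →ₐ[R] R' ⊗[R] A).toRingHom) hx)
  have hf : ∀ a : A, f ((1 : R') ⊗ₜ[R] a) = Ideal.Quotient.mk J a := fun a =>
    (Algebra.TensorProduct.lift_tmul _ _ _ _ _).trans (by rw [map_one, one_mul]; rfl)
  have hgf : ∀ x, g (f x) = x := fun x => by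
    induction x with
    | zero => rw [map_zero, map_zero]
    | add x y hx hy => rw [map_add, map_add, hx, hy]
    | tmul r b =>
      obtain ⟨r, rfl⟩ := Ideal.Quotient.mk_surjective r
      rw [show (Ideal.Quotient.mk I r : R') ⊗ₜ[R] b = (1 : R') ⊗ₜ[R] (r • b) by
        rw [← smul_tmul, Algebra.smul_def, mul_one]; rfl, hf]
      rfl
  let E : R' ⊗[R] A ≃ₐ[R'] A ⧸ J := AlgEquiv.ofBijective f ⟨Function.LeftInverse.injective hgf,
    fun y => by obtain ⟨b, rfl⟩ := Ideal.Quotient.mk_surjective y; exact ⟨_, hf b⟩⟩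
  obtain ⟨P, hP, hkill⟩ := (isStandard_baseChange (R' := R') a).2 h
  let P' : Smoothing.MarkedPresentation R' (A ⧸ J) :=
    { n := P.n, m := P.m, c := P.c, hcn := P.hcn, hcm := P.hcm, rel := P.rel, hom := E.toAlgHom.comp P.hom,
      surj := E.surjective.comp P.surj
      ker_eq := by
        rw [← P.ker_eq]
        ext x
        exact E.injective.eq_iff' (map_zero E) }
  refine ⟨P', ?_, fun a' ha' => hkill a' (E.injective ((ha' : E (P.hom a') = _).trans (hf a).symm))⟩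
  have h1 := Ideal.mem_map_of_mem E.toAlgHom.toRingHom hP
  rw [Ideal.map_span, ← Set.range_comp, show E.toAlgHom.toRingHom ((1 : R') ⊗ₜ[R] a) = Ideal.Quotient.mk J a from hf a] at h1
  exact h1

theorem quotient_map_eq_span {R A : Type u} [CommRing R] [CommRing A] [Algebra R A] (I : Ideal R) (x : R) :
    RingHom.ker (Ideal.Quotient.factor (Ideal.map_mono le_sup_left :
      I.map (algebraMap R A) ≤ (I ⊔ Ideal.span {x}).map (algebraMap R A))) =
      (Ideal.span {Ideal.Quotient.mk I x}).map (algebraMap (R ⧸ I) (A ⧸ I.map (algebraMap R A))) := by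
  rw [Ideal.map_span, Set.image_singleton,
    show algebraMap (R ⧸ I) (A ⧸ I.map (algebraMap R A)) (Ideal.Quotient.mk I x) =
      Ideal.Quotient.mk (I.map (algebraMap R A)) (algebraMap R A x) from rfl]
  refine le_antisymm (fun y hy => ?_) ?_
  · obtain ⟨y, rfl⟩ := Ideal.Quotient.mk_surjective y
    rw [RingHom.mem_ker, Ideal.Quotient.factor_mk, Ideal.Quotient.eq_zero_iff_mem, Ideal.map_sup,
      Submodule.mem_sup] at hy
    obtain ⟨i, hi, j, hj, rfl⟩ := hy
    rw [map_add, Ideal.Quotient.eq_zero_iff_mem.2 hi, zero_add, ← Set.image_singleton, ← Ideal.map_span]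
    exact Ideal.mem_map_of_mem _ (by rwa [Ideal.map_span, Set.image_singleton] at hj)
  · rw [Ideal.span_singleton_le_iff_mem, RingHom.mem_ker, Ideal.Quotient.factor_mk, Ideal.Quotient.eq_zero_iff_mem]
    exact Ideal.mem_map_of_mem _ (Ideal.mem_sup_right (Ideal.mem_span_singleton_self x))

/-- One step between two quotient levels. -/
theorem resolvable_level {R A Λ : Type u} [CommRing R] [IsNoetherianRing R] [CommRing A] [Algebra R A]
    [Algebra.FinitePresentation R A] [CommRing Λ] [Algebra R Λ] (φ : A →ₐ[R] Λ) (𝔮 : Ideal Λ) (I I' : Ideal R)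
    (π : R) (hI' : I' = I ⊔ Ideal.span {π ^ 8})
    (hR : ∀ x : R ⧸ I, Ideal.Quotient.mk I π ^ 2 * x = 0 → Ideal.Quotient.mk I π * x = 0)
    (hΛ : ∀ x : Λ ⧸ I.map (algebraMap R Λ), Ideal.Quotient.mk _ (algebraMap R Λ π) ^ 2 * x = 0 →
      Ideal.Quotient.mk _ (algebraMap R Λ π) * x = 0)
    (hπ : Smoothing.IsStrictlyStandard R A (algebraMap R A π))
    (h : ∀ f : (A ⧸ I'.map (algebraMap R A)) →ₐ[R ⧸ I'] (Λ ⧸ I'.map (algebraMap R Λ)),
      (∀ a, f (Ideal.Quotient.mk _ a) = Ideal.Quotient.mk _ (φ a)) →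
        Smoothing.Resolvable (R ⧸ I') f (𝔮.map (Ideal.Quotient.mk (I'.map (algebraMap R Λ)))))
    (f : (A ⧸ I.map (algebraMap R A)) →ₐ[R ⧸ I] (Λ ⧸ I.map (algebraMap R Λ)))
    (hf : ∀ a, f (Ideal.Quotient.mk _ a) = Ideal.Quotient.mk _ (φ a)) :
    Smoothing.Resolvable (R ⧸ I) f (𝔮.map (Ideal.Quotient.mk (I.map (algebraMap R Λ)))) := by
  subst hI'
  let I' := I ⊔ Ideal.span {π ^ 8}
  let JA := I.map (algebraMap R A); let JA' := I'.map (algebraMap R A)
  let JΛ := I.map (algebraMap R Λ); let JΛ' := I'.map (algebraMap R Λ)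
  haveI : Algebra.FinitePresentation R (A ⧸ JA) :=
    Algebra.FinitePresentation.quotient (Ideal.FG.map (IsNoetherian.noetherian I) _)
  haveI : Algebra.FinitePresentation (R ⧸ I) (A ⧸ JA) :=
    Algebra.FinitePresentation.of_restrict_scalars_finitePresentation R (R ⧸ I) (A ⧸ JA)
  have hle : I ≤ I' := le_sup_left
  letI : Algebra (R ⧸ I) (R ⧸ I') := (Ideal.Quotient.factor hle).toAlgebra
  letI : Algebra (R ⧸ I) (A ⧸ JA') := ((algebraMap (R ⧸ I') (A ⧸ JA')).comp (Ideal.Quotient.factor hle)).toAlgebra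
  letI : Algebra (R ⧸ I) (Λ ⧸ JΛ') := ((algebraMap (R ⧸ I') (Λ ⧸ JΛ')).comp (Ideal.Quotient.factor hle)).toAlgebra
  haveI : IsScalarTower (R ⧸ I) (R ⧸ I') (A ⧸ JA') := IsScalarTower.of_algebraMap_eq' rfl
  haveI : IsScalarTower (R ⧸ I) (R ⧸ I') (Λ ⧸ JΛ') := IsScalarTower.of_algebraMap_eq' rfl
  let pA : (A ⧸ JA) →ₐ[R ⧸ I] A ⧸ JA' := ⟨Ideal.Quotient.factor (Ideal.map_mono hle), fun r => by
    obtain ⟨r, rfl⟩ := Ideal.Quotient.mk_surjective r
    rfl⟩
  let pΛ : (Λ ⧸ JΛ) →ₐ[R ⧸ I] Λ ⧸ JΛ' := ⟨Ideal.Quotient.factor (Ideal.map_mono hle), fun r => by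
    obtain ⟨r, rfl⟩ := Ideal.Quotient.mk_surjective r
    rfl⟩
  let f' : (A ⧸ JA') →ₐ[R ⧸ I'] Λ ⧸ JΛ' :=
    ⟨Ideal.quotientMap JΛ' φ.toRingHom (Ideal.map_le_iff_le_comap.2 fun r hr => by
      show φ (algebraMap R A r) ∈ JΛ'
      rw [φ.commutes]
      exact Ideal.mem_map_of_mem _ hr), fun r => by
      obtain ⟨r, rfl⟩ := Ideal.Quotient.mk_surjective r
      exact congrArg (Ideal.Quotient.mk JΛ') (φ.commutes r)⟩
  refine resolvable_step (R₁ := R ⧸ I') (Ideal.Quotient.mk I π) hR (fun x hx => ?_) ?_ ?_ pA ?_ ?_ pΛ ?_ ?_ f f'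
    (fun a => ?_) (isStrictlyStandard_quotient I _ hπ) _ ?_
  · rw [Algebra.smul_def] at hx ⊢
    rw [map_pow] at hx
    exact hΛ x hx
  · intro y
    obtain ⟨r, rfl⟩ := Ideal.Quotient.mk_surjective y
    exact ⟨Ideal.Quotient.mk I r, rfl⟩
  · have := quotient_map_eq_span (A := R) I (π ^ 8)
    ext y
    obtain ⟨y, rfl⟩ := Ideal.Quotient.mk_surjective y
    show Ideal.Quotient.mk I' y = 0 ↔ _
    rw [Ideal.Quotient.eq_zero_iff_mem, ← map_pow, ← Set.image_singleton, ← Ideal.map_span,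
      ← Ideal.mem_comap, Ideal.comap_map_of_surjective _ Ideal.Quotient.mk_surjective, ← RingHom.ker_eq_comap_bot,
      Ideal.mk_ker, sup_comm]
  · exact Ideal.Quotient.factor_surjective (Ideal.map_mono hle)
  · rw [← map_pow]; exact quotient_map_eq_span I (π ^ 8)
  · exact Ideal.Quotient.factor_surjective (Ideal.map_mono hle)
  · rw [← map_pow]; exact quotient_map_eq_span I (π ^ 8)
  · obtain ⟨a, rfl⟩ := Ideal.Quotient.mk_surjective a
    rw [hf]
    rfl
  · have e : (𝔮.map (Ideal.Quotient.mk JΛ)).map pΛ = 𝔮.map (Ideal.Quotient.mk JΛ') := Ideal.map_map _ _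
    rw [e]
    exact h f' fun _ => rfl

theorem resolvable_of_resolvable_mod {R A Λ : Type u} [CommRing R] [IsNoetherianRing R]
    [CommRing A] [Algebra R A] [Algebra.FinitePresentation R A] [CommRing Λ] [Algebra R Λ]
    (φ : A →ₐ[R] Λ) (𝔮 : Ideal Λ) {r : ℕ} (hr : 0 < r) (π : Fin r → R)
    (hR : ∀ i : Fin r, ∀ x : R ⧸ Ideal.span (Set.range fun j : {j : Fin r // (j : ℕ) < (i : ℕ)} => π j ^ 8),
      Ideal.Quotient.mk _ (π i) ^ 2 * x = 0 → Ideal.Quotient.mk _ (π i) * x = 0)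
    (hΛ : ∀ i : Fin r, ∀ x : Λ ⧸ Ideal.span (Set.range fun j : {j : Fin r // (j : ℕ) < (i : ℕ)} =>
        algebraMap R Λ (π j) ^ 8),
      Ideal.Quotient.mk _ (algebraMap R Λ (π i)) ^ 2 * x = 0 → Ideal.Quotient.mk _ (algebraMap R Λ (π i)) * x = 0)
    (hstd : ∀ i, Smoothing.IsStrictlyStandard R A (algebraMap R A (π i)))
    (K : Ideal R) (hK : K = Ideal.span (Set.range fun i => π i ^ 8))
    (φK : (A ⧸ K.map (algebraMap R A)) →ₐ[R ⧸ K] (Λ ⧸ K.map (algebraMap R Λ)))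
    (hφK : ∀ a : A, φK (Ideal.Quotient.mk _ a) = Ideal.Quotient.mk _ (φ a))
    (hres : Smoothing.Resolvable (R ⧸ K) φK (𝔮.map (Ideal.Quotient.mk (K.map (algebraMap R Λ))))) :
    Smoothing.Resolvable R φ 𝔮 := by
  classical
  let Kr : ℕ → Ideal R := fun i => Ideal.span (Set.range fun j : {j : Fin r // (j : ℕ) < i} => π j ^ 8)
  have hsucc : ∀ i : Fin r, Kr (i + 1) = Kr i ⊔ Ideal.span {π i ^ 8} := fun i => by
    rw [← Ideal.span_union]
    refine congrArg Ideal.span (Set.ext fun x => ⟨?_, ?_⟩)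
    · rintro ⟨⟨j, hj⟩, rfl⟩
      rcases Nat.lt_succ_iff_lt_or_eq.1 hj with h | h
      · exact Or.inl ⟨⟨j, h⟩, rfl⟩
      · exact Or.inr (congrArg (fun j => π j ^ 8) (Fin.ext h))
    · rintro (⟨⟨j, hj⟩, rfl⟩ | rfl)
      · exact ⟨⟨j, Nat.lt_succ_of_lt hj⟩, rfl⟩
      · exact ⟨⟨i, Nat.lt_succ_self _⟩, rfl⟩
  have hmap : ∀ i, Ideal.span (Set.range fun j : {j : Fin r // (j : ℕ) < i} => algebraMap R Λ (π j) ^ 8) =
      (Kr i).map (algebraMap R Λ) := fun i => by
    rw [Ideal.map_span, ← Set.range_comp]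
    exact congrArg Ideal.span (congrArg Set.range (funext fun j => (map_pow _ _ _).symm))
  have hΛ' : ∀ i : Fin r, ∀ x : Λ ⧸ (Kr i).map (algebraMap R Λ),
      Ideal.Quotient.mk _ (algebraMap R Λ (π i)) ^ 2 * x = 0 → Ideal.Quotient.mk _ (algebraMap R Λ (π i)) * x = 0 := by
    intro i
    rw [← hmap]
    exact hΛ i
  let P : Ideal R → Prop := fun I => ∀ f : (A ⧸ I.map (algebraMap R A)) →ₐ[R ⧸ I] (Λ ⧸ I.map (algebraMap R Λ)),
      (∀ a, f (Ideal.Quotient.mk _ a) = Ideal.Quotient.mk _ (φ a)) →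
        Smoothing.Resolvable (R ⧸ I) f (𝔮.map (Ideal.Quotient.mk (I.map (algebraMap R Λ))))
  have htop : P (Kr r) := by
    have e : Kr r = K := by
      rw [hK]
      refine congrArg Ideal.span (Set.ext fun x => ⟨?_, ?_⟩)
      · rintro ⟨⟨j, -⟩, rfl⟩; exact ⟨j, rfl⟩
      · rintro ⟨j, rfl⟩; exact ⟨⟨j, j.2⟩, rfl⟩
    rw [e]
    intro f hf
    have : f = φK := AlgHom.ext fun a => by
      obtain ⟨a, rfl⟩ := Ideal.Quotient.mk_surjective a
      rw [hf, hφK]
    rw [this]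
    exact hres
  have hone : P (Kr 1) :=
    Nat.decreasingInduction (motive := fun k _ => P (Kr k))
      (fun k hk ih => resolvable_level φ 𝔮 _ _ (π ⟨k, hk⟩) (hsucc ⟨k, hk⟩) (hR ⟨k, hk⟩) (hΛ' ⟨k, hk⟩)
        (hstd _) ih) htop (show 1 ≤ r from hr)
  let i₀ : Fin r := ⟨0, hr⟩
  have h0 : Kr 0 = ⊥ := by
    refine Ideal.span_eq_bot.2 ?_
    rintro _ ⟨⟨j, hj⟩, rfl⟩
    exact absurd hj (Nat.not_lt_zero _)
  have h1 : Kr 1 = Ideal.span {π i₀ ^ 8} := by rw [show (1 : ℕ) = (i₀ : ℕ) + 1 from rfl, hsucc i₀, h0, bot_sup_eq]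
  let I := Kr 1
  let JA := I.map (algebraMap R A)
  let JΛ := I.map (algebraMap R Λ)
  let f' : (A ⧸ JA) →ₐ[R ⧸ I] Λ ⧸ JΛ :=
    ⟨Ideal.quotientMap JΛ φ.toRingHom (Ideal.map_le_iff_le_comap.2 fun r hr => by
      show φ (algebraMap R A r) ∈ JΛ
      rw [φ.commutes]
      exact Ideal.mem_map_of_mem _ hr), fun r => by
      obtain ⟨r, rfl⟩ := Ideal.Quotient.mk_surjective r
      exact congrArg (Ideal.Quotient.mk JΛ) (φ.commutes r)⟩
  refine resolvable_step (R₁ := R ⧸ I) (π i₀) (fun x hx => ?_) (fun x hx => ?_) Ideal.Quotient.mk_surjective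
    ?_ (Ideal.Quotient.mkₐ R JA) Ideal.Quotient.mk_surjective ?_ (Ideal.Quotient.mkₐ R JΛ)
    Ideal.Quotient.mk_surjective ?_ φ f' (fun a => rfl) (hstd _) 𝔮 (hone f' fun _ => rfl)
  · have h := hR i₀ (Ideal.Quotient.mk _ x) (by rw [← map_pow, ← map_mul, hx, map_zero])
    rw [← map_mul, Ideal.Quotient.eq_zero_iff_mem] at h
    change _ ∈ Kr 0 at h
    rwa [h0, Ideal.mem_bot] at h
  · rw [Algebra.smul_def] at hx ⊢
    rw [map_pow] at hx
    have h := hΛ' i₀ (Ideal.Quotient.mk _ x) (by rw [← map_pow, ← map_mul, hx, map_zero])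
    rw [← map_mul, Ideal.Quotient.eq_zero_iff_mem] at h
    change _ ∈ (Kr 0).map _ at h
    rwa [h0, Ideal.map_bot, Ideal.mem_bot] at h
  · exact Ideal.mk_ker.trans h1
  · exact Ideal.mk_ker.trans (congrArg (Ideal.map _) h1)
  · exact Ideal.mk_ker.trans (congrArg (Ideal.map _) h1)

end Groth.Agent.Lib.SmoothingH7
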