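import Groth.Agent.Lib.RegPowH7.Basic
import Groth.Agent.Lib.RegLoc.Sop
import Mathlib.Algebra.MvPolynomial.CommRing
import Mathlib.RingTheory.MvPolynomial.Ideal

/-!
Parameters with the annihilator conditions, with a prescribed exponent into the ideal.
-/

set_option autoImplicit false

universe u

namespace Groth.Agent.Lib.SmoothingH7

theorem exists_parameters {Λ : Type u} [CommRing Λ] [IsNoetherianRing Λ] (I q : Ideal Λ)
    [q.IsPrime] (n e d : ℕ) (hn : 0 < n) (he : 0 < e)
    (hpow : (q ^ n).map (algebraMap Λ (Localization.AtPrime q)) ≤ I.map (algebraMap Λ (Localization.AtPrime q)))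
    [IsRegularLocalRing (Localization.AtPrime q)] (hd : ringKrullDim (Localization.AtPrime q) = d) :
    ∃ π : Fin d → Λ,
      Ideal.span (Set.range fun i => algebraMap Λ (Localization.AtPrime q) (π i)) =
        q.map (algebraMap Λ (Localization.AtPrime q)) ∧
      (∀ i, π i ^ n ∈ I) ∧
      ∀ i : Fin d, ∀ x : Λ ⧸ Ideal.span (Set.range fun j : {j : Fin d // (j : ℕ) < (i : ℕ)} => π j ^ e),
        Ideal.Quotient.mk _ (π i) ^ 2 * x = 0 → Ideal.Quotient.mk _ (π i) * x = 0 := by
  classical
  set S := Localization.AtPrime q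
  set f := algebraMap Λ S with hf
  have hqS : q.map f = IsLocalRing.maximalIdeal S := IsLocalization.AtPrime.map_eq_maximalIdeal q S
  have hunit : ∀ t, t ∉ q → IsUnit (f t) := fun t ht => IsLocalization.map_units S (⟨t, ht⟩ : q.primeCompl)
  have hinS : ∀ (J : Ideal Λ) (a : Λ), f a ∈ J.map f → ∃ t, t ∉ q ∧ t * a ∈ J := by
    intro J a ha
    obtain ⟨t, ht, h⟩ := (IsLocalization.algebraMap_mem_map_algebraMap_iff q.primeCompl S J a).1 ha
    exact ⟨t, ht, h⟩
  -- initial parameters
  obtain ⟨g, hg⟩ := Groth.Agent.RegLoc.exists_fin_generators S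
  have hr := Groth.Agent.RegLoc.spanFinrank_eq_of_dim hd
  obtain ⟨g, hg⟩ : ∃ g : Fin d → S, Ideal.span (Set.range g) = IsLocalRing.maximalIdeal S := by
    rw [← hr]; exact ⟨g, hg⟩
  have hreg : RingTheory.Sequence.IsWeaklyRegular S (List.ofFn g) :=
    (Groth.Agent.RegLoc.isRegular_of_span_range d S g hg hr).1
  have hgm : ∀ i, g i ∈ IsLocalRing.maximalIdeal S := fun i => hg ▸ Ideal.subset_span ⟨i, rfl⟩
  have hx : ∀ i, ∃ a : Λ, a ^ n ∈ I ∧ ∃ u : S, IsUnit u ∧ f a = u * g i := by
    intro i
    obtain ⟨⟨a, s⟩, has⟩ := IsLocalization.surj q.primeCompl (g i)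
    have has' : g i * f (s : Λ) = f a := has
    have haq : a ∈ q := by
      rw [← IsLocalization.AtPrime.to_map_mem_maximal_iff S q a, ← hf, ← has']
      exact Ideal.mul_mem_right _ _ (hgm i)
    obtain ⟨t, ht, hta⟩ := hinS I (a ^ n) (hpow (Ideal.mem_map_of_mem _ (Ideal.pow_mem_pow haq n)))
    refine ⟨t * a, ?_, f t * f (s : Λ), (hunit t ht).mul (hunit s s.2), ?_⟩
    · obtain ⟨m, rfl⟩ : ∃ m, n = m + 1 := ⟨n - 1, by omega⟩
      rw [mul_pow, pow_succ t m, mul_assoc]
      exact Ideal.mul_mem_left _ _ hta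
    · rw [map_mul, ← has']; ring
  choose a haI u hu hau using hx
  -- the span of the powers in the localization is unchanged by units
  have hspan : ∀ (π : Fin d → Λ), (∀ i, ∃ v : S, IsUnit v ∧ f (π i) = v * g i) → ∀ m : ℕ, ∀ e' : ℕ,
      (Ideal.span (Set.range fun j : {j : Fin d // (j : ℕ) < m} => π j ^ e')).map f =
        Ideal.span (Set.range fun j : {j : Fin d // (j : ℕ) < m} => g j ^ e') := by
    intro π hπ m e'
    rw [Ideal.map_span]
    apply le_antisymm <;> rw [Ideal.span_le]
    · rintro _ ⟨_, ⟨j, rfl⟩, rfl⟩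
      obtain ⟨v, -, hv⟩ := hπ j
      rw [SetLike.mem_coe, map_pow, hv, mul_pow]
      exact Ideal.mul_mem_left _ _ (Ideal.subset_span ⟨j, rfl⟩)
    · rintro _ ⟨j, rfl⟩
      obtain ⟨v, hv0, hv⟩ := hπ j
      rw [SetLike.mem_coe]
      dsimp only
      have h1 : v ^ e' * g j ^ e' ∈ Ideal.span (f '' Set.range fun j : {j : Fin d // (j : ℕ) < m} => π j ^ e') := by
        rw [← mul_pow, ← hv, ← map_pow]
        exact Ideal.subset_span ⟨_, ⟨j, rfl⟩, rfl⟩
      exact (Ideal.unit_mul_mem_iff_mem _ (hv0.pow e')).1 h1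
  let P : (Fin d → Λ) → Fin d → Prop := fun π i =>
    ∀ y : Λ, π i ^ 2 * y ∈ Ideal.span (Set.range fun j : {j : Fin d // (j : ℕ) < (i : ℕ)} => π j ^ e) →
      π i * y ∈ Ideal.span (Set.range fun j : {j : Fin d // (j : ℕ) < (i : ℕ)} => π j ^ e)
  suffices key : ∀ m : ℕ, m ≤ d → ∃ π : Fin d → Λ,
      (∀ i, π i ^ n ∈ I ∧ ∃ v : S, IsUnit v ∧ f (π i) = v * g i) ∧ ∀ i : Fin d, (i : ℕ) < m → P π i by
    obtain ⟨π, hπ, hP⟩ := key d le_rfl
    refine ⟨π, ?_, fun i => (hπ i).1, fun i x hx => ?_⟩
    · show Ideal.span _ = q.map f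
      rw [hqS, ← hg]
      apply le_antisymm <;> rw [Ideal.span_le]
      · rintro _ ⟨j, rfl⟩
        obtain ⟨v, -, hv⟩ := (hπ j).2
        rw [SetLike.mem_coe]; dsimp only
        rw [hv]
        exact Ideal.mul_mem_left _ _ (Ideal.subset_span ⟨j, rfl⟩)
      · rintro _ ⟨j, rfl⟩
        obtain ⟨v, hv0, hv⟩ := (hπ j).2
        rw [SetLike.mem_coe, ← Ideal.unit_mul_mem_iff_mem _ hv0, ← hv]
        exact Ideal.subset_span ⟨j, rfl⟩
    · obtain ⟨y, rfl⟩ := Ideal.Quotient.mk_surjective x
      rw [← map_pow, ← map_mul, Ideal.Quotient.eq_zero_iff_mem] at hx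
      rw [← map_mul, Ideal.Quotient.eq_zero_iff_mem]
      exact hP i i.2 y hx
  intro m
  induction m with
  | zero => exact fun _ => ⟨a, fun i => ⟨haI i, u i, hu i, hau i⟩, fun i hi => absurd hi (Nat.not_lt_zero _)⟩
  | succ m ih =>
    intro hm
    obtain ⟨π, hπ, hP⟩ := ih (Nat.le_of_succ_le hm)
    let i₀ : Fin d := ⟨m, hm⟩
    set J := Ideal.span (Set.range fun j : {j : Fin d // (j : ℕ) < (i₀ : ℕ)} => π j ^ e) with hJ
    -- the torsion of `π i₀` modulo `J` dies in the localization
    let K : ℕ →o Ideal Λ :=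
      { toFun := fun k => J.colon ({π i₀ ^ k} : Set Λ)
        monotone' := fun k l hkl x hx => by
          rw [Submodule.mem_colon_singleton, smul_eq_mul] at hx ⊢
          obtain ⟨c, rfl⟩ := Nat.exists_eq_add_of_le hkl
          rw [pow_add, ← mul_assoc]
          exact J.mul_mem_right _ hx }
    obtain ⟨k, hk⟩ := monotone_stabilizes_iff_noetherian.2 ‹IsNoetherianRing Λ› K
    obtain ⟨G, hG⟩ := IsNoetherian.noetherian (K k)
    have hkill : ∀ y ∈ K k, ∃ t, t ∉ q ∧ t * y ∈ J := by
      intro y hy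
      refine hinS J y ?_
      have h1 : f (y * π i₀ ^ k) ∈ J.map f := Ideal.mem_map_of_mem _ (Submodule.mem_colon_singleton.1 hy)
      obtain ⟨v, hv0, hv⟩ := (hπ i₀).2
      rw [hJ, hspan π (fun i => (hπ i).2)] at h1 ⊢
      rw [map_mul, map_pow, hv, mul_pow, mul_comm, mul_assoc, Ideal.unit_mul_mem_iff_mem _ (hv0.pow k)] at h1
      generalize hb : f y = b at h1 ⊢
      clear hb hy hk hG
      induction k generalizing b with
      | zero => simpa using h1
      | succ k ihk =>
        rw [pow_succ', mul_assoc] at h1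
        exact ihk _ (Groth.Agent.RegPowH7.mul_mem_imp he g hreg hgm i₀ _ h1)
    choose! t ht htJ using hkill
    let T : Λ := ∏ y ∈ G, t y
    have hGK : ∀ y ∈ G, y ∈ K k := fun y hy => hG ▸ Ideal.subset_span hy
    have hT : T ∉ q := fun h => by
      obtain ⟨y, hy, h'⟩ := (Ideal.IsPrime.prod_mem_iff (p := q)).1 h
      exact ht y (hGK y hy) h'
    have hTK : ∀ y ∈ K k, T * y ∈ J := by
      intro y hy
      rw [← hG] at hy
      induction hy using Submodule.span_induction with
      | mem z hz =>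
        obtain ⟨c, hc⟩ := Finset.dvd_prod_of_mem t hz
        show (∏ y ∈ G, t y) * z ∈ J
        rw [hc, mul_right_comm]
        exact J.mul_mem_right _ (htJ z (hGK z hz))
      | zero => simp
      | add z w _ _ hz hw => rw [mul_add]; exact add_mem hz hw
      | smul c z _ hz => rw [smul_eq_mul, mul_left_comm]; exact J.mul_mem_left _ hz
    let A : ℕ →o Ideal Λ :=
      { toFun := fun l => J.colon ({T ^ l} : Set Λ)
        monotone' := fun l l' hll x hx => by
          rw [Submodule.mem_colon_singleton, smul_eq_mul] at hx ⊢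
          obtain ⟨c, rfl⟩ := Nat.exists_eq_add_of_le hll
          rw [pow_add, ← mul_assoc]
          exact J.mul_mem_right _ hx }
    obtain ⟨M, hM⟩ := monotone_stabilizes_iff_noetherian.2 ‹IsNoetherianRing Λ› A
    let π' := Function.update π i₀ (T ^ M * π i₀)
    have hne : ∀ j : Fin d, (j : ℕ) ≠ m → π' j = π j := fun j hj =>
      Function.update_of_ne (fun h => hj (by rw [h])) _ _
    have hi₀ : π' i₀ = T ^ M * π i₀ := Function.update_self _ _ _
    refine ⟨π', fun i => ?_, fun i hi => ?_⟩
    · by_cases him : i = i₀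
      · subst him
        obtain ⟨v, hv0, hv⟩ := (hπ i₀).2
        rw [hi₀]
        exact ⟨by rw [mul_pow]; exact Ideal.mul_mem_left _ _ (hπ i₀).1, f (T ^ M) * v,
          (show IsUnit (f (T ^ M)) by rw [map_pow]; exact (hunit T hT).pow M).mul hv0, by rw [map_mul, hv]; ring⟩
      · rw [hne i (fun h => him (Fin.ext h))]
        exact hπ i
    · have hspan' : Ideal.span (Set.range fun j : {j : Fin d // (j : ℕ) < (i : ℕ)} => π' j ^ e) =
          Ideal.span (Set.range fun j : {j : Fin d // (j : ℕ) < (i : ℕ)} => π j ^ e) := by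
        congr 1
        refine congrArg Set.range (funext fun j => ?_)
        rw [hne j.1 (by have := j.2; omega)]
      show ∀ y : Λ, _ ∈ Ideal.span _ → _ ∈ Ideal.span _
      rw [hspan']
      rcases Nat.lt_succ_iff_lt_or_eq.1 hi with him | him
      · rw [hne i (by omega)]
        exact hP i him
      · obtain rfl : i = i₀ := Fin.ext him
        rw [hi₀]
        intro y hy
        have h1 : T ^ (2 * M) * y ∈ K k := by
          have h2 : T ^ (2 * M) * y ∈ K 2 := Submodule.mem_colon_singleton.2 (by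
            rw [smul_eq_mul]
            convert hy using 1
            ring)
          rcases le_total 2 k with hle | hle
          · exact K.monotone hle h2
          · exact (hk 2 hle).symm ▸ h2
        have h3 : y ∈ A (2 * M + 1) := Submodule.mem_colon_singleton.2 (by
          rw [smul_eq_mul]
          convert hTK _ h1 using 1
          ring)
        rw [← hM (2 * M + 1) (by omega)] at h3
        have h4 := Submodule.mem_colon_singleton.1 h3
        rw [smul_eq_mul] at h4
        convert J.mul_mem_right (π i₀) h4 using 1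
        ring

/-- Killing by a square implies killing by the element: the same holds for powers. -/
theorem annihilator_pow {T : Type u} [CommRing T] (p : T) (h : ∀ x, p ^ 2 * x = 0 → p * x = 0) (M : ℕ) (x : T)
    (hx : (p ^ M) ^ 2 * x = 0) : p ^ M * x = 0 := by
  have key : ∀ j : ℕ, ∀ y : T, p ^ (j + 1) * y = 0 → p * y = 0 := fun j => by
    induction j with
    | zero => intro y hy; simpa using hy
    | succ j ih =>
      intro y hy
      refine ih y ?_
      have := h (p ^ j * y) (by linear_combination hy)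
      linear_combination this
  rcases Nat.eq_zero_or_pos M with rfl | hM
  · simpa using hx
  obtain ⟨j, rfl⟩ := Nat.exists_eq_add_of_le hM
  have h1 := key (2 * (1 + j) - 1) x (by rw [show 2 * (1 + j) - 1 + 1 = (1 + j) * 2 by omega, pow_mul]; exact hx)
  linear_combination p ^ j * h1

open MvPolynomial in
/-- In a polynomial ring a power of one variable is regular modulo powers of the others. -/
theorem mem_of_pow_mul_mem {k : Type u} [CommRing k] {σ : Type} (s : Set σ) (e a : ℕ) (i : σ) (hi : i ∉ s)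
    (y : MvPolynomial σ k) (hy : (X i : MvPolynomial σ k) ^ a * y ∈ Ideal.span ((fun j => (X j : MvPolynomial σ k) ^ e) '' s)) :
    y ∈ Ideal.span ((fun j => (X j : MvPolynomial σ k) ^ e) '' s) := by
  classical
  have hrw : (fun j => (X j : MvPolynomial σ k) ^ e) '' s =
      (fun m : σ →₀ ℕ => monomial m (1 : k)) '' ((fun j => Finsupp.single j e) '' s) := by
    rw [Set.image_image]
    exact Set.image_congr fun j _ => X_pow_eq_monomial
  rw [hrw, mem_ideal_span_monomial_image] at hy ⊢
  intro m hm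
  obtain ⟨_, ⟨j, hj, rfl⟩, hle⟩ := hy (Finsupp.single i a + m) (by
    rw [mem_support_iff, X_pow_eq_monomial, coeff_monomial_mul, one_mul]
    exact mem_support_iff.1 hm)
  refine ⟨_, ⟨j, hj, rfl⟩, Finsupp.single_le_iff.2 ?_⟩
  have h2 := Finsupp.single_le_iff.1 hle
  rwa [Finsupp.add_apply, Finsupp.single_eq_of_ne (fun h => hi (by rw [← h]; exact hj)), zero_add] at h2

end Groth.Agent.Lib.SmoothingH7
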