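import Groth.Prelude.Def_Smoothing
import Mathlib.RingTheory.Smooth.Locus
import Mathlib.RingTheory.Smooth.Basic
import Mathlib.RingTheory.Polynomial.Basic
import Mathlib.RingTheory.Nilpotent.Lemmas
import Mathlib.RingTheory.Localization.Away.Basic

/-!
Adjoin new variables whose `n`-th powers lie in an ideal.
-/

set_option autoImplicit false

universe u

open MvPolynomial

namespace Groth.Agent.Lib.SmoothingH7

theorem mem_singularIdeal_iff {R A : Type u} [CommRing R] [CommRing A] [Algebra R A] [Algebra.FinitePresentation R A]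
    (x : A) : x ∈ Smoothing.singularIdeal R A ↔ Algebra.FormallySmooth R (Localization.Away x) := by
  rw [Smoothing.singularIdeal, PrimeSpectrum.mem_vanishingIdeal]
  refine ⟨fun hx => Algebra.basicOpen_subset_smoothLocus_iff.1 fun P hP => ?_,
    fun hx P hP => ?_⟩
  · by_contra hns
    exact hP (hx P hns)
  · by_contra hnu
    exact hP ((Algebra.basicOpen_subset_smoothLocus_iff.2 hx) hnu)

theorem singularIdeal_isRadical {R A : Type u} [CommRing R] [CommRing A] [Algebra R A] :
    (Smoothing.singularIdeal R A).IsRadical :=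
  PrimeSpectrum.isRadical_vanishingIdeal _

/-- Singular ideals grow along a smooth change of base. -/
theorem singularIdeal_le_of_smooth {k R A : Type u} [CommRing k] [CommRing R] [CommRing A] [Algebra k R] [Algebra k A]
    [Algebra R A] [IsScalarTower k R A] [Algebra.FormallySmooth k R] :
    Smoothing.singularIdeal R A ≤ Smoothing.singularIdeal k A := by
  refine PrimeSpectrum.vanishingIdeal_anti_mono fun P hP hP' => hP ?_
  haveI : Algebra.FormallySmooth R (Localization.AtPrime P.asIdeal) := hP'
  exact Algebra.FormallySmooth.comp k R (Localization.AtPrime P.asIdeal)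

variable {k A : Type u} [CommRing k] [CommRing A] [Algebra k A] {d r : ℕ} (a : Fin r → A) (n : ℕ)

/-- The variables: `x_i` and `y_{ij}`. -/
abbrev PowVar (d r : ℕ) := Fin d ⊕ (Fin d × Fin r)

/-- The relations `x_i ^ n = ∑ a_j y_{ij}`. -/
noncomputable def powIdeal : Ideal (MvPolynomial (PowVar d r) A) :=
  Ideal.span (Set.range fun i : Fin d =>
    (X (Sum.inl i : PowVar d r) : MvPolynomial (PowVar d r) A) ^ n - ∑ j, C (a j) * X (Sum.inr (i, j) : PowVar d r))

/-- The algebra with the new variables. -/
abbrev PowAlg (d : ℕ) {r : ℕ} (a : Fin r → A) (n : ℕ) := MvPolynomial (PowVar d r) A ⧸ powIdeal (d := d) a n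

/-- The variable `x_i`. -/
noncomputable def powX (i : Fin d) : PowAlg d a n := Ideal.Quotient.mk _ (X (Sum.inl i : PowVar d r))

/-- The variable `y_{ij}`. -/
noncomputable def powY (i : Fin d) (j : Fin r) : PowAlg d a n := Ideal.Quotient.mk _ (X (Sum.inr (i, j) : PowVar d r))

theorem powX_pow (i : Fin d) : powX a n i ^ n = ∑ j, algebraMap A (PowAlg d a n) (a j) * powY a n i j := by
  show _ = ∑ j, Ideal.Quotient.mk _ (C (a j)) * Ideal.Quotient.mk _ (X (Sum.inr (i, j) : PowVar d r))
  simp only [powX, ← map_pow, ← map_mul, ← map_sum]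
  exact Ideal.Quotient.eq.2 (Ideal.subset_span ⟨i, rfl⟩)

theorem exists_powAlg_hom {Q : Type u} [CommRing Q] [Algebra A Q] (x : Fin d → Q) (y : Fin d → Fin r → Q)
    (h : ∀ i, x i ^ n = ∑ j, algebraMap A Q (a j) * y i j) :
    ∃ f : PowAlg d a n →ₐ[A] Q, (∀ i, f (powX a n i) = x i) ∧ ∀ i j, f (powY a n i j) = y i j := by
  let e : MvPolynomial (PowVar d r) A →ₐ[A] Q := aeval (Sum.elim x fun ij => y ij.1 ij.2)
  refine ⟨Ideal.Quotient.liftₐ _ e (fun z hz => (Ideal.span_le.2 ?_ : powIdeal a n ≤ RingHom.ker e) hz),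
    fun i => by simp [powX, e], fun i j => by simp [powY, e]⟩
  rintro _ ⟨i, rfl⟩
  simp [e, h]

theorem powAlg_algHom_ext {Q : Type u} [CommRing Q] [Algebra A Q] (f g : PowAlg d a n →ₐ[A] Q)
    (hx : ∀ i, f (powX a n i) = g (powX a n i)) (hy : ∀ i j, f (powY a n i j) = g (powY a n i j)) : f = g :=
  Ideal.Quotient.algHom_ext _ (MvPolynomial.algHom_ext fun v => by
    rcases v with i | ⟨i, j⟩
    · exact hx i
    · exact hy i j)

variable {R : Type u} [CommRing R] [Algebra k R] [Algebra R (PowAlg d a n)] [IsScalarTower k R (PowAlg d a n)]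

/-- Over a base containing the new variables, the algebra is smooth where some `a_l` is invertible. -/
theorem formallySmooth_powAlg (ξ : Fin d → R) (hξ : ∀ i, algebraMap R (PowAlg d a n) (ξ i) = powX a n i)
    (hR : ∀ {Q : Type u} [CommRing Q] [Algebra k Q] (f g : R →ₐ[k] Q), (∀ i, f (ξ i) = g (ξ i)) → f = g)
    (l : Fin r) [Algebra.FormallySmooth k (Localization.Away (a l))] :
    Algebra.FormallySmooth R (Localization.Away (algebraMap A (PowAlg d a n) (a l))) := by
  classical
  let B := PowAlg d a n
  let B' := Localization.Away (algebraMap A B (a l))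
  refine Algebra.FormallySmooth.iff_comp_surjective.2 fun Q _ _ I hI f => ?_
  letI : Algebra k Q := ((algebraMap R Q).comp (algebraMap k R)).toAlgebra
  haveI : IsScalarTower k R Q := IsScalarTower.of_algebraMap_eq' rfl
  let fA : A →ₐ[k] Q ⧸ I := (f.restrictScalars k).comp ((IsScalarTower.toAlgHom k B B').comp (IsScalarTower.toAlgHom k A B))
  have hfau : IsUnit (fA (a l)) :=
    (IsLocalization.Away.algebraMap_isUnit (S := B') (algebraMap A B (a l))).map f
  let fA' : Localization.Away (a l) →ₐ[k] Q ⧸ I := IsLocalization.liftAlgHom (f := fA) (M := Submonoid.powers (a l))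
    (by rintro ⟨_, j, rfl⟩; rw [map_pow]; exact hfau.pow j)
  obtain ⟨gA', hgA'⟩ := Algebra.FormallySmooth.comp_surjective k (Localization.Away (a l)) I hI fA'
  let gA : A →ₐ[k] Q := gA'.comp (IsScalarTower.toAlgHom k A (Localization.Away (a l)))
  have hgA : ∀ z, Ideal.Quotient.mk I (gA z) = fA z := fun z => by
    have := DFunLike.congr_fun hgA' (algebraMap A (Localization.Away (a l)) z)
    refine this.trans ?_
    rw [IsLocalization.liftAlgHom_apply, IsLocalization.lift_eq]
    rfl
  obtain ⟨u, hu⟩ : IsUnit (gA (a l)) :=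
    (IsLocalization.Away.algebraMap_isUnit (S := Localization.Away (a l)) (a l)).map gA'
  choose y₀ hy₀ using fun i j => Ideal.Quotient.mk_surjective (I := I) (f (algebraMap B B' (powY a n i j)))
  let y : Fin d → Fin r → Q := fun i j =>
    if j = l then ↑u⁻¹ * (algebraMap R Q (ξ i) ^ n - ∑ j' ∈ Finset.univ.erase l, gA (a j') * y₀ i j') else y₀ i j
  letI : Algebra A Q := gA.toRingHom.toAlgebra
  have hrel : ∀ i, algebraMap R Q (ξ i) ^ n = ∑ j, algebraMap A Q (a j) * y i j := fun i => by
    rw [← Finset.add_sum_erase _ _ (Finset.mem_univ l)]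
    rw [Finset.sum_congr rfl fun j hj => show algebraMap A Q (a j) * y i j = gA (a j) * y₀ i j by
      simp only [y, if_neg (Finset.ne_of_mem_erase hj)]; rfl]
    show _ = gA (a l) * y i l + _
    simp only [y, if_pos rfl, ← hu, Units.mul_inv_cancel_left, sub_add_cancel]
  obtain ⟨g₀, hg₀x, hg₀y⟩ := exists_powAlg_hom a n (fun i => algebraMap R Q (ξ i)) y hrel
  let g₀k : B →ₐ[k] Q :=
    { g₀.toRingHom with
      commutes' := fun c => by
        show g₀ (algebraMap k B c) = _
        rw [IsScalarTower.algebraMap_apply k A B, g₀.commutes]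
        exact gA.commutes c }
  let g₀R : B →ₐ[R] Q :=
    { g₀.toRingHom with
      commutes' := fun c => DFunLike.congr_fun (hR (g₀k.comp (IsScalarTower.toAlgHom k R B))
        (IsScalarTower.toAlgHom k R Q) fun i => by
          show g₀ (algebraMap R B (ξ i)) = _
          rw [hξ, hg₀x]
          rfl) c }
  have hcong : ∀ b, Ideal.Quotient.mk I (g₀R b) = f (algebraMap B B' b) := by
    letI : Algebra A (Q ⧸ I) := fA.toRingHom.toAlgebra
    have hx : ∀ i, Ideal.Quotient.mk I (g₀ (powX a n i)) = f (algebraMap B B' (powX a n i)) := fun i => by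
      rw [hg₀x, ← hξ, ← IsScalarTower.algebraMap_apply R B B', f.commutes]
      rfl
    let h1 : B →ₐ[A] Q ⧸ I :=
      { (Ideal.Quotient.mk I).comp g₀.toRingHom with
        commutes' := fun z => by
          show Ideal.Quotient.mk I (g₀ (algebraMap A B z)) = fA z
          rw [g₀.commutes]
          exact hgA z }
    let h2 : B →ₐ[A] Q ⧸ I := { f.toRingHom.comp (algebraMap B B') with commutes' := fun z => rfl }
    refine fun b => DFunLike.congr_fun (powAlg_algHom_ext a n h1 h2 hx fun i j => ?_) b
    show Ideal.Quotient.mk I (g₀ (powY a n i j)) = f (algebraMap B B' (powY a n i j))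
    rw [hg₀y]
    by_cases hj : j = l
    · subst hj
      have e1 : Ideal.Quotient.mk I (gA (a j)) * Ideal.Quotient.mk I (y i j) =
          Ideal.Quotient.mk I (gA (a j)) * f (algebraMap B B' (powY a n i j)) := by
        have e2 := congrArg (fun z => f (algebraMap B B' z)) (powX_pow a n i)
        simp only [map_pow, map_sum, map_mul] at e2
        rw [← Finset.add_sum_erase _ _ (Finset.mem_univ j)] at e2
        rw [← map_mul, hgA]
        simp only [y, if_pos rfl, ← hu, Units.mul_inv_cancel_left]
        rw [map_sub, map_pow, map_sum]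
        have e3 := hx i
        rw [hg₀x] at e3
        rw [e3, e2]
        rw [Finset.sum_congr rfl fun j' hj' => show Ideal.Quotient.mk I (gA (a j') * y₀ i j') =
          f (algebraMap B B' (algebraMap A B (a j'))) * f (algebraMap B B' (powY a n i j')) by
            rw [map_mul, hgA, hy₀]; rfl, add_sub_cancel_right]
        rfl
      exact (hfau.mul_left_cancel (by rwa [hgA] at e1))
    · simp only [y, if_neg hj]
      exact hy₀ i j
  refine ⟨IsLocalization.liftAlgHom (f := g₀R) (M := Submonoid.powers (algebraMap A B (a l))) ?_, ?_⟩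
  · rintro ⟨_, j, rfl⟩
    rw [map_pow]
    refine IsUnit.pow j ?_
    show IsUnit (g₀ (algebraMap A B (a l)))
    rw [g₀.commutes]
    exact ⟨u, hu⟩
  · refine AlgHom.coe_ringHom_injective (IsLocalization.ringHom_ext (Submonoid.powers (algebraMap A B (a l))) (RingHom.ext fun b => ?_))
    show Ideal.Quotient.mk I (IsLocalization.liftAlgHom _ (algebraMap B B' b)) = f (algebraMap B B' b)
    rw [IsLocalization.liftAlgHom_apply, IsLocalization.lift_eq]
    exact hcong b

end Groth.Agent.Lib.SmoothingH7
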