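import Groth.Agent.Lib.SmoothingH7.StablyFree
import Mathlib.RingTheory.Smooth.Basic
import Mathlib.RingTheory.FinitePresentation
import Mathlib.LinearAlgebra.Matrix.Determinant.Basic
import Mathlib.LinearAlgebra.Dimension.StrongRankCondition
import Mathlib.Algebra.Module.LocalizedModule.Basic

/-!
Powers of an element with smooth localization and stably free differentials are strictly standard.
-/

set_option autoImplicit false

universe u

open MvPolynomial

namespace Groth.Agent.Lib.SmoothingH7

variable {R A : Type u} [CommRing R] [CommRing A] [Algebra R A]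

theorem sum_minors_of_left_inverse {L : Type*} [CommRing L] {N c : ℕ} (M : Matrix (Fin N) (Fin c) L)
    (E : Matrix (Fin c) (Fin N) L) (h : E * M = 1) :
    ∑ s : Fin c → Fin N, (∏ i, E i (s i)) * (Matrix.of fun i j => M (s i) j).det = 1 := by
  classical
  rw [← Matrix.det_one (n := Fin c) (R := L), ← h]
  have : E * M = Matrix.of fun i => ∑ k, E i k • M k := by
    ext i j; simp [Matrix.mul_apply, Finset.sum_apply]
  rw [this]
  show _ = Matrix.detRowAlternating.toMultilinearMap fun i => ∑ k, E i k • M k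
  rw [MultilinearMap.map_sum]
  refine Finset.sum_congr rfl fun s _ => ?_
  rw [MultilinearMap.map_smul_univ]
  rfl

variable {N : ℕ} (π : MvPolynomial (Fin N) R →ₐ[R] A) (hπ : Function.Surjective π)

/-- The gradient in a localization. -/
noncomputable def grad (L : Type u) [CommRing L] [Algebra A L] (z : MvPolynomial (Fin N) R) : Fin N → L :=
  fun k => algebraMap A L (π (pderiv k z))

variable (a : A) [Algebra.Smooth R (Localization.Away a)]

/-- The gradient detects the conormal module. -/
theorem exists_pow_mul_mem_sq (hπ : Function.Surjective π) {a' : MvPolynomial (Fin N) R} (ha' : π a' = a)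
    {z : MvPolynomial (Fin N) R} (hz : π z = 0) (hg : grad π (Localization.Away a) z = 0) :
    ∃ e : ℕ, a' ^ e * z ∈ RingHom.ker π ^ 2 := by
  classical
  subst ha'
  let B := MvPolynomial (Fin N) R
  let L := Localization.Away (π a')
  let I := RingHom.ker π
  let B₂ := Localization.Away (Ideal.Quotient.mk (I ^ 2) a')
  have hsq : I ^ 2 ≤ RingHom.ker π := Ideal.pow_le_self two_ne_zero
  let π₂ : B ⧸ I ^ 2 →ₐ[R] A := Ideal.Quotient.liftₐ (I ^ 2) π fun x hx => hsq hx
  let p : B₂ →ₐ[R] L := IsLocalization.liftAlgHom (M := Submonoid.powers (Ideal.Quotient.mk (I ^ 2) a'))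
    (f := (IsScalarTower.toAlgHom R A L).comp π₂) (by
      rintro ⟨_, k, rfl⟩
      rw [map_pow]
      exact (IsLocalization.Away.algebraMap_isUnit (π a')).pow k)
  let q : B →ₐ[R] B₂ := (IsScalarTower.toAlgHom R (B ⧸ I ^ 2) B₂).comp (Ideal.Quotient.mkₐ R _)
  have hpq : ∀ b, p (q b) = algebraMap A L (π b) := fun b => IsLocalization.lift_eq _ _
  let J : Ideal B₂ := I.map q
  have hJker : RingHom.ker p = J := by
    refine le_antisymm (fun x hx => ?_) (Ideal.map_le_iff_le_comap.2 fun b hb => ?_)
    · obtain ⟨⟨b₀, ⟨_, k, rfl⟩⟩, hb₀⟩ := IsLocalization.surj (Submonoid.powers (Ideal.Quotient.mk (I ^ 2) a')) x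
      obtain ⟨b, rfl⟩ := Ideal.Quotient.mk_surjective b₀
      change x * algebraMap _ B₂ _ = q b at hb₀
      have hpb : algebraMap A L (π b) = 0 := by rw [← hpq, ← hb₀, map_mul, RingHom.mem_ker.1 hx, zero_mul]
      obtain ⟨⟨_, l, rfl⟩, hl⟩ := (IsLocalization.map_eq_zero_iff (Submonoid.powers (π a')) L _).1 hpb
      have hmem : q (a' ^ l * b) ∈ J := Ideal.mem_map_of_mem _ (show π _ = 0 by rw [map_mul, map_pow]; exact hl)
      rw [map_mul, ← hb₀] at hmem
      have hu : IsUnit (q (a' ^ l) * algebraMap (B ⧸ I ^ 2) B₂ (Ideal.Quotient.mk (I ^ 2) a' ^ k)) := by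
        refine IsUnit.mul ?_ (IsLocalization.map_units B₂ (⟨_, k, rfl⟩ : Submonoid.powers (Ideal.Quotient.mk (I ^ 2) a')))
        rw [map_pow]
        exact (IsLocalization.Away.algebraMap_isUnit (S := B₂) (Ideal.Quotient.mk (I ^ 2) a')).pow l
      exact (Ideal.unit_mul_mem_iff_mem _ hu).1 (by convert hmem using 1; ring)
    · rw [Ideal.mem_comap, RingHom.mem_ker, hpq, RingHom.mem_ker.1 hb, map_zero]
  have hJ2 : J ^ 2 = ⊥ := by
    rw [← Ideal.map_pow, Ideal.map_eq_bot_iff_le_ker]
    intro x hx
    rw [RingHom.mem_ker]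
    show algebraMap (B ⧸ I ^ 2) B₂ (Ideal.Quotient.mk (I ^ 2) x) = 0
    rw [Ideal.Quotient.eq_zero_iff_mem.2 hx, map_zero]
  have hp : Function.Surjective p := fun y => by
    obtain ⟨⟨x, ⟨_, k, rfl⟩⟩, hx⟩ := IsLocalization.surj (Submonoid.powers (π a')) y
    obtain ⟨b, rfl⟩ := hπ x
    obtain ⟨u, hu⟩ := (IsLocalization.Away.algebraMap_isUnit (S := B₂) (Ideal.Quotient.mk (I ^ 2) a')).pow k
    refine ⟨q b * ↑u⁻¹, ?_⟩
    change y * algebraMap A L (π a' ^ k) = algebraMap A L (π b) at hx
    have h1 : p u = algebraMap A L (π a' ^ k) := by rw [hu, map_pow, map_pow]; exact congrArg (· ^ k) (hpq a')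
    rw [map_mul, hpq, ← hx, ← h1, mul_assoc, ← map_mul, Units.mul_inv, map_one, mul_one]
  let σ : L →ₐ[R] B₂ := Algebra.FormallySmooth.liftOfSurjective (AlgHom.id R L) p hp ⟨2, by
    rw [show RingHom.ker (p : B₂ →+* L) = J from hJker]; exact hJ2⟩
  have hσ : ∀ y, p (σ y) = y := Algebra.FormallySmooth.liftOfSurjective_apply (AlgHom.id R L) p hp _
  let τ : B →ₐ[R] B₂ := (σ.comp (IsScalarTower.toAlgHom R A L)).comp π
  have hδ : ∀ b, q b - τ b ∈ J := fun b => by
    rw [← hJker, RingHom.mem_ker, map_sub, hpq]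
    exact sub_eq_zero.2 (hσ _).symm
  have hmul : ∀ x ∈ J, ∀ y ∈ J, x * y = 0 := fun x hx y hy => by
    have := Ideal.mul_mem_mul hx hy
    rwa [← pow_two, hJ2, Ideal.mem_bot] at this
  have hexp : ∀ y : B, q y - τ y = ∑ k, τ (pderiv k y) * (q (X k) - τ (X k)) := fun y => by
    induction y using MvPolynomial.induction_on with
    | C r => rw [show q (C r) = algebraMap R B₂ r from q.commutes r, show τ (C r) = algebraMap R B₂ r from τ.commutes r, sub_self]; simp
    | add u v hu hv => simp only [map_add, add_mul, Finset.sum_add_distrib, ← hu, ← hv]; ring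
    | mul_X u i hu =>
      have h0 := hmul _ (hδ u) _ (hδ (X i))
      simp only [map_add, map_mul, Derivation.leibniz, pderiv_X, smul_eq_mul, add_mul, Finset.sum_add_distrib]
      rw [Finset.sum_congr rfl fun k _ => show τ (X i) * τ (pderiv k u) * (q (X k) - τ (X k)) =
        τ (X i) * (τ (pderiv k u) * (q (X k) - τ (X k))) from mul_assoc _ _ _, ← Finset.mul_sum, ← hu,
        Finset.sum_eq_single i (fun k _ hki => by simp [Pi.single_apply, hki.symm]) (by simp)]
      simp only [Pi.single_eq_same, map_one, mul_one]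
      linear_combination h0
  have hq0 : q z = 0 := by
    have h1 : q z - τ z = q z := by
      show q z - σ (algebraMap A L (π z)) = q z
      rw [hz, map_zero, map_zero, sub_zero]
    rw [← h1, hexp]
    refine Finset.sum_eq_zero fun k _ => ?_
    show σ (algebraMap A L (π (pderiv k z))) * _ = 0
    rw [show algebraMap A L (π (pderiv k z)) = 0 from congrFun hg k, map_zero, zero_mul]
  obtain ⟨⟨_, e, rfl⟩, he⟩ := (IsLocalization.map_eq_zero_iff (Submonoid.powers (Ideal.Quotient.mk (I ^ 2) a')) B₂ _).1 hq0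
  exact ⟨e, Ideal.Quotient.eq_zero_iff_mem.1 (by rw [map_mul, map_pow]; exact he)⟩

variable (L : Type u) [CommRing L] [Algebra A L] [Algebra R L] [IsScalarTower R A L] [IsLocalization.Away a L]

/-- `L^N → Ω`. -/
noncomputable def toOmega : (Fin N → L) →ₗ[L] Ω[L⁄R] :=
  Fintype.linearCombination L fun k => KaehlerDifferential.D R L (algebraMap A L (π (X k)))

omit [Algebra.Smooth R (Localization.Away a)] in
theorem toOmega_grad (z : MvPolynomial (Fin N) R) :
    toOmega π L (grad π L z) = KaehlerDifferential.D R L (algebraMap A L (π z)) := by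
  letI : Algebra (MvPolynomial (Fin N) R) L := ((algebraMap A L).comp π.toRingHom).toAlgebra
  haveI : IsScalarTower R (MvPolynomial (Fin N) R) L := IsScalarTower.of_algebraMap_eq fun r => by
    show algebraMap R L r = algebraMap A L (π (algebraMap R _ r))
    rw [π.commutes, ← IsScalarTower.algebraMap_apply]
  have := derivation_eq_sum ((KaehlerDifferential.D R L).compAlgebraMap (MvPolynomial (Fin N) R)) z
  rw [Derivation.compAlgebraMap_apply] at this
  rw [toOmega, Fintype.linearCombination_apply]
  refine Eq.trans (Finset.sum_congr rfl fun k _ => ?_) this.symm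
  rw [Derivation.compAlgebraMap_apply]
  exact algebraMap_smul L (pderiv k z) (KaehlerDifferential.D R L (algebraMap A L (π (X k))))

omit [Algebra.Smooth R (Localization.Away a)] in
include a in
theorem toOmega_surjective (hπ : Function.Surjective π) : Function.Surjective (toOmega π L) := by
  intro x
  obtain ⟨⟨y, s⟩, hy⟩ := IsLocalizedModule.surj (Submonoid.powers a) (KaehlerDifferential.map R R A L) x
  have hyr : ∀ y, KaehlerDifferential.map R R A L y ∈ LinearMap.range (toOmega π L) := fun y => by
    have h : y ∈ Submodule.span A (Set.range (KaehlerDifferential.D R A)) := by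
      rw [KaehlerDifferential.span_range_derivation]; exact Submodule.mem_top
    induction h using Submodule.span_induction with
    | mem _ hz =>
      obtain ⟨b, rfl⟩ := hz
      obtain ⟨z, rfl⟩ := hπ b
      rw [KaehlerDifferential.map_D]
      exact ⟨grad π L z, toOmega_grad π L z⟩
    | zero => rw [map_zero]; exact zero_mem _
    | add u v _ _ hu hv => rw [map_add]; exact add_mem hu hv
    | smul c u _ hu => rw [map_smul, ← algebraMap_smul L c]; exact Submodule.smul_mem _ _ hu
  obtain ⟨u, hu⟩ : IsUnit (algebraMap A L s) := IsLocalization.map_units L s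
  obtain ⟨v, hv⟩ := hyr y
  refine ⟨(↑u⁻¹ : L) • v, ?_⟩
  rw [map_smul, hv, ← hy, Submonoid.smul_def, ← algebraMap_smul L (s : A) x, ← hu, smul_smul, Units.inv_mul, one_smul]

omit [Algebra.Smooth R (Localization.Away a)] in
include a in
/-- Exactness of the conormal sequence in the middle, after localization. -/
theorem exists_grad_of_toOmega_eq_zero (hπ : Function.Surjective π) (w : Fin N → L) (hw : toOmega π L w = 0) :
    ∃ (k : ℕ) (z : MvPolynomial (Fin N) R), π z = 0 ∧ algebraMap A L a ^ k • w = grad π L z := by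
  classical
  let B := MvPolynomial (Fin N) R
  letI : Algebra B A := π.toRingHom.toAlgebra
  haveI : IsScalarTower R B A := IsScalarTower.of_algebraMap_eq fun r => (π.commutes r).symm
  choose s hs using (fun x => hπ x)
  -- the gradient over `A`
  let g : B → Fin N → A := fun z k => π (pderiv k z)
  let U : Submodule A (Fin N → A) :=
    { carrier := {v | ∃ z, π z = 0 ∧ g z = v}
      zero_mem' := ⟨0, map_zero _, funext fun k => by simp [g]⟩
      add_mem' := by
        rintro _ _ ⟨z, hz, rfl⟩ ⟨z', hz', rfl⟩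
        exact ⟨z + z', by rw [map_add, hz, hz', add_zero], funext fun k => by simp [g]⟩
      smul_mem' := by
        rintro c _ ⟨z, hz, rfl⟩
        obtain ⟨c', rfl⟩ := hπ c
        exact ⟨c' * z, by rw [map_mul, hz, mul_zero], funext fun k => by simp [g, Derivation.leibniz, hz]⟩ }
  let Q := (Fin N → A) ⧸ U
  let d : Derivation R B Q := mkDerivation R fun k => Submodule.Quotient.mk (Pi.single k 1)
  have hd : ∀ z, d z = Submodule.Quotient.mk (g z) := fun z => by
    rw [derivation_eq_sum d z]
    have h1 : ∀ k, pderiv k z • d (X k) = U.mkQ (π (pderiv k z) • (Pi.single k 1 : Fin N → A)) := fun k => by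
      rw [mkDerivation_X, map_smul]
      exact (algebraMap_smul A (pderiv k z) _).symm
    rw [Finset.sum_congr rfl fun k _ => h1 k, ← map_sum]
    show Submodule.Quotient.mk _ = _
    congr 1
    funext l
    simp [Finset.sum_apply, Pi.single_apply, g]
  have hds : ∀ x y, π x = π y → d x = d y := fun x y h => by
    rw [hd, hd, Submodule.Quotient.eq]
    exact ⟨x - y, by rw [map_sub, h, sub_self], funext fun k => by simp [g]⟩
  have hsmul : ∀ (b : B) (v : Q), b • v = π b • v := fun b v => (algebraMap_smul A b v).symm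
  let dA : Derivation R A Q := Derivation.mk'
    { toFun := fun x => d (s x)
      map_add' := fun x y => by rw [hds (s (x + y)) (s x + s y) (by rw [map_add, hs, hs, hs]), map_add]
      map_smul' := fun r x => by
        rw [RingHom.id_apply, hds (s (r • x)) (r • s x) (by rw [hs, map_smul, hs]), Derivation.map_smul] }
    fun x y => by
      show d (s (x * y)) = x • d (s y) + y • d (s x)
      rw [hds (s (x * y)) (s x * s y) (by rw [map_mul, hs, hs, hs]), Derivation.leibniz, hsmul, hsmul, hs, hs]
  -- clear denominators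
  obtain ⟨⟨_, k₀, rfl⟩, hclear⟩ := IsLocalization.exist_integer_multiples (Submonoid.powers a) Finset.univ w
  choose w₀ hw₀ using fun i => hclear i (Finset.mem_univ i)
  have hzero : KaehlerDifferential.map R R A L (∑ i, w₀ i • KaehlerDifferential.D R A (π (X i))) = 0 := by
    rw [map_sum]
    have h2 : toOmega π L (algebraMap A L (a ^ k₀) • w) = 0 := by rw [map_smul, hw, smul_zero]
    rw [toOmega, Fintype.linearCombination_apply] at h2
    refine Eq.trans (Finset.sum_congr rfl fun i _ => ?_) h2
    rw [map_smul, KaehlerDifferential.map_D, ← algebraMap_smul L (w₀ i)]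
    congr 1
    rw [Pi.smul_apply, smul_eq_mul, hw₀ i, Algebra.smul_def]
  obtain ⟨⟨_, l, rfl⟩, hl⟩ := (IsLocalizedModule.eq_zero_iff (Submonoid.powers a) (KaehlerDifferential.map R R A L)).1 hzero
  rw [Submonoid.smul_def] at hl
  have h3 := congrArg dA.liftKaehlerDifferential hl
  rw [map_smul, map_zero, map_sum] at h3
  simp only [map_smul, Derivation.liftKaehlerDifferential_comp_D] at h3
  have h4 : ∀ i, dA (π (X i)) = U.mkQ (Pi.single i (1 : A)) := fun i => (hds _ (X i) (hs _)).trans (mkDerivation_X _ _ _)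
  simp only [h4, ← map_smul, ← map_sum] at h3
  rw [Submodule.mkQ_apply, Submodule.Quotient.mk_eq_zero] at h3
  obtain ⟨z, hz, hgz⟩ := h3
  refine ⟨l + k₀, z, hz, funext fun i => ?_⟩
  have := congrFun hgz i
  simp [Finset.sum_apply, Pi.single_apply] at this
  rw [grad, Pi.smul_apply, show π (pderiv i z) = a ^ l * w₀ i from this, map_mul, hw₀ i, smul_eq_mul, Algebra.smul_def,
    ← map_pow, pow_add, map_mul, mul_assoc]

/-- **Stably free differentials give strictly standard powers.** -/
theorem exists_pow_isStrictlyStandard [Algebra.FinitePresentation R A] (p q : ℕ)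
    (e : (Ω[Localization.Away a⁄R] × (Fin p → Localization.Away a)) ≃ₗ[Localization.Away a]
      (Fin q → Localization.Away a)) :
    ∃ e₀ : ℕ, ∀ n : ℕ, e₀ ≤ n → Smoothing.IsStrictlyStandard R A (a ^ n) := by
  classical
  let L := Localization.Away a
  obtain ⟨n, π₀, hπ₀, hfg₀⟩ := Algebra.FinitePresentation.out (R := R) (A := A)
  let π : MvPolynomial (Fin (n + q)) R →ₐ[R] A := aeval (Fin.append (fun k => π₀ (X k)) 0)
  have hπ : Function.Surjective π := fun x => by
    obtain ⟨z, rfl⟩ := hπ₀ x
    refine ⟨rename (Fin.castAdd q) z, DFunLike.congr_fun (MvPolynomial.algHom_ext (f := π.comp (rename (Fin.castAdd q)))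
      (g := π₀) fun k => ?_) z⟩
    simp [π]
  have hfg : (RingHom.ker π.toRingHom).FG := Algebra.FinitePresentation.ker_fG_of_surjective π hπ
  obtain ⟨a', ha'⟩ := hπ a
  let I := RingHom.ker π.toRingHom
  obtain ⟨m, f, hf⟩ := Submodule.fg_iff_exists_fin_generating_family.1 hfg
  -- degenerate case
  rcases subsingleton_or_nontrivial L with hL | hL
  · obtain ⟨⟨_, e₀, rfl⟩, he₀⟩ := (IsLocalization.map_eq_zero_iff (Submonoid.powers a) L (1 : A)).1 (Subsingleton.elim _ _)
    refine ⟨e₀, fun k hk => ⟨⟨n + q, m, 0, Nat.zero_le _, Nat.zero_le _, f, π, hπ, hf.symm⟩, ?_, ?_⟩⟩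
    · rw [Ideal.eq_top_of_isUnit_mem _ (Ideal.subset_span (Set.mem_range_self (Fin.elim0 : Fin 0 → Fin (n + q)))) (by simp only [Smoothing.jacobianMinor, Matrix.det_fin_zero, map_one, isUnit_one])]
      exact Submodule.mem_top
    · intro b hb j _
      refine Ideal.mem_sup_right ?_
      rw [pow_two]
      refine Ideal.mul_mem_mul ?_ (Ideal.subset_span ⟨j, rfl⟩)
      refine hf.ge (show π b = 0 from ?_)
      obtain ⟨c, rfl⟩ := Nat.exists_eq_add_of_le hk
      rw [hb, pow_add, show a ^ e₀ = 0 by simpa using he₀, zero_mul]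
  -- the kernel of `L ^ (n + q) → Ω` is free
  let T := toOmega π L
  let T₀ := toOmega π₀ L
  haveI : Module.Projective L Ω[L⁄R] := inferInstance
  obtain ⟨s, hs⟩ := Module.projective_lifting_property T₀ LinearMap.id (toOmega_surjective π₀ a L hπ₀)
  let sp : (Fin (n + q) → L) ≃ₗ[L] (Fin n → L) × (Fin q → L) :=
    { toFun := fun v => (fun k => v (Fin.castAdd q k), fun k => v (Fin.natAdd n k))
      invFun := fun v => Fin.append v.1 v.2
      map_add' := fun _ _ => rfl
      map_smul' := fun _ _ => rfl
      left_inv := fun v => Fin.append_castAdd_natAdd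
      right_inv := fun v => by simp }
  have hT : ∀ v, T v = T₀ (sp v).1 := fun v => by
    simp only [T, T₀, toOmega, Fintype.linearCombination_apply, Fin.sum_univ_add]
    simp [sp, π, MvPolynomial.aeval_X]
  have hrs : ∀ v, T₀ (v - s (T₀ v)) = 0 := fun v => by
    rw [map_sub, ← LinearMap.comp_apply T₀ s, hs]; simp
  -- `ker T ≅ ker T₀ × L ^ q`, and `ker T₀ × Ω ≅ L ^ n`
  let e₁ : LinearMap.ker T ≃ₗ[L] LinearMap.ker T₀ × (Fin q → L) :=
    { toFun := fun v => (⟨(sp v.1).1, (hT v.1).symm.trans v.2⟩, (sp v.1).2)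
      map_add' := fun _ _ => rfl
      map_smul' := fun _ _ => rfl
      invFun := fun v => ⟨sp.symm (v.1.1, v.2), by rw [LinearMap.mem_ker, hT, LinearEquiv.apply_symm_apply]; exact v.1.2⟩
      left_inv := fun v => Subtype.ext (sp.symm_apply_apply v.1)
      right_inv := fun v => by simp }
  let e₂ : (LinearMap.ker T₀ × Ω[L⁄R]) ≃ₗ[L] (Fin n → L) :=
    { toFun := fun v => v.1.1 + s v.2
      map_add' := fun x y => by simp only [Prod.fst_add, Prod.snd_add, Submodule.coe_add, map_add]; abel
      map_smul' := fun c x => by simp [smul_add]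
      invFun := fun v => (⟨v - s (T₀ v), hrs v⟩, T₀ v)
      left_inv := fun v => by
        have h2 : T₀ (s v.2) = v.2 := LinearMap.congr_fun hs v.2
        refine Prod.ext (Subtype.ext ?_) ?_ <;> simp [LinearMap.mem_ker.1 v.1.2, h2]
      right_inv := fun v => by simp }
  let ek : LinearMap.ker T ≃ₗ[L] (Fin n → L) × (Fin p → L) :=
    e₁ ≪≫ₗ ((LinearEquiv.refl L _).prodCongr e.symm) ≪≫ₗ (LinearEquiv.prodAssoc L _ _ _).symm ≪≫ₗ
      (e₂.prodCongr (LinearEquiv.refl L _))
  let bas : Module.Basis (Fin (n + p)) L (LinearMap.ker T) :=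
    (((Pi.basisFun L (Fin n)).prod (Pi.basisFun L (Fin p))).reindex finSumFinEquiv).map ek.symm
  have hcn : n + p ≤ n + q := by
    have := LinearMap.finrank_le_finrank_of_injective (f := (LinearMap.ker T).subtype) (Submodule.injective_subtype _)
    rwa [Module.finrank_eq_card_basis bas, Fintype.card_fin, Module.finrank_fin_fun] at this
  -- the left inverse
  obtain ⟨s', hs'⟩ := Module.projective_lifting_property T LinearMap.id (toOmega_surjective π a L hπ)
  let ret : (Fin (n + q) → L) →ₗ[L] LinearMap.ker T :=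
    LinearMap.codRestrict _ (LinearMap.id - s'.comp T) fun v => by
      rw [LinearMap.mem_ker, LinearMap.sub_apply, map_sub, LinearMap.comp_apply, ← LinearMap.comp_apply T s', hs']
      simp
  have hret : ∀ v : LinearMap.ker T, ret v = v := fun v => Subtype.ext (by simp [ret, LinearMap.mem_ker.1 v.2])
  choose kk g hg0 hg using fun j => exists_grad_of_toOmega_eq_zero π a L hπ (bas j : Fin (n + q) → L) (bas j).2
  have hau : IsUnit (algebraMap A L a) := IsLocalization.Away.algebraMap_isUnit a
  let M : Matrix (Fin (n + q)) (Fin (n + p)) L := Matrix.of fun k j => grad π L (g j) k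
  let E : Matrix (Fin (n + p)) (Fin (n + q)) L := Matrix.of fun i k =>
    ↑(hau.pow (kk i)).unit⁻¹ * bas.repr (ret (Pi.single k 1)) i
  have hEM : E * M = 1 := by
    ext i j
    rw [Matrix.mul_apply]
    simp only [E, M, Matrix.of_apply, mul_assoc, ← Finset.mul_sum]
    have h1 : ∑ k, bas.repr (ret (Pi.single k 1)) i * grad π L (g j) k = bas.repr (ret (grad π L (g j))) i := by
      conv_rhs => rw [pi_eq_sum_univ' (grad π L (g j)), map_sum, map_sum, Finsupp.finsetSum_apply]
      exact Finset.sum_congr rfl fun k _ => by rw [map_smul, map_smul, Finsupp.smul_apply, smul_eq_mul, mul_comm]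
    rw [h1, ← hg j, map_smul, map_smul, hret, bas.repr_self, Finsupp.smul_apply, Finsupp.single_apply, smul_eq_mul]
    rcases eq_or_ne i j with rfl | hij
    · simp only [Matrix.one_apply_eq, if_pos rfl, mul_one]
      simpa using (hau.pow (kk i)).val_inv_mul
    · rw [Matrix.one_apply_ne hij, if_neg (Ne.symm hij), mul_zero, mul_zero]
  let rel : Fin ((n + p) + m) → MvPolynomial (Fin (n + q)) R := Fin.append g f
  have hker : RingHom.ker π.toRingHom = Ideal.span (Set.range rel) := by
    refine le_antisymm ?_ (Ideal.span_le.2 ?_)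
    · rw [← hf]
      exact Submodule.span_mono (by rintro _ ⟨i, rfl⟩; exact ⟨Fin.natAdd _ i, by simp [rel]⟩)
    · rintro _ ⟨i, rfl⟩
      refine Fin.addCases (fun j => ?_) (fun j => ?_) i
      · simp only [rel, Fin.append_left]; exact hg0 j
      · simp only [rel, Fin.append_right]; exact hf.le (Submodule.subset_span ⟨j, rfl⟩)
  let P : Smoothing.MarkedPresentation R A := ⟨n + q, (n + p) + m, n + p, hcn, Nat.le_add_right _ _, rel, π, hπ, hker⟩
  have hrel : ∀ j : Fin (n + p), P.rel (Fin.castLE P.hcm j) = g j := fun j => by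
    show Fin.append g f (Fin.castAdd m j) = g j
    simp
  -- `1` is in the ideal of minors
  let G : Ideal A := Ideal.span (Set.range fun cols : Fin P.c → Fin P.n =>
    P.hom (Smoothing.jacobianMinor P.rel (Fin.castLE P.hcm) cols))
  obtain ⟨e₁', he₁⟩ : ∃ k, a ^ k ∈ G := by
    have h1 : (1 : L) ∈ G.map (algebraMap A L) := by
      rw [← sum_minors_of_left_inverse M E hEM]
      refine Ideal.sum_mem _ fun sf _ => Ideal.mul_mem_left _ _ ?_
      have : (Matrix.of fun i j => M (sf i) j).det =
          algebraMap A L (P.hom (Smoothing.jacobianMinor P.rel (Fin.castLE P.hcm) sf)) := by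
        rw [Smoothing.jacobianMinor, ← AlgHom.coe_toRingHom, ← RingHom.comp_apply, RingHom.map_det,
          ← Matrix.det_transpose]
        congr 1
        ext i j
        simp [M, grad, hrel]
        rfl
      rw [this]
      exact Ideal.mem_map_of_mem _ (Ideal.subset_span ⟨sf, rfl⟩)
    rw [← map_one (algebraMap A L), IsLocalization.algebraMap_mem_map_algebraMap_iff (Submonoid.powers a)] at h1
    obtain ⟨_, ⟨k, rfl⟩, hk⟩ := h1
    exact ⟨k, by simpa using hk⟩
  -- the tail
  have htail : ∀ h ∈ I, ∃ k : ℕ, a' ^ k * h ∈ Ideal.span (Set.range g) ⊔ I ^ 2 := by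
    intro h hh
    have hTh : grad π L h ∈ LinearMap.ker T := by
      rw [LinearMap.mem_ker, toOmega_grad, show π h = 0 from hh, map_zero, map_zero]
    obtain ⟨⟨_, k, rfl⟩, hint⟩ := IsLocalization.exist_integer_multiples (Submonoid.powers a) Finset.univ
      fun j => bas.repr ⟨_, hTh⟩ j * ↑(hau.pow (kk j)).unit⁻¹
    choose c₀ hc₀ using fun j => hint j (Finset.mem_univ j)
    choose c hc using fun j => hπ (c₀ j)
    let z := a' ^ k * h - ∑ j, c j * g j
    have hz : π z = 0 := by simp [z, show π h = 0 from hh, show ∀ j, π (g j) = 0 from hg0]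
    have hgz : grad π L z = 0 := by
      have h2 : ∀ (b y : MvPolynomial (Fin (n + q)) R), π y = 0 →
          grad π L (b * y) = algebraMap A L (π b) • grad π L y := fun b y hy => funext fun i => by
        simp [grad, Derivation.leibniz, hy]
      have h3 : ∑ j, algebraMap A L (π (c j)) • grad π L (g j) = algebraMap A L (a ^ k) • grad π L h := by
        have h4 := congrArg Subtype.val (bas.sum_repr ⟨_, hTh⟩)
        rw [AddSubmonoidClass.coe_finsetSum] at h4
        conv_rhs => rw [← show _ = grad π L h from h4, Finset.smul_sum]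
        refine Finset.sum_congr rfl fun j _ => ?_
        rw [hc, hc₀, ← hg j, SetLike.val_smul, smul_smul, smul_smul, Algebra.smul_def (R := A) (A := L)]
        congr 1
        simp only [mul_assoc, ← map_pow]
        rw [IsUnit.val_inv_mul, mul_one]
      funext i
      simp only [z, grad, map_sub, map_sum, Finset.sum_apply, Pi.zero_apply]
      have e1 := congrFun (h2 (a' ^ k) h hh) i
      have e2 := fun j => congrFun (h2 (c j) (g j) (hg0 j)) i
      have e3 := congrFun h3 i
      simp only [grad, Pi.smul_apply, Finset.sum_apply, map_pow, ha'] at e1 e2 e3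
      rw [e1, Finset.sum_congr rfl fun j _ => e2 j, e3, sub_self]
    obtain ⟨l, hl⟩ := exists_pow_mul_mem_sq π a hπ ha' hz hgz
    refine ⟨l + k, ?_⟩
    have : a' ^ (l + k) * h = a' ^ l * z + a' ^ l * ∑ j, c j * g j := by simp only [z]; ring
    rw [this]
    exact add_mem (Ideal.mem_sup_right hl) (Ideal.mem_sup_left (Ideal.mul_mem_left _ _
      (Ideal.sum_mem _ fun j _ => Ideal.mul_mem_left _ _ (Ideal.subset_span ⟨j, rfl⟩))))
  choose kt hkt using fun i => htail (f i) (hf.le (Submodule.subset_span ⟨i, rfl⟩))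
  refine ⟨e₁' + Finset.univ.sup kt, fun k hk => ⟨P, ?_, fun b hb j hj => ?_⟩⟩
  · obtain ⟨c, rfl⟩ := Nat.exists_eq_add_of_le ((Nat.le_add_right _ _).trans hk)
    rw [pow_add]
    exact Ideal.mul_mem_right _ _ he₁
  · have hle : Ideal.span (Set.range g) ⊔ I ^ 2 ≤
        Ideal.span (P.rel '' {j' : Fin P.m | (j' : ℕ) < P.c}) ⊔ Ideal.span (Set.range P.rel) ^ 2 := by
      refine sup_le_sup (Ideal.span_mono ?_) (le_of_eq (congrArg (· ^ 2) hker))
      rintro _ ⟨i, rfl⟩
      exact ⟨Fin.castLE P.hcm i, i.2, hrel i⟩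
    obtain ⟨i, rfl⟩ : ∃ i : Fin m, j = Fin.natAdd (n + p) i :=
      ⟨⟨j - (n + p), by have : (j : ℕ) < n + p + m := j.2; have : n + p ≤ (j : ℕ) := hj; omega⟩,
        Fin.ext (by have : n + p ≤ (j : ℕ) := hj; simp; omega)⟩
    show b * Fin.append g f (Fin.natAdd (n + p) i) ∈ _
    rw [Fin.append_right]
    obtain ⟨d, hd⟩ := Nat.exists_eq_add_of_le (((Finset.le_sup (f := kt) (Finset.mem_univ i))).trans ((Nat.le_add_left _ _).trans hk))
    refine hle ?_
    have hsplit : b * f i = (b - a' ^ k) * f i + a' ^ d * (a' ^ kt i * f i) := by rw [hd]; ring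
    rw [hsplit]
    refine add_mem (Ideal.mem_sup_right ?_) (Ideal.mul_mem_left _ _ (hkt i))
    rw [pow_two]
    refine Ideal.mul_mem_mul ?_ (hf.le (Submodule.subset_span ⟨i, rfl⟩))
    show π (b - a' ^ k) = 0
    rw [map_sub, map_pow, ha', show π b = a ^ k from hb, sub_self]

end Groth.Agent.Lib.SmoothingH7
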