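import Groth.Prelude.Def_Smoothing
import Mathlib.RingTheory.Smooth.Locus
import Mathlib.RingTheory.Smooth.Basic
import Mathlib.RingTheory.FinitePresentation
import Mathlib.RingTheory.Polynomial.Basic

/-!
Resolving at a minimal prime: glue two charts whose preimages in the target are disjoint.
-/

set_option autoImplicit false

universe u

open MvPolynomial

namespace Groth.Agent.Lib.SmoothingH7

variable {R A C₀ : Type u} [CommRing R] [CommRing A] [Algebra R A] [CommRing C₀] [Algebra R C₀] [Algebra A C₀]
  [IsScalarTower R A C₀]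

/-- A retract of a formally smooth algebra is formally smooth. -/
theorem formallySmooth_of_retract {B T : Type u} [CommRing B] [Algebra R B] [CommRing T] [Algebra R T]
    [Algebra.FormallySmooth R T] (i : B →ₐ[R] T) (r : T →ₐ[R] B) (h : r.comp i = AlgHom.id R B) :
    Algebra.FormallySmooth R B :=
  Algebra.FormallySmooth.of_comp_surjective fun Q _ _ I hI f => by
    obtain ⟨g, hg⟩ := Algebra.FormallySmooth.comp_surjective R T I hI (f.comp r)
    exact ⟨g.comp i, by rw [← AlgHom.comp_assoc, hg, AlgHom.comp_assoc, h, AlgHom.comp_id]⟩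

variable {n r : ℕ} (π : MvPolynomial (Fin n) A →ₐ[A] C₀) (a : Fin r → A) (M : ℕ)

/-- Variables: `y` on the left, `z = inr none`, `w i = inr (some i)`. -/
abbrev GlueVar (n r : ℕ) := Fin n ⊕ Option (Fin r)

/-- The relations of the glued algebra. -/
noncomputable def glueIdeal : Ideal (MvPolynomial (GlueVar n r) A) :=
  Ideal.span (Set.range fun i : Fin r => X (.inr (some i)) * X (.inr none)) ⊔
    Ideal.span (Set.range fun ij : Fin r × Fin r =>
      X (.inr (some ij.1)) * (X (.inr (some ij.2)) - C (a ij.2 ^ M))) ⊔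
    Ideal.span {X (.inr none)} * (RingHom.ker π).map (rename Sum.inl)

/-- The glued algebra. -/
abbrev GlueAlg := MvPolynomial (GlueVar n r) A ⧸ glueIdeal π a M

theorem glueIdeal_fg (hπ : (RingHom.ker π).FG) : (glueIdeal π a M).FG :=
  ((Submodule.fg_span (Set.finite_range _)).sup (Submodule.fg_span (Set.finite_range _))).sup
    ((Submodule.fg_span_singleton _).mul (hπ.map _))

/-- The class of a polynomial. -/
noncomputable abbrev gmk : MvPolynomial (GlueVar n r) A →ₐ[A] GlueAlg π a M := Ideal.Quotient.mkₐ A _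

theorem gmk_w_z (i : Fin r) : gmk π a M (X (.inr (some i))) * gmk π a M (X (.inr none)) = 0 := by
  rw [← map_mul]
  exact Ideal.Quotient.eq_zero_iff_mem.2 (Ideal.mem_sup_left (Ideal.mem_sup_left (Ideal.subset_span ⟨i, rfl⟩)))

theorem gmk_w_w (i j : Fin r) :
    gmk π a M (X (.inr (some i))) * gmk π a M (X (.inr (some j))) =
      gmk π a M (X (.inr (some i))) * algebraMap A _ (a j ^ M) := by
  rw [← (gmk π a M).commutes, ← map_mul, ← map_mul]
  refine Ideal.Quotient.eq.2 ?_
  rw [← mul_sub]
  exact Ideal.mem_sup_left (Ideal.mem_sup_right (Ideal.subset_span ⟨(i, j), rfl⟩))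

theorem gmk_z_rename {p : MvPolynomial (Fin n) A} (hp : π p = 0) :
    gmk π a M (X (.inr none)) * gmk π a M (rename Sum.inl p) = 0 := by
  rw [← map_mul]
  exact Ideal.Quotient.eq_zero_iff_mem.2 (Ideal.mem_sup_right
    (Ideal.mul_mem_mul (Ideal.mem_span_singleton_self _) (Ideal.mem_map_of_mem _ hp)))

variable {Q : Type u} [CommRing Q] [Algebra A Q]

/-- Evaluation on the glued algebra. -/
theorem exists_glue_hom (y : Fin n → Q) (z : Q) (w : Fin r → Q) (h1 : ∀ i, w i * z = 0)
    (h2 : ∀ i j, w i * (w j - algebraMap A Q (a j ^ M)) = 0)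
    (h3 : ∀ p, π p = 0 → z * aeval y p = 0) :
    ∃ f : GlueAlg π a M →ₐ[A] Q, (∀ j, f (gmk π a M (X (.inl j))) = y j) ∧
      f (gmk π a M (X (.inr none))) = z ∧ ∀ i, f (gmk π a M (X (.inr (some i)))) = w i := by
  let e : MvPolynomial (GlueVar n r) A →ₐ[A] Q :=
    aeval (Sum.elim y fun o => o.elim z w)
  have hle : glueIdeal π a M ≤ RingHom.ker e := by
    refine sup_le (sup_le (Ideal.span_le.2 ?_) (Ideal.span_le.2 ?_)) (Ideal.mul_le.2 fun u hu v hv => ?_)
    · rintro _ ⟨i, rfl⟩; simp [e, h1]
    · rintro _ ⟨⟨i, j⟩, rfl⟩; simpa [e] using h2 i j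
    · obtain ⟨c, rfl⟩ := Ideal.mem_span_singleton'.1 hu
      rw [RingHom.mem_ker, map_mul, map_mul, mul_assoc]
      suffices e (X (.inr none)) * e v = 0 by rw [this, mul_zero]
      induction hv using Submodule.span_induction with
      | mem x hx =>
        obtain ⟨p, hp, rfl⟩ := hx
        simpa [e, aeval_rename, Function.comp_def] using h3 p hp
      | zero => rw [map_zero, mul_zero]
      | add x x' _ _ hx hx' => rw [map_add, mul_add, hx, hx', add_zero]
      | smul c x _ hx => rw [smul_eq_mul, map_mul, mul_left_comm, hx, mul_zero]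
  exact ⟨Ideal.Quotient.liftₐ _ e hle, fun j => by simp [e], by simp [e], fun i => by simp [e]⟩

/-- On `D(w i)` the glued algebra is smooth. -/
theorem formallySmooth_w (hM : 0 < M) (i : Fin r) [Algebra.FormallySmooth R (Localization.Away (a i))] :
    Algebra.FormallySmooth R (Localization.Away (gmk π a M (X (.inr (some i))))) := by
  let T := MvPolynomial (Fin n) (Localization.Away (a i))
  let B := Localization.Away (gmk π a M (X (.inr (some i))))
  let b : GlueAlg π a M →ₐ[A] B := IsScalarTower.toAlgHom A _ B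
  have hwu : IsUnit (b (gmk π a M (X (.inr (some i))))) := IsLocalization.Away.algebraMap_isUnit _
  have hw : ∀ j, b (gmk π a M (X (.inr (some j)))) = algebraMap A B (a j ^ M) := fun j =>
    hwu.mul_left_cancel (by rw [← map_mul, gmk_w_w, map_mul, b.commutes])
  have hz : b (gmk π a M (X (.inr none))) = 0 :=
    hwu.mul_left_cancel (by rw [← map_mul, gmk_w_z, map_zero, mul_zero])
  have hau : IsUnit (algebraMap A T (a i)) := by
    rw [IsScalarTower.algebraMap_apply A (Localization.Away (a i)) T]
    exact (IsLocalization.Away.algebraMap_isUnit (a i)).map _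
  have hau' : IsUnit (algebraMap A B (a i)) :=
    (isUnit_pow_iff hM.ne').1 (by rw [← map_pow, ← hw]; exact hwu)
  obtain ⟨e₀, hy, hz₀, hw₀⟩ := exists_glue_hom π a M (fun j => (X j : T)) 0 (fun j => algebraMap A T (a j ^ M))
    (fun j => mul_zero _) (fun j l => by rw [sub_self, mul_zero]) (fun p _ => zero_mul _)
  let i₁ : B →ₐ[A] T := IsLocalization.liftAlgHom (f := e₀) (M := Submonoid.powers (gmk π a M (X (.inr (some i))))) (S := B)
    (by rintro ⟨_, k, rfl⟩; rw [map_pow, hw₀, map_pow]; exact (hau.pow M).pow k)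
  let v : Localization.Away (a i) →ₐ[A] B := IsLocalization.liftAlgHom (f := Algebra.ofId A B) (M := Submonoid.powers (a i))
    (by rintro ⟨_, k, rfl⟩; rw [map_pow]; exact hau'.pow k)
  let rR : T →ₐ[A] B :=
    { toRingHom := eval₂Hom v.toRingHom fun j => b (gmk π a M (X (.inl j)))
      commutes' := fun c => by
        show eval₂Hom v.toRingHom _ (algebraMap A T c) = _
        rw [IsScalarTower.algebraMap_apply A (Localization.Away (a i)) T, MvPolynomial.algebraMap_eq, eval₂Hom_C]
        exact v.commutes c }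
  have hid : rR.comp i₁ = AlgHom.id A B := by
    refine IsLocalization.algHom_ext (Submonoid.powers (gmk π a M (X (.inr (some i))))) (AlgHom.ext fun g => ?_)
    obtain ⟨p, rfl⟩ := Ideal.Quotient.mkₐ_surjective A _ g
    refine DFunLike.congr_fun (MvPolynomial.algHom_ext (f := ((rR.comp i₁).comp b).comp (gmk π a M))
      (g := b.comp (gmk π a M)) fun x => ?_) p
    show rR (i₁ (algebraMap _ B (gmk π a M (X x)))) = b (gmk π a M (X x))
    rw [IsLocalization.liftAlgHom_apply, IsLocalization.lift_eq]
    rcases x with j | _ | j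
    · erw [hy]; exact eval₂Hom_X' _ _ _
    · erw [hz₀]; rw [map_zero, hz]
    · erw [hw₀]; rw [rR.commutes, hw]
  haveI : Algebra.FormallySmooth R T := Algebra.FormallySmooth.comp R (Localization.Away (a i)) T
  exact formallySmooth_of_retract (i₁.restrictScalars R) (rR.restrictScalars R)
    (AlgHom.ext fun x => DFunLike.congr_fun hid x)

/-- On `D(z c)` the glued algebra is smooth. -/
theorem formallySmooth_z (hπ : Function.Surjective π) (c' : MvPolynomial (Fin n) A)
    [Algebra.FormallySmooth R (Localization.Away (π c'))] :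
    Algebra.FormallySmooth R (Localization.Away (gmk π a M (X (.inr none) * rename Sum.inl c'))) := by
  let S := Localization.Away (π c')
  let T := Localization.Away (Polynomial.X : Polynomial S)
  haveI : Algebra.FormallySmooth S (Polynomial S) := inferInstance
  haveI : Algebra.FormallySmooth (Polynomial S) T := Algebra.FormallySmooth.of_isLocalization (.powers Polynomial.X)
  haveI : Algebra.FormallySmooth R (Polynomial S) := Algebra.FormallySmooth.comp R S _
  haveI : Algebra.FormallySmooth R T := Algebra.FormallySmooth.comp R (Polynomial S) T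
  let u := gmk π a M (X (.inr none) * rename Sum.inl c')
  let B := Localization.Away u
  let b : GlueAlg π a M →ₐ[A] B := IsScalarTower.toAlgHom A _ B
  have huu : IsUnit (b (gmk π a M (X (.inr none))) * b (gmk π a M (rename Sum.inl c'))) := by
    rw [← map_mul, ← map_mul]; exact IsLocalization.Away.algebraMap_isUnit _
  have hzu := isUnit_of_mul_isUnit_left huu
  have hw : ∀ j, b (gmk π a M (X (.inr (some j)))) = 0 := fun j =>
    hzu.mul_right_cancel (by rw [← map_mul, gmk_w_z, map_zero, zero_mul])
  let ev : MvPolynomial (Fin n) A →ₐ[A] B := (b.comp (gmk π a M)).comp (rename Sum.inl)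
  have hker : ∀ p, π p = 0 → ev p = 0 := fun p hp =>
    hzu.mul_left_cancel (by rw [mul_zero]; show b _ * b _ = 0; rw [← map_mul]; exact (congrArg b (gmk_z_rename π a M hp)).trans (map_zero b))
  have hker' : ∀ p ∈ RingHom.ker π, ev p = 0 := fun p hp => hker p hp
  let q : C₀ →ₐ[A] B := (Ideal.Quotient.liftₐ (RingHom.ker π) ev hker').comp
    (Ideal.quotientKerAlgEquivOfSurjective hπ).symm.toAlgHom
  have hq : ∀ p, q (π p) = ev p := fun p => by
    show Ideal.Quotient.liftₐ (RingHom.ker π) ev hker' ((Ideal.quotientKerAlgEquivOfSurjective hπ).symm (π p)) = _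
    rw [show π p = Ideal.quotientKerAlgEquivOfSurjective hπ (Ideal.Quotient.mk _ p) from rfl, AlgEquiv.symm_apply_apply]
    exact Ideal.Quotient.lift_mk _ _ _
  let qS : S →ₐ[A] B := IsLocalization.liftAlgHom (f := q) (M := Submonoid.powers (π c'))
    (by rintro ⟨_, k, rfl⟩; rw [map_pow, hq]; exact (isUnit_of_mul_isUnit_right huu).pow k)
  let rP : Polynomial S →ₐ[A] B :=
    { toRingHom := Polynomial.eval₂RingHom qS.toRingHom (b (gmk π a M (X (.inr none))))
      commutes' := fun c => by
        show Polynomial.eval₂ qS.toRingHom _ (algebraMap A (Polynomial S) c) = _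
        rw [IsScalarTower.algebraMap_apply A S (Polynomial S), Polynomial.algebraMap_eq, Polynomial.eval₂_C]
        exact qS.commutes c }
  let rT : T →ₐ[A] B := IsLocalization.liftAlgHom (f := rP) (M := Submonoid.powers (Polynomial.X : Polynomial S))
    (by rintro ⟨_, k, rfl⟩; rw [map_pow]
        exact (show IsUnit (Polynomial.eval₂ qS.toRingHom _ Polynomial.X) by rw [Polynomial.eval₂_X]; exact hzu).pow k)
  let j₀ : C₀ →ₐ[A] T := (IsScalarTower.toAlgHom A S T).comp (IsScalarTower.toAlgHom A C₀ S)
  have hXu : IsUnit (algebraMap (Polynomial S) T Polynomial.X) := IsLocalization.Away.algebraMap_isUnit _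
  obtain ⟨e₀, hy, hz₀, hw₀⟩ := exists_glue_hom π a M (fun j => j₀ (π (X j))) (algebraMap (Polynomial S) T Polynomial.X)
    (fun _ => 0) (fun _ => zero_mul _) (fun _ _ => zero_mul _) (fun p hp => by
      rw [show aeval (fun j => j₀ (π (X j))) p = j₀ (π p) from DFunLike.congr_fun
        (MvPolynomial.algHom_ext (f := aeval fun j => j₀ (π (X j))) (g := j₀.comp π) fun j => aeval_X _ _) p,
        hp, map_zero, mul_zero])
  have hec : e₀ (gmk π a M (rename Sum.inl c')) = j₀ (π c') :=
    DFunLike.congr_fun (MvPolynomial.algHom_ext (f := (e₀.comp (gmk π a M)).comp (rename Sum.inl)) (g := j₀.comp π)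
      fun j => by simpa using hy j) c'
  have hcu : IsUnit (j₀ (π c')) :=
    (IsLocalization.Away.algebraMap_isUnit (S := S) (π c')).map (IsScalarTower.toAlgHom A S T)
  let i₁ : B →ₐ[A] T := IsLocalization.liftAlgHom (f := e₀) (M := Submonoid.powers u) (S := B)
    (by rintro ⟨_, k, rfl⟩; show IsUnit (e₀ (u ^ k))
        simp only [u]; rw [map_pow, map_mul, map_mul, hz₀, hec]; exact (hXu.mul hcu).pow k)
  have hid : rT.comp i₁ = AlgHom.id A B := by
    refine IsLocalization.algHom_ext (Submonoid.powers u) (AlgHom.ext fun g => ?_)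
    obtain ⟨p, rfl⟩ := Ideal.Quotient.mkₐ_surjective A _ g
    refine DFunLike.congr_fun (MvPolynomial.algHom_ext (f := ((rT.comp i₁).comp b).comp (gmk π a M))
      (g := b.comp (gmk π a M)) fun x => ?_) p
    show rT (i₁ (algebraMap _ B (gmk π a M (X x)))) = b (gmk π a M (X x))
    rw [show i₁ (algebraMap _ B (gmk π a M (X x))) = e₀ (gmk π a M (X x)) from IsLocalization.lift_eq _ _]
    rcases x with j | _ | j
    · erw [hy]
      show rT (algebraMap (Polynomial S) T (Polynomial.C (algebraMap C₀ S (π (X j))))) = _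
      rw [IsLocalization.liftAlgHom_apply, IsLocalization.lift_eq]
      show Polynomial.eval₂ qS.toRingHom _ (Polynomial.C _) = _
      rw [Polynomial.eval₂_C]
      show qS (algebraMap C₀ S (π (X j))) = _
      rw [IsLocalization.liftAlgHom_apply, IsLocalization.lift_eq]
      exact (hq _).trans (by simp [ev])
    · erw [hz₀]
      rw [IsLocalization.liftAlgHom_apply, IsLocalization.lift_eq]
      exact Polynomial.eval₂_X _ _
    · erw [hw₀]; rw [map_zero, hw]
  exact formallySmooth_of_retract (i₁.restrictScalars R) (rT.restrictScalars R)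
    (AlgHom.ext fun x => DFunLike.congr_fun hid x)

/-- A minimal prime over the singular radical can be resolved once some chart is smooth there. -/
theorem resolvable_of_minimalPrime [IsNoetherianRing R] [Algebra.FinitePresentation R A] {Λ : Type u} [CommRing Λ]
    [Algebra R Λ] (φ : A →ₐ[R] Λ) (q : Ideal Λ) [q.IsPrime] (hle : Smoothing.singRad R φ ≤ q)
    (hnil : ∀ x ∈ q, ∃ s ∉ q, ∃ N : ℕ, s * x ^ N = 0)
    {D : Type u} [CommRing D] [Algebra R D] [Algebra.FinitePresentation R D] (g : A →ₐ[R] D) (h : D →ₐ[R] Λ)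
    (hgh : h.comp g = φ) (hD : ¬ (Smoothing.singularIdeal R D).map h ≤ q) :
    Smoothing.Resolvable R φ q := by
  classical
  letI := g.toRingHom.toAlgebra
  haveI : IsScalarTower R A D := .of_algebraMap_eq' g.comp_algebraMap.symm
  haveI : Algebra.FinitePresentation A D := .of_restrict_scalars_finitePresentation R A D
  obtain ⟨n, π, hπ, hker⟩ := Algebra.FinitePresentation.iff.1 (inferInstance : Algebra.FinitePresentation A D) |>.imp
    fun n ⟨I, e, hI⟩ => (show ∃ π : MvPolynomial (Fin n) A →ₐ[A] D, Function.Surjective π ∧ (RingHom.ker π).FG from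
      ⟨e.toAlgHom.comp (Ideal.Quotient.mkₐ A I), e.surjective.comp Ideal.Quotient.mk_surjective, by
        rw [show RingHom.ker (e.toAlgHom.comp (Ideal.Quotient.mkₐ A I)) = I by
          ext x; simp [RingHom.mem_ker, Ideal.Quotient.eq_zero_iff_mem]]
        exact hI⟩)
  haveI : IsNoetherianRing A := Algebra.FiniteType.isNoetherianRing R A
  obtain ⟨G, hG⟩ := IsNoetherian.noetherian (Smoothing.singularIdeal R A)
  let a : Fin G.card → A := fun i => (G.equivFin.symm i).1
  have ha : ∀ i, a i ∈ Smoothing.singularIdeal R A := fun i => hG ▸ Submodule.subset_span (G.equivFin.symm i).2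
  have hspan : Ideal.span (Set.range a) = Smoothing.singularIdeal R A := by
    rw [← hG]
    congr 1
    ext x
    exact ⟨fun ⟨i, hi⟩ => hi ▸ (G.equivFin.symm i).2, fun hx => ⟨G.equivFin ⟨x, hx⟩, by simp [a]⟩⟩
  obtain ⟨c, hc, hcq⟩ : ∃ c ∈ Smoothing.singularIdeal R D, h c ∉ q := by
    by_contra hcon
    simp only [not_exists, not_and, not_not] at hcon
    exact hD (Ideal.map_le_iff_le_comap.2 hcon)
  have haq : ∀ i, φ (a i) ∈ q := fun i => hle (Ideal.le_radical (Ideal.mem_map_of_mem _ (ha i)))
  choose s hs N hN using fun i => hnil _ (haq i)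
  let lam : Λ := ∏ i, s i
  let M : ℕ := ∑ i, N i + 1
  have hlam : lam ∉ q := fun hc => (Ideal.IsPrime.prod_mem_iff.1 hc).elim fun i hi => hs i hi.2
  have hlamM : ∀ i, φ (a i) ^ M * lam = 0 := fun i => by
    obtain ⟨e, he⟩ : s i ∣ lam := Finset.dvd_prod_of_mem _ (Finset.mem_univ i)
    have hNM : N i ≤ M := (Finset.single_le_sum (fun _ _ => Nat.zero_le _) (Finset.mem_univ i)).trans (Nat.le_succ _)
    obtain ⟨d, hd⟩ := Nat.exists_eq_add_of_le hNM
    rw [he, hd, pow_add]
    calc φ (a i) ^ N i * φ (a i) ^ d * (s i * e) = s i * φ (a i) ^ N i * (φ (a i) ^ d * e) := by ring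
      _ = 0 := by rw [hN i, zero_mul]
  letI := φ.toRingHom.toAlgebra
  haveI : IsScalarTower R A Λ := .of_algebraMap_eq' φ.comp_algebraMap.symm
  let hA : D →ₐ[A] Λ := { h with commutes' := fun x => DFunLike.congr_fun hgh x }
  obtain ⟨e, hey, hez, hew⟩ := exists_glue_hom π a M (fun j => hA (π (X j))) lam (fun i => φ (a i) ^ M)
    hlamM (fun i j => by rw [show algebraMap A Λ (a j ^ M) = φ (a j) ^ M from map_pow φ _ _, sub_self, mul_zero])
    (fun p hp => by
      rw [show aeval (fun j => hA (π (X j))) p = hA (π p) from DFunLike.congr_fun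
        (MvPolynomial.algHom_ext (f := aeval fun j => hA (π (X j))) (g := hA.comp π) fun j => aeval_X _ _) p,
        hp, map_zero, mul_zero])
  haveI : Algebra.FinitePresentation A (GlueAlg π a M) := .quotient (glueIdeal_fg π a M hker)
  haveI : Algebra.FinitePresentation R (GlueAlg π a M) := .trans R A _
  let B := GlueAlg π a M
  have hsing : ∀ (u : B), Algebra.FormallySmooth R (Localization.Away u) → u ∈ Smoothing.singularIdeal R B := by
    intro u hu
    rw [Smoothing.singularIdeal, PrimeSpectrum.mem_vanishingIdeal]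
    intro P hP
    by_contra hnu
    exact hP ((Algebra.basicOpen_subset_smoothLocus_iff.2 hu) hnu)
  have hfs : ∀ {E : Type u} [CommRing E] [Algebra R E] [Algebra.FinitePresentation R E] (x : E),
      x ∈ Smoothing.singularIdeal R E → Algebra.FormallySmooth R (Localization.Away x) := by
    intro E _ _ _ x hx
    refine Algebra.basicOpen_subset_smoothLocus_iff.1 fun P hP => ?_
    by_contra hns
    rw [Smoothing.singularIdeal, PrimeSpectrum.mem_vanishingIdeal] at hx
    exact hP (hx P hns)
  refine ⟨B, inferInstance, inferInstance, inferInstance, IsScalarTower.toAlgHom R A B, e.restrictScalars R, ?_, ?_, ?_⟩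
  · exact AlgHom.ext fun x => e.commutes x
  · refine Ideal.radical_le_radical_iff.2 (Ideal.map_le_iff_le_comap.2 (hspan ▸ Ideal.span_le.2 ?_))
    rintro _ ⟨i, rfl⟩
    haveI := hfs (a i) (ha i)
    exact ⟨M, by rw [← hew i]; exact Ideal.mem_map_of_mem _ (hsing _ (formallySmooth_w π a M (Nat.succ_pos _) i))⟩
  · obtain ⟨c', rfl⟩ := hπ c
    haveI := hfs (π c') hc
    intro hq
    have hu := hsing _ (formallySmooth_z π a M hπ c')
    have h1 : (e.restrictScalars R) (gmk π a M (X (Sum.inr none : GlueVar n G.card) * rename Sum.inl c')) ∈ q :=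
      hq (Ideal.le_radical (Ideal.mem_map_of_mem (e.restrictScalars R) hu))
    have h2 : e (gmk π a M (rename Sum.inl c')) = hA (π c') :=
      DFunLike.congr_fun (MvPolynomial.algHom_ext (f := (e.comp (gmk π a M)).comp (rename Sum.inl)) (g := hA.comp π)
        fun j => by simpa using hey j) c'
    rw [AlgHom.restrictScalars_apply] at h1
    rw [map_mul, map_mul, hez, h2] at h1
    exact (Ideal.IsPrime.mem_or_mem ‹_› h1).elim hlam hcq

end Groth.Agent.Lib.SmoothingH7
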