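import Groth.Agent.Lib.SmoothingH7.Delocalize
import Mathlib.RingTheory.Smooth.Basic

/-! Descending a factorisation from a local ring. -/

set_option autoImplicit false

universe u

open MvPolynomial

namespace Groth.Agent.Lib.SmoothingH7

/-- Homomorphisms out of a localization away from an element agree if they agree before localizing. -/
theorem away_algHom_ext {A S L P : Type u} [CommRing A] [CommRing S] [Algebra A S] [CommRing L] [Algebra S L]
    [Algebra A L] [IsScalarTower A S L] [CommRing P] [Algebra A P] (x : S) [IsLocalization.Away x L]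
    {f g : L →ₐ[A] P} (h : ∀ s, f (algebraMap S L s) = g (algebraMap S L s)) : f = g :=
  AlgHom.coe_ringHom_injective (IsLocalization.ringHom_ext (Submonoid.powers x) (RingHom.ext h))

theorem exists_descend {R A Λ Λq B : Type u} [CommRing R] [CommRing A] [Algebra R A] [Algebra.FinitePresentation R A]
    [CommRing Λ] [Algebra R Λ] (φ : A →ₐ[R] Λ) (𝔮 : Ideal Λ) [𝔮.IsPrime]
    [CommRing Λq] [Algebra Λ Λq] [IsLocalization.AtPrime Λq 𝔮] [Algebra R Λq] [IsScalarTower R Λ Λq]
    [CommRing B] [Algebra R B] [Algebra.FinitePresentation R B] (α : A →ₐ[R] B) (β : B →ₐ[R] Λq)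
    (hβ : ∀ a, β (α a) = algebraMap Λ Λq (φ a)) (s : R) (hs : algebraMap R Λ s ∉ 𝔮)
    [Algebra.Smooth R (Localization.Away (algebraMap R B s))] :
    ∃ (C₁ : Type u) (_ : CommRing C₁) (_ : Algebra R C₁), Algebra.FinitePresentation R C₁ ∧
      ∃ (g : A →ₐ[R] C₁) (h : C₁ →ₐ[R] Λ), h.comp g = φ ∧
        ¬ (Smoothing.singularIdeal R C₁).map h ≤ 𝔮 := by
  classical
  letI : Algebra A B := α.toRingHom.toAlgebra
  haveI : IsScalarTower R A B := IsScalarTower.of_algebraMap_eq fun r => (α.commutes r).symm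
  letI : Algebra A Λ := φ.toRingHom.toAlgebra
  haveI : IsScalarTower R A Λ := IsScalarTower.of_algebraMap_eq fun r => (φ.commutes r).symm
  letI : Algebra A Λq := ((algebraMap Λ Λq).comp φ.toRingHom).toAlgebra
  haveI : IsScalarTower A Λ Λq := IsScalarTower.of_algebraMap_eq' rfl
  let β' : B →ₐ[A] Λq := ⟨β.toRingHom, hβ⟩
  haveI : Algebra.FinitePresentation A B :=
    Algebra.FinitePresentation.of_restrict_scalars_finitePresentation R A B
  obtain ⟨n, qB, hqB, hfgB⟩ := Algebra.FinitePresentation.out (R := A) (A := B)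
  obtain ⟨m, rel, hrel⟩ := Submodule.fg_iff_exists_fin_generating_family.mp hfgB
  have hqrel : ∀ j, qB (rel j) = 0 := fun j =>
    RingHom.mem_ker.1 (hrel ▸ Submodule.subset_span ⟨j, rfl⟩ : rel j ∈ RingHom.ker qB.toRingHom)
  let x : Fin n → B := fun i => qB (X i)
  have haq : ∀ p, qB p = aeval x p := fun p => AlgHom.congr_fun (aeval_unique qB) p
  -- homogeneous equations
  let P := MvPolynomial (Option (Fin n)) A
  let Z : P := X none
  let Pz := Localization.Away Z
  let v : Fin n → Pz := fun i => IsLocalization.mk' Pz (X (some i) : P) (⟨Z, Submonoid.mem_powers Z⟩ : Submonoid.powers Z)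
  have hv : ∀ i, v i * algebraMap P Pz Z = algebraMap P Pz (X (some i)) := fun i => IsLocalization.mk'_spec Pz _ _
  choose d num hnum using fun j => IsLocalization.Away.surj Z (aeval v (rel j))
  -- common denominator
  obtain ⟨⟨τ, hτ⟩, hint⟩ := IsLocalization.exist_integer_multiples_of_finite (R := Λ) (S := Λq) 𝔮.primeCompl
    fun i => β' (x i)
  choose lam hlam using fun i => RingHom.mem_range.1 (hint i)
  let e₀ : P →ₐ[A] Λ := aeval fun o => o.elim τ lam
  let e₁ : P →ₐ[A] Λq := (IsScalarTower.toAlgHom A Λ Λq).comp e₀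
  have hτu : IsUnit (algebraMap Λ Λq τ) := IsLocalization.map_units Λq (⟨τ, hτ⟩ : 𝔮.primeCompl)
  have he₁Z : IsUnit (e₁ Z) := by
    rw [show e₁ Z = algebraMap Λ Λq τ from congrArg (algebraMap Λ Λq) (aeval_X _ none)]
    exact hτu
  let θ : Pz →ₐ[A] Λq := IsLocalization.Away.liftAlgHom Z he₁Z
  have hθ : ∀ p, θ (algebraMap P Pz p) = e₁ p := fun p => IsLocalization.Away.lift_eq Z he₁Z p
  have hθv : ∀ i, θ (v i) = β' (x i) := fun i => by
    refine hτu.mul_right_cancel ?_
    have h1 := congrArg θ (hv i)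
    rw [map_mul, hθ, hθ] at h1
    rw [show e₁ Z = algebraMap Λ Λq τ from congrArg (algebraMap Λ Λq) (aeval_X _ none),
      show e₁ (X (some i)) = algebraMap Λ Λq (lam i) from congrArg (algebraMap Λ Λq) (aeval_X _ (some i)),
      hlam, Algebra.smul_def] at h1
    rw [h1, mul_comm]
  have hnum0 : ∀ j, algebraMap Λ Λq (e₀ (num j)) = 0 := fun j => by
    show e₁ (num j) = 0
    rw [← hθ, ← hnum, map_mul, show θ (aeval v (rel j)) = aeval (fun i => θ (v i)) (rel j) from
        AlgHom.congr_fun (comp_aeval v θ) (rel j), funext hθv,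
      show aeval (fun i => β' (x i)) (rel j) = β' (aeval x (rel j)) from
        (AlgHom.congr_fun (comp_aeval x β') (rel j)).symm, ← haq, hqrel, map_zero, zero_mul]
  choose uj huj using fun j => (IsLocalization.map_eq_zero_iff 𝔮.primeCompl Λq _).1 (hnum0 j)
  let w : Λ := ∏ j, (uj j : Λ)
  have hw : w ∉ 𝔮 := fun h => by
    obtain ⟨j, -, hj⟩ := (‹𝔮.IsPrime›.prod_mem_iff).1 h
    exact (uj j).2 hj
  -- the algebra
  let V := Option (Option (Fin n))
  let inc : P →ₐ[A] MvPolynomial V A := rename some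
  let W : MvPolynomial V A := X none
  let eq : Fin m → MvPolynomial V A := fun j => W * inc (num j)
  let J : Ideal (MvPolynomial V A) := Ideal.span (Set.range eq)
  let C₁ := MvPolynomial V A ⧸ J
  haveI : Algebra.FinitePresentation A C₁ := Algebra.FinitePresentation.quotient (Submodule.fg_span (Set.finite_range _))
  haveI : Algebra.FinitePresentation R C₁ := Algebra.FinitePresentation.trans R A C₁
  let e : MvPolynomial V A →ₐ[A] Λ := aeval fun o => o.elim w fun o' => o'.elim τ lam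
  have hecomp : ∀ p, e (inc p) = e₀ p := fun p => aeval_rename _ _ _
  let h₁ : C₁ →ₐ[A] Λ := Ideal.Quotient.liftₐ J e fun z hz => RingHom.mem_ker.1 <| (Ideal.span_le.2
    (Set.range_subset_iff.2 fun j => RingHom.mem_ker.2 (by
      show e (W * inc (num j)) = 0
      rw [map_mul, hecomp, show e W = w from aeval_X _ none,
        show w = (uj j : Λ) * ∏ k ∈ Finset.univ.erase j, (uj k : Λ) from
          (Finset.mul_prod_erase _ (fun k => (uj k : Λ)) (Finset.mem_univ j)).symm,
        mul_right_comm, huj j, zero_mul]))) hz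
  refine ⟨C₁, inferInstance, inferInstance, inferInstance, IsScalarTower.toAlgHom R A C₁, h₁.restrictScalars R,
    AlgHom.ext fun a => h₁.commutes a, fun hle => ?_⟩
  let sA : A := algebraMap R A s
  let c : C₁ := Ideal.Quotient.mk J (algebraMap A _ sA * inc Z * W)
  -- the chart
  let Bs := Localization.Away (algebraMap R B s)
  let T := MvPolynomial (Fin 2) Bs
  let S₁ := Localization.Away (X 0 * X 1 : T)
  haveI : Algebra.Smooth Bs T := ⟨inferInstance, inferInstance⟩
  haveI : Algebra.Smooth R T := Algebra.Smooth.comp R Bs T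
  haveI : Algebra.Smooth T S₁ := Algebra.Smooth.of_isLocalization_Away (X 0 * X 1 : T)
  haveI : Algebra.Smooth R S₁ := Algebra.Smooth.comp R T S₁
  let bS : B →ₐ[A] S₁ := (IsScalarTower.toAlgHom A T S₁).comp ((IsScalarTower.toAlgHom A Bs T).comp
    (IsScalarTower.toAlgHom A B Bs))
  let tS : Fin 2 → S₁ := fun k => algebraMap T S₁ (X k)
  have htS : IsUnit (tS 0 * tS 1) := by
    rw [← map_mul]; exact IsLocalization.Away.algebraMap_isUnit _
  have ht0 : IsUnit (tS 0) := (IsUnit.mul_iff.1 htS).1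
  have ht1 : IsUnit (tS 1) := (IsUnit.mul_iff.1 htS).2
  let F : MvPolynomial V A →ₐ[A] S₁ := aeval fun o => o.elim (tS 1) fun o' => o'.elim (tS 0) fun i => tS 0 * bS (x i)
  have hFZ : F (inc Z) = tS 0 := by
    rw [show inc Z = X (some none) from rename_X _ _]
    exact aeval_X _ _
  have hFinc : IsUnit ((F.comp inc) Z) := by
    rw [AlgHom.comp_apply, hFZ]; exact ht0
  let θ₁ : Pz →ₐ[A] S₁ := IsLocalization.Away.liftAlgHom Z hFinc
  have hθ₁ : ∀ p, θ₁ (algebraMap P Pz p) = F (inc p) := fun p => IsLocalization.Away.lift_eq Z hFinc p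
  have hθ₁v : ∀ i, θ₁ (v i) = bS (x i) := fun i => by
    refine ht0.mul_right_cancel ?_
    have h1 := congrArg θ₁ (hv i)
    rw [map_mul, hθ₁, hθ₁, hFZ, show inc (X (some i)) = X (some (some i)) from rename_X _ _,
      show F (X (some (some i))) = tS 0 * bS (x i) from aeval_X _ _] at h1
    rw [h1, mul_comm]
  have hFnum : ∀ j, F (inc (num j)) = 0 := fun j => by
    rw [← hθ₁, ← hnum, map_mul, show θ₁ (aeval v (rel j)) = aeval (fun i => θ₁ (v i)) (rel j) from
        AlgHom.congr_fun (comp_aeval v θ₁) (rel j), funext hθ₁v,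
      show aeval (fun i => bS (x i)) (rel j) = bS (aeval x (rel j)) from
        (AlgHom.congr_fun (comp_aeval x bS) (rel j)).symm, ← haq, hqrel, map_zero, zero_mul]
  let F₁ : C₁ →ₐ[A] S₁ := Ideal.Quotient.liftₐ J F fun z hz => RingHom.mem_ker.1 <| (Ideal.span_le.2
    (Set.range_subset_iff.2 fun j => RingHom.mem_ker.2 (by
      show F (W * inc (num j)) = 0
      rw [map_mul, hFnum, mul_zero]))) hz
  have hsu : IsUnit (algebraMap A S₁ sA) := by
    rw [show algebraMap A S₁ sA = algebraMap T S₁ (algebraMap Bs T (algebraMap B Bs (algebraMap R B s))) by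
      rw [show sA = algebraMap R A s from rfl, ← IsScalarTower.algebraMap_apply R A S₁,
        ← IsScalarTower.algebraMap_apply R B Bs, ← IsScalarTower.algebraMap_apply R Bs T,
        ← IsScalarTower.algebraMap_apply R T S₁]]
    exact ((IsLocalization.Away.algebraMap_isUnit (algebraMap R B s)).map (algebraMap Bs T)).map (algebraMap T S₁)
  have hF₁c : IsUnit (F₁ c) := by
    show IsUnit (F (algebraMap A _ sA * inc Z * W))
    rw [map_mul, map_mul, F.commutes, hFZ, show F W = tS 1 from aeval_X _ none]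
    exact (hsu.mul ht0).mul ht1
  let L := Localization.Away c
  let F₂ : L →ₐ[A] S₁ := IsLocalization.Away.liftAlgHom c hF₁c
  have hF₂ : ∀ z, F₂ (algebraMap C₁ L z) = F₁ z := fun z => IsLocalization.Away.lift_eq c hF₁c z
  let q : MvPolynomial V A →ₐ[A] L := (IsScalarTower.toAlgHom A C₁ L).comp (Ideal.Quotient.mkₐ A J)
  have hqc : IsUnit (algebraMap A L sA * q (inc Z) * q W) := by
    rw [← q.commutes, ← map_mul, ← map_mul]
    exact IsLocalization.Away.algebraMap_isUnit c
  have hqs : IsUnit (algebraMap A L sA) := (IsUnit.mul_iff.1 (IsUnit.mul_iff.1 hqc).1).1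
  have hqZ : IsUnit ((q.comp inc) Z) := (IsUnit.mul_iff.1 (IsUnit.mul_iff.1 hqc).1).2
  have hqW : IsUnit (q W) := (IsUnit.mul_iff.1 hqc).2
  let θ₂ : Pz →ₐ[A] L := IsLocalization.Away.liftAlgHom Z hqZ
  have hθ₂ : ∀ p, θ₂ (algebraMap P Pz p) = q (inc p) := fun p => IsLocalization.Away.lift_eq Z hqZ p
  have hqnum : ∀ j, q (inc (num j)) = 0 := fun j => hqW.mul_right_eq_zero.1 (by
    rw [← map_mul]
    show algebraMap C₁ L (Ideal.Quotient.mk J (eq j)) = 0
    rw [Ideal.Quotient.eq_zero_iff_mem.2 (Ideal.subset_span ⟨j, rfl⟩ : eq j ∈ J), map_zero])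
  have hrel0 : ∀ j, aeval (fun i => θ₂ (v i)) (rel j) = 0 := fun j => by
    rw [show aeval (fun i => θ₂ (v i)) (rel j) = θ₂ (aeval v (rel j)) from
      (AlgHom.congr_fun (comp_aeval v θ₂) (rel j)).symm]
    refine ((hqZ.pow (d j)) : IsUnit _).mul_left_eq_zero.1 ?_
    rw [show (q.comp inc) Z = θ₂ (algebraMap P Pz Z) from (hθ₂ Z).symm, ← map_pow, ← map_mul, hnum, hθ₂, hqnum]
  let G : B →ₐ[A] L := AlgHom.liftOfSurjective qB hqB (aeval fun i => θ₂ (v i))
    (hrel.ge.trans (Submodule.span_le.2 (Set.range_subset_iff.2 fun j => RingHom.mem_ker.2 (hrel0 j))))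
  have hG : ∀ i, G (x i) = θ₂ (v i) := fun i =>
    (AlgHom.liftOfSurjective_apply qB hqB _ _ (X i)).trans (aeval_X _ i)
  have hGs : IsUnit (G (algebraMap R B s)) := by
    rw [IsScalarTower.algebraMap_apply R A B, G.commutes]
    exact hqs
  let Gs : Bs →ₐ[A] L := IsLocalization.Away.liftAlgHom (algebraMap R B s) hGs
  have hGs' : ∀ b, Gs (algebraMap B Bs b) = G b := fun b => IsLocalization.Away.lift_eq (algebraMap R B s) hGs b
  letI : Algebra Bs L := Gs.toRingHom.toAlgebra
  haveI : IsScalarTower A Bs L := IsScalarTower.of_algebraMap_eq fun a => (Gs.commutes a).symm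
  let GT : T →ₐ[A] L := (aeval (R := Bs) ![q (inc Z), q W]).restrictScalars A
  have hGT : IsUnit (GT (X 0 * X 1)) := by
    rw [map_mul]
    show IsUnit (aeval (R := Bs) ![q (inc Z), q W] (X 0) * aeval (R := Bs) ![q (inc Z), q W] (X 1))
    rw [aeval_X, aeval_X]
    exact hqZ.mul hqW
  let G₁ : S₁ →ₐ[A] L := IsLocalization.Away.liftAlgHom (X 0 * X 1 : T) hGT
  have hG₁ : ∀ t, G₁ (algebraMap T S₁ t) = GT t := fun t => IsLocalization.Away.lift_eq (X 0 * X 1 : T) hGT t
  have hG₁b : ∀ b, G₁ (bS b) = G b := fun b => by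
    show G₁ (algebraMap T S₁ (algebraMap Bs T (algebraMap B Bs b))) = G b
    rw [hG₁, ← hGs']
    exact aeval_C _ _
  have hG₁t : ∀ k, G₁ (tS k) = ![q (inc Z), q W] k := fun k => (hG₁ _).trans (aeval_X _ k)
  have h12 : G₁.comp F₂ = AlgHom.id A L := by
    refine away_algHom_ext c fun z => ?_
    obtain ⟨p, rfl⟩ := Ideal.Quotient.mk_surjective z
    show G₁ (F₂ (algebraMap C₁ L (Ideal.Quotient.mk J p))) = q p
    rw [hF₂]
    show G₁ (F p) = q p
    suffices h : G₁.comp F = q from AlgHom.congr_fun h p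
    refine MvPolynomial.algHom_ext fun o => ?_
    rw [AlgHom.comp_apply]
    rcases o with _ | _ | i
    · rw [show F (X none) = tS 1 from aeval_X _ none, hG₁t]; rfl
    · rw [show F (X (some none)) = tS 0 from aeval_X _ _, hG₁t]
      show q (inc Z) = _
      rw [show inc Z = X (some none) from rename_X _ _]
    · rw [show F (X (some (some i))) = tS 0 * bS (x i) from aeval_X _ _, map_mul, hG₁t, hG₁b, hG]
      show q (inc Z) * θ₂ (v i) = _
      rw [mul_comm, ← hθ₂, ← map_mul, hv, hθ₂, show inc (X (some i)) = X (some (some i)) from rename_X _ _]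
  have h21 : F₂.comp G₁ = AlgHom.id A S₁ := by
    refine away_algHom_ext (X 0 * X 1 : T) fun t => ?_
    show F₂ (G₁ (algebraMap T S₁ t)) = algebraMap T S₁ t
    rw [hG₁]
    have hC : ∀ b : Bs, F₂ (Gs b) = algebraMap T S₁ (algebraMap Bs T b) := fun b => by
      suffices h : F₂.comp Gs = (IsScalarTower.toAlgHom A T S₁).comp (IsScalarTower.toAlgHom A Bs T) from
        AlgHom.congr_fun h b
      refine away_algHom_ext (algebraMap R B s) fun b => ?_
      show F₂ (Gs (algebraMap B Bs b)) = bS b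
      rw [hGs']
      suffices h : (F₂.comp G).comp qB = bS.comp qB by
        obtain ⟨p, rfl⟩ := hqB b
        exact AlgHom.congr_fun h p
      refine MvPolynomial.algHom_ext fun i => ?_
      show F₂ (G (x i)) = bS (x i)
      rw [hG]
      refine ht0.mul_right_cancel ?_
      have h1 := congrArg (fun z => F₂ (θ₂ z)) (hv i)
      simp only [map_mul, hθ₂] at h1
      change F₂ (θ₂ (v i)) * F₂ (algebraMap C₁ L (Ideal.Quotient.mk J (inc Z))) =
        F₂ (algebraMap C₁ L (Ideal.Quotient.mk J (inc (X (some i))))) at h1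
      rw [hF₂, hF₂] at h1
      change F₂ (θ₂ (v i)) * F (inc Z) = F (inc (X (some i))) at h1
      rw [hFZ, show inc (X (some i)) = X (some (some i)) from rename_X _ _,
        show F (X (some (some i))) = tS 0 * bS (x i) from aeval_X _ _] at h1
      rw [h1, mul_comm]
    induction t using MvPolynomial.induction_on with
    | C b =>
      rw [show GT (C b) = Gs b from aeval_C _ _]
      exact hC b
    | add p p' hp hp' => simp only [map_add, hp, hp']
    | mul_X p k hp =>
      rw [map_mul, map_mul, map_mul, hp, show GT (X k) = ![q (inc Z), q W] k from aeval_X _ k]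
      congr 1
      fin_cases k
      · show F₂ (algebraMap C₁ L (Ideal.Quotient.mk J (inc Z))) = _
        rw [hF₂]
        exact hFZ
      · show F₂ (algebraMap C₁ L (Ideal.Quotient.mk J W)) = _
        rw [hF₂]
        exact aeval_X _ none
  let E : L ≃ₐ[A] S₁ := AlgEquiv.ofAlgHom F₂ G₁ h21 h12
  haveI : Algebra.Smooth R L := Algebra.Smooth.of_equiv (E.symm.restrictScalars R)
  have hc : c ∈ Smoothing.singularIdeal R C₁ := by
    refine (PrimeSpectrum.mem_vanishingIdeal _ _).2 fun Q hQ => ?_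
    by_contra hcQ
    exact hQ (Algebra.basicOpen_subset_smoothLocus_iff_smooth.2 inferInstance hcQ)
  have hmem := hle (Ideal.mem_map_of_mem (h₁.restrictScalars R) hc)
  have hec : h₁ c = algebraMap R Λ s * τ * w := by
    show e (algebraMap A _ sA * inc Z * W) = _
    rw [map_mul, map_mul, e.commutes, hecomp, show e₀ Z = τ from aeval_X _ none, show e W = w from aeval_X _ none,
      ← IsScalarTower.algebraMap_apply R A Λ]
  change h₁ c ∈ 𝔮 at hmem
  rw [hec] at hmem
  exact ‹𝔮.IsPrime›.mul_notMem (‹𝔮.IsPrime›.mul_notMem hs hτ) hw hmem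

open TensorProduct in
theorem delocalize_weak {R A Λ Rₚ Λq : Type u} [CommRing R] [CommRing A]
    [Algebra R A] [Algebra.FinitePresentation R A] [CommRing Λ] [Algebra R Λ] (φ : A →ₐ[R] Λ)
    (𝔮 : Ideal Λ) [𝔮.IsPrime]
    [CommRing Rₚ] [Algebra R Rₚ] [IsLocalization.AtPrime Rₚ (𝔮.comap (algebraMap R Λ))]
    [CommRing Λq] [Algebra Λ Λq] [IsLocalization.AtPrime Λq 𝔮] [Algebra R Λq] [IsScalarTower R Λ Λq]
    [Algebra Rₚ Λq] [IsScalarTower R Rₚ Λq]
    (hres : Smoothing.Resolvable Rₚ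
      (Algebra.TensorProduct.lift (Algebra.ofId Rₚ Λq) ((IsScalarTower.toAlgHom R Λ Λq).comp φ)
        (fun _ _ => Commute.all _ _) : Rₚ ⊗[R] A →ₐ[Rₚ] Λq) (𝔮.map (algebraMap Λ Λq))) :
    ∃ (C₁ : Type u) (_ : CommRing C₁) (_ : Algebra R C₁), Algebra.FinitePresentation R C₁ ∧
      ∃ (g : A →ₐ[R] C₁) (h : C₁ →ₐ[R] Λ), h.comp g = φ ∧
        ¬ (Smoothing.singularIdeal R C₁).map h ≤ 𝔮 := by
  classical
  obtain ⟨B₁, _, _, _, g₁, h₁, hgh, -, hnle⟩ := hres
  haveI : IsLocalRing Λq := IsLocalization.AtPrime.isLocalRing Λq 𝔮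
  have hmax : 𝔮.map (algebraMap Λ Λq) = IsLocalRing.maximalIdeal Λq := IsLocalization.AtPrime.map_eq_maximalIdeal 𝔮 Λq
  obtain ⟨b, hb, hbq⟩ : ∃ b ∈ Smoothing.singularIdeal Rₚ B₁, IsUnit (h₁ b) := by
    by_contra hcon
    push Not at hcon
    refine hnle ((Ideal.radical_mono (Ideal.map_le_iff_le_comap.2 fun b hb => ?_)).trans
      (le_of_eq (Ideal.IsPrime.radical (hmax ▸ (IsLocalRing.maximalIdeal.isMaximal Λq).isPrime))))
    show h₁ b ∈ 𝔮.map (algebraMap Λ Λq)
    rw [hmax, IsLocalRing.mem_maximalIdeal]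
    exact hcon b hb
  let B' := Localization.Away b
  haveI : Algebra.Smooth Rₚ B' := by
    refine Algebra.basicOpen_subset_smoothLocus_iff_smooth.1 fun Q hQ => ?_
    by_contra hns
    exact hQ ((PrimeSpectrum.mem_vanishingIdeal _ _).1 hb Q hns)
  let h₂ : B' →ₐ[Rₚ] Λq := IsLocalization.Away.liftAlgHom b hbq
  let φq : A →ₐ[R] Λq := (IsScalarTower.toAlgHom R Λ Λq).comp φ
  let i₀ : Λq →ₐ[R] Rₚ ⊗[R] Λq := Algebra.TensorProduct.includeRight
  let i : Λq →ₐ[Rₚ] Rₚ ⊗[R] Λq := ⟨i₀.toRingHom, fun r => by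
    have : i₀.toRingHom.comp (algebraMap Rₚ Λq) = algebraMap Rₚ (Rₚ ⊗[R] Λq) :=
      IsLocalization.ringHom_ext (𝔮.comap (algebraMap R Λ)).primeCompl (RingHom.ext fun r => by
        show i₀ (algebraMap Rₚ Λq (algebraMap R Rₚ r)) = algebraMap Rₚ _ (algebraMap R Rₚ r)
        rw [← IsScalarTower.algebraMap_apply R Rₚ Λq, i₀.commutes, ← IsScalarTower.algebraMap_apply])
    exact RingHom.congr_fun this r⟩
  let g' : Rₚ ⊗[R] A →ₐ[Rₚ] B' := (IsScalarTower.toAlgHom Rₚ B₁ B').comp g₁
  obtain ⟨B, _, _, α, β, hαβ, s, hs, hstd⟩ := exists_standard_delocalize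
    (𝔮.comap (algebraMap R Λ)).primeCompl Rₚ φq g' (i.comp h₂)
    (Algebra.TensorProduct.ext (Subsingleton.elim _ _) (AlgHom.ext fun a => by
      show i (h₂ (algebraMap B₁ B' (g₁ ((1 : Rₚ) ⊗ₜ[R] a)))) = Algebra.TensorProduct.map (AlgHom.id Rₚ Rₚ) φq (1 ⊗ₜ[R] a)
      rw [show h₂ (algebraMap B₁ B' (g₁ ((1 : Rₚ) ⊗ₜ[R] a))) = h₁ (g₁ ((1 : Rₚ) ⊗ₜ[R] a)) from IsLocalization.Away.lift_eq b hbq _,
        show h₁ (g₁ ((1 : Rₚ) ⊗ₜ[R] a)) = φq a from (AlgHom.congr_fun hgh _).trans
          ((Algebra.TensorProduct.lift_tmul _ _ _ _ _).trans (by rw [map_one, one_mul])),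
        Algebra.TensorProduct.map_tmul]
      rfl))
  have hst := isStrictlyStandard_of_elementary _ hstd
  haveI : Algebra.FinitePresentation R B := finitePresentation_of_marked hst.choose
  haveI := smooth_away_of_strictly _ hst
  exact exists_descend φ 𝔮 α β (fun a => AlgHom.congr_fun hαβ a) s (fun h => hs h)

end Groth.Agent.Lib.SmoothingH7
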