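import Groth.Agent.Lib.SmoothingH7.FlatPow
import Groth.Agent.Lib.SmoothingH7.Params
import Groth.Agent.Lib.SmoothingH7.PowAlg
import Groth.Agent.Lib.SmoothingH7.StrictPow
import Groth.Agent.Lib.SmoothingH7.Iterate
import Groth.Agent.Lib.SmoothRetractH7.Smooth
import Groth.Agent.S2034

/-!
Resolving at a prime with regular local ring and separable residue field.
-/

set_option autoImplicit false

universe u

open MvPolynomial TensorProduct

namespace Groth.Agent.Lib.SmoothingH7

theorem singularIdeal_eq_top {R B : Type u} [CommRing R] [CommRing B] [Algebra R B] [Algebra.Smooth R B] :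
    Smoothing.singularIdeal R B = ⊤ := by
  rw [Ideal.eq_top_iff_one, mem_singularIdeal_iff]
  haveI : Algebra.FormallyEtale B (Localization.Away (1 : B)) :=
    Algebra.FormallyEtale.of_isLocalization (Submonoid.powers (1 : B))
  exact Algebra.FormallySmooth.comp R B _

/-- An ind-smooth target resolves the problem at any prime. -/
theorem resolvable_of_indSmooth {R A Λ : Type u} [CommRing R] [CommRing A] [Algebra R A]
    [Algebra.FinitePresentation R A] [CommRing Λ] [Algebra R Λ] (φ : A →ₐ[R] Λ) (q : Ideal Λ) (hq : q ≠ ⊤)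
    (h : Smoothing.IndSmooth R Λ) : Smoothing.Resolvable R φ q := by
  obtain ⟨B, _, _, hB, g, h₁, hh⟩ := h A inferInstance φ
  have htop : Smoothing.singRad R h₁ = ⊤ := by
    rw [Smoothing.singRad, singularIdeal_eq_top, Ideal.map_top, Ideal.radical_top]
  exact ⟨B, inferInstance, inferInstance, inferInstance, g, h₁, hh, htop ▸ le_top, fun hle => hq (top_le_iff.1 (htop ▸ hle))⟩

theorem resolvable_sep {k A Λ : Type u} [Field k] [CommRing A]
    [Algebra k A] [Algebra.FinitePresentation k A] [CommRing Λ] [Algebra k Λ] [IsNoetherianRing Λ]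
    (φ : A →ₐ[k] Λ) (q : Ideal Λ) [q.IsPrime] (hmin : q ∈ (Smoothing.singRad k φ).minimalPrimes)
    [IsRegularLocalRing (Localization.AtPrime q)] [Algebra.IsGeometricallyReduced k q.ResidueField]
    {d : ℕ} (hd : ringKrullDim (Localization.AtPrime q) = d) (hd0 : 0 < d) : Smoothing.Resolvable k φ q := by
  classical
  haveI : IsNoetherianRing A := Algebra.FiniteType.isNoetherianRing k A
  let Lq := Localization.AtPrime q
  let f := algebraMap Λ Lq
  -- generators of the singular ideal
  obtain ⟨r, a, ha⟩ := Submodule.fg_iff_exists_fin_generating_family.1 (IsNoetherian.noetherian (Smoothing.singularIdeal k A))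
  have hspan : Ideal.span (Set.range a) = Smoothing.singularIdeal k A := ha
  let I : Ideal Λ := (Smoothing.singularIdeal k A).map φ
  have hIq : I ≤ q := Ideal.le_radical.trans hmin.1.2
  -- the exponent
  obtain ⟨n₀, hn₀⟩ : ∃ n, (q.map f) ^ n ≤ I.map f := by
    refine Ideal.exists_pow_le_of_le_radical_of_fg ?_ (IsNoetherian.noetherian _)
    rw [Ideal.map_le_iff_le_comap]
    intro x hx
    rw [Ideal.mem_comap, Ideal.radical_eq_sInf, Submodule.mem_sInf]
    rintro P ⟨hle, hP⟩
    haveI := hP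
    have h1 : Ideal.comap f P ≤ q := fun z hz => by
      by_contra hzq
      exact hP.ne_top (Ideal.eq_top_of_isUnit_mem _ hz (IsLocalization.map_units Lq (⟨z, hzq⟩ : q.primeCompl)))
    have h2 : Smoothing.singRad k φ ≤ Ideal.comap f P :=
      (Ideal.IsPrime.radical_le_iff inferInstance).2 (Ideal.map_le_iff_le_comap.1 hle)
    exact (hmin.2 ⟨inferInstance, h2⟩ h1) hx
  let n := n₀ + 1
  have hpow : (q ^ n).map f ≤ I.map f := by
    rw [Ideal.map_pow]
    exact (Ideal.pow_le_pow_right (Nat.le_succ n₀)).trans hn₀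
  -- the auxiliary algebras
  let R := MvPolynomial (Fin d) k
  let B := PowAlg d a n
  letI : Algebra R B := (aeval (R := k) (powX a n) : R →ₐ[k] B).toRingHom.toAlgebra
  haveI : IsScalarTower k R B := IsScalarTower.of_algebraMap_eq fun c =>
    ((aeval (R := k) (powX a n) : R →ₐ[k] B).commutes c).symm
  have hξ : ∀ i, algebraMap R B (X i) = powX a n i := fun i => aeval_X _ i
  haveI : Algebra.FiniteType k B := Algebra.FiniteType.trans (inferInstance : Algebra.FiniteType k A) inferInstance
  haveI : Algebra.FiniteType R B := Algebra.FiniteType.of_restrictScalars_finiteType k R B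
  haveI : Algebra.FinitePresentation R B := Algebra.FinitePresentation.of_finiteType.1 inferInstance
  have hgenB : ∀ l, algebraMap A B (a l) ∈ Smoothing.singularIdeal R B := fun l => by
    have hl : a l ∈ Smoothing.singularIdeal k A := hspan ▸ Ideal.subset_span ⟨l, rfl⟩
    haveI := (mem_singularIdeal_iff (a l)).1 hl
    exact (mem_singularIdeal_iff _).2 (formallySmooth_powAlg a n (fun i => (X i : R)) hξ
      (fun g g' h => MvPolynomial.algHom_ext h) l)
  have hAB : ∀ z ∈ Smoothing.singularIdeal k A, algebraMap A B z ∈ Smoothing.singularIdeal R B := by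
    intro z hz
    refine (Ideal.span_le.2 ?_ : Ideal.span (Set.range a) ≤ (Smoothing.singularIdeal R B).comap (algebraMap A B)) (hspan.symm ▸ hz)
    rintro _ ⟨l, rfl⟩
    exact hgenB l
  have hxB : ∀ i, powX a n i ∈ Smoothing.singularIdeal R B := fun i => singularIdeal_isRadical ⟨n, by
    rw [powX_pow]
    exact Ideal.sum_mem _ fun j _ => Ideal.mul_mem_right _ _ (hgenB j)⟩
  obtain ⟨C₀, _, _, _, _, hft, ⟨retr⟩, hC⟩ := Groth.Agent.SmoothRetractH7.exists_retract_free_smooth B R
  haveI := hft
  haveI : Algebra.FiniteType R C₀ := Algebra.FiniteType.trans (inferInstance : Algebra.FiniteType R B) hft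
  haveI : Algebra.FinitePresentation R C₀ := Algebra.FinitePresentation.of_finiteType.1 inferInstance
  have hBC : ∀ z ∈ Smoothing.singularIdeal R B, algebraMap B C₀ z ∈ Smoothing.singularIdeal R C₀ := fun z hz =>
    (mem_singularIdeal_iff _).2 (hC z ((mem_singularIdeal_iff z).1 hz)).1
  have hstd₀ : ∀ i, ∃ e₀ : ℕ, ∀ m, e₀ ≤ m →
      Smoothing.IsStrictlyStandard R C₀ (algebraMap B C₀ (powX a n i) ^ m) := fun i => by
    obtain ⟨hs, hf⟩ := hC _ ((mem_singularIdeal_iff _).1 (hxB i))
    let L := Localization.Away (algebraMap B C₀ (powX a n i))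
    haveI : Algebra.FinitePresentation C₀ L := IsLocalization.Away.finitePresentation (algebraMap B C₀ (powX a n i))
    haveI : Algebra.FinitePresentation R L := Algebra.FinitePresentation.trans R C₀ L
    haveI : Algebra.Smooth R L := ⟨hs, inferInstance⟩
    haveI := hf
    let bb := Module.Free.chooseBasis L Ω[L⁄R]
    exact exists_pow_isStrictlyStandard _ 0 (Fintype.card (Module.Free.ChooseBasisIndex L Ω[L⁄R]))
      ((LinearEquiv.prodUnique : (Ω[L⁄R] × (Fin 0 → L)) ≃ₗ[L] Ω[L⁄R]) ≪≫ₗ
        (bb.reindex (Fintype.equivFin _)).equivFun)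
  choose e₀ he₀ using hstd₀
  let M := Finset.univ.sup e₀ + 1
  have hstd : ∀ i, Smoothing.IsStrictlyStandard R C₀ (algebraMap R C₀ ((X i : R) ^ M)) := fun i => by
    rw [map_pow, IsScalarTower.algebraMap_apply R B C₀, hξ]
    exact he₀ i M ((Finset.le_sup (Finset.mem_univ i)).trans (Nat.le_succ _))
  -- the parameters
  obtain ⟨π, hπspan, hπI, hπann⟩ :=
    exists_parameters I q n (M * 8) d (Nat.succ_pos _) (Nat.mul_pos (Nat.succ_pos _) (by norm_num)) hpow hd
  have hI' : I = Ideal.span (Set.range fun j => φ (a j)) := by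
    show (Smoothing.singularIdeal k A).map φ = _
    rw [← hspan, Ideal.map_span, ← Set.range_comp]
    rfl
  choose c hc using fun i => (Submodule.mem_span_range_iff_exists_fun Λ).1 (hI' ▸ hπI i)
  letI : Algebra A Λ := φ.toRingHom.toAlgebra
  haveI : IsScalarTower k A Λ := IsScalarTower.of_algebraMap_eq fun z => (φ.commutes z).symm
  obtain ⟨φB, hφx, -⟩ := exists_powAlg_hom a n π c fun i => by
    rw [← hc i]
    exact Finset.sum_congr rfl fun j _ => mul_comm _ _
  letI : Algebra R Λ := (aeval (R := k) π : R →ₐ[k] Λ).toRingHom.toAlgebra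
  haveI : IsScalarTower k R Λ := IsScalarTower.of_algebraMap_eq fun z => ((aeval (R := k) π : R →ₐ[k] Λ).commutes z).symm
  have hπR : ∀ i, algebraMap R Λ (X i) = π i := fun i => aeval_X _ i
  let φBk : B →ₐ[k] Λ :=
    { φB.toRingHom with
      commutes' := fun z => by
        show φB (algebraMap k B z) = _
        rw [IsScalarTower.algebraMap_apply k A B, φB.commutes]
        exact φ.commutes z }
  let φBR : B →ₐ[R] Λ :=
    { φB.toRingHom with
      commutes' := fun z => DFunLike.congr_fun (MvPolynomial.algHom_ext (f := φBk.comp (IsScalarTower.toAlgHom k R B))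
        (g := IsScalarTower.toAlgHom k R Λ) fun i => by
          show φB (algebraMap R B (X i)) = algebraMap R Λ (X i)
          rw [hξ, hπR, hφx]) z }
  let φC : C₀ →ₐ[R] Λ := φBR.comp (retr.restrictScalars R)
  have hφC : ∀ b, φC (algebraMap B C₀ b) = φB b := fun b => by
    show φB (retr (algebraMap B C₀ b)) = _
    rw [retr.commutes]
    rfl
  have hle : Smoothing.singRad k φ ≤ Smoothing.singRad R φC := by
    refine Ideal.radical_mono (Ideal.map_le_iff_le_comap.2 fun z hz => ?_)
    have h1 : φC (algebraMap B C₀ (algebraMap A B z)) ∈ (Smoothing.singularIdeal R C₀).map φC :=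
      Ideal.mem_map_of_mem _ (hBC _ (hAB z hz))
    rwa [hφC, φB.commutes] at h1
  suffices hres : Smoothing.Resolvable R φC q by
    obtain ⟨D, _, _, hD, g, h, hgh, hle', hnle⟩ := hres
    letI : Algebra k D := ((algebraMap R D).comp (algebraMap k R)).toAlgebra
    haveI : IsScalarTower k R D := IsScalarTower.of_algebraMap_eq' rfl
    have hk : Smoothing.singRad R h ≤ Smoothing.singRad k (h.restrictScalars k) := by
      refine Ideal.radical_mono (Ideal.map_le_iff_le_comap.2 fun z hz => ?_)
      exact Ideal.mem_map_of_mem (h.restrictScalars k) (singularIdeal_le_of_smooth hz)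
    let gA : A →ₐ[k] D :=
      { (g.toRingHom.comp (algebraMap B C₀)).comp (algebraMap A B) with
        commutes' := fun z => by
          show g (algebraMap B C₀ (algebraMap A B (algebraMap k A z))) = algebraMap R D (algebraMap k R z)
          rw [← IsScalarTower.algebraMap_apply k A B, IsScalarTower.algebraMap_apply k R B,
            ← IsScalarTower.algebraMap_apply R B C₀, g.commutes] }
    refine ⟨D, inferInstance, inferInstance, Algebra.FinitePresentation.trans k R D, gA, h.restrictScalars k,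
      AlgHom.ext fun z => ?_, hle.trans (hle'.trans hk), fun hc' => hnle (hk.trans hc')⟩
    show h (g (algebraMap B C₀ (algebraMap A B z))) = φ z
    rw [← AlgHom.comp_apply h g, hgh, hφC, φB.commutes]
    rfl
  -- reduce modulo powers of the variables
  let K : Ideal R := Ideal.span (Set.range fun i => ((X i : R) ^ M) ^ 8)
  have hπq : ∀ i, π i ∈ q := fun i => (inferInstance : q.IsPrime).mem_of_pow_mem n (hIq (hπI i))
  have hKq : K.map (algebraMap R Λ) ≤ q := by
    rw [Ideal.map_le_iff_le_comap, Ideal.span_le]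
    rintro _ ⟨i, rfl⟩
    show algebraMap R Λ (((X i : R) ^ M) ^ 8) ∈ q
    rw [map_pow, map_pow, hπR, ← pow_mul]
    exact Ideal.pow_mem_of_mem _ (hπq i) _ (Nat.mul_pos (Nat.succ_pos _) (by norm_num))
  let φK : (C₀ ⧸ K.map (algebraMap R C₀)) →ₐ[R ⧸ K] (Λ ⧸ K.map (algebraMap R Λ)) :=
    { Ideal.quotientMap (K.map (algebraMap R Λ)) φC.toRingHom (Ideal.map_le_iff_le_comap.1 (le_of_eq (by
        rw [Ideal.map_map]; exact congrArg (fun g => Ideal.map g K) φC.comp_algebraMap))) with
      commutes' := fun z => by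
        obtain ⟨z, rfl⟩ := Ideal.Quotient.mk_surjective z
        exact congrArg (Ideal.Quotient.mk _) (φC.commutes z) }
  have hφK : ∀ x, φK (Ideal.Quotient.mk _ x) = Ideal.Quotient.mk _ (φC x) := fun x => rfl
  refine Groth.Agent.Lib.SmoothingH7.resolvable_of_resolvable_mod φC q hd0 (fun i => (X i : R) ^ M) ?_ ?_ hstd K rfl φK hφK ?_
  · intro i x hx
    obtain ⟨y, rfl⟩ := Ideal.Quotient.mk_surjective x
    rw [← map_pow, ← map_mul, Ideal.Quotient.eq_zero_iff_mem] at hx
    rw [← map_mul, Ideal.Quotient.eq_zero_iff_mem]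
    refine Ideal.mul_mem_left _ _ ?_
    have hset : (Set.range fun j : {j : Fin d // (j : ℕ) < (i : ℕ)} => ((X j.1 : R) ^ M) ^ 8) =
        (fun j => (X j : R) ^ (M * 8)) '' {j : Fin d | (j : ℕ) < (i : ℕ)} := by
      ext z
      exact ⟨fun ⟨j, hj⟩ => ⟨j.1, j.2, (pow_mul _ _ _).trans hj⟩, fun ⟨j, hj, hz⟩ => ⟨⟨j, hj⟩, (pow_mul _ _ _).symm.trans hz⟩⟩
    rw [hset] at hx ⊢
    rw [← pow_mul] at hx
    exact mem_of_pow_mul_mem (k := k) (σ := Fin d) {j : Fin d | (j : ℕ) < (i : ℕ)} (M * 8) (M * 2) i (fun h => lt_irrefl (i : ℕ) h) y hx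
  · intro i
    have hfun : (fun j : {j : Fin d // (j : ℕ) < (i : ℕ)} => algebraMap R Λ ((X j.1 : R) ^ M) ^ 8) =
        fun j => π j.1 ^ (M * 8) := funext fun j => by rw [map_pow, hπR, pow_mul]
    suffices H : ∀ S : Ideal Λ, S = Ideal.span (Set.range fun j : {j : Fin d // (j : ℕ) < (i : ℕ)} => π j.1 ^ (M * 8)) →
        ∀ x : Λ ⧸ S, Ideal.Quotient.mk S (algebraMap R Λ ((X i : R) ^ M)) ^ 2 * x = 0 →
          Ideal.Quotient.mk S (algebraMap R Λ ((X i : R) ^ M)) * x = 0 from H _ (by rw [← hfun])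
    rintro _ rfl x hx
    rw [map_pow, hπR, map_pow] at hx ⊢
    exact annihilator_pow _ (hπann i) M x hx
  -- the reduced problem
  let J := K.map (algebraMap R Λ)
  let q' := q.map (Ideal.Quotient.mk J)
  haveI hq' : q'.IsPrime := Ideal.map_isPrime_of_surjective Ideal.Quotient.mk_surjective (by rwa [Ideal.mk_ker])
  have hcomap' : q'.comap (Ideal.Quotient.mk J) = q := by
    rw [Ideal.comap_map_of_surjective _ Ideal.Quotient.mk_surjective, ← RingHom.ker_eq_comap_bot, Ideal.mk_ker]
    exact sup_eq_left.2 hKq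
  have hA' : ∀ z ∈ Smoothing.singularIdeal k A, Ideal.Quotient.mk J (φ z) ∈ Smoothing.singRad (R ⧸ K) φK := by
    intro z hz
    have h1 := singularIdeal_map_le (R := R) (R₁ := R ⧸ K) (A := C₀) (A₁ := C₀ ⧸ K.map (algebraMap R C₀))
      Ideal.Quotient.mk_surjective (Ideal.Quotient.mkₐ R _) Ideal.Quotient.mk_surjective
      (le_of_eq (by rw [Ideal.Quotient.algebraMap_eq, Ideal.mk_ker]; exact Ideal.mk_ker)) (hBC _ (hAB z hz))
    have h2 := Ideal.le_radical (Ideal.mem_map_of_mem φK h1)
    rw [Ideal.Quotient.mkₐ_eq_mk, hφK, hφC, φB.commutes] at h2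
    exact h2
  by_cases hsing : Smoothing.singRad (R ⧸ K) φK ≤ q'
  swap
  · haveI : Algebra.FinitePresentation (R ⧸ K) (C₀ ⧸ K.map (algebraMap R C₀)) := by
      haveI : Algebra.FiniteType R (C₀ ⧸ K.map (algebraMap R C₀)) := inferInstance
      haveI : Algebra.FiniteType (R ⧸ K) (C₀ ⧸ K.map (algebraMap R C₀)) :=
        Algebra.FiniteType.of_restrictScalars_finiteType R (R ⧸ K) _
      exact Algebra.FinitePresentation.of_finiteType.1 inferInstance
    exact ⟨_, inferInstance, inferInstance, inferInstance, AlgHom.id _ _, φK, AlgHom.comp_id _, le_rfl, hsing⟩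
  have hπgen : ∀ (P : Ideal Λ), P.IsPrime → J ≤ P → ∀ i, π i ∈ P := by
    intro P hP hJP i
    refine hP.mem_of_pow_mem (M * 8) (hJP ?_)
    rw [pow_mul, ← hπR, ← map_pow, ← map_pow]
    exact Ideal.mem_map_of_mem _ (Ideal.subset_span ⟨i, rfl⟩)
  have hmin' : q' ∈ (Smoothing.singRad (R ⧸ K) φK).minimalPrimes := by
    refine ⟨⟨hq', hsing⟩, fun P hP hPq => ?_⟩
    haveI := hP.1
    have h1 : q ≤ P.comap (Ideal.Quotient.mk J) := by
      refine hmin.2 ⟨inferInstance, (Ideal.IsPrime.radical_le_iff inferInstance).2 (Ideal.map_le_iff_le_comap.2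
        fun z hz => hP.2 (hA' z hz))⟩ ?_
      rw [← hcomap']
      exact Ideal.comap_mono hPq
    exact Ideal.map_le_iff_le_comap.2 h1
  -- the local ring
  let L' := Lq ⧸ J.map f
  haveI hloc : IsLocalization.AtPrime L' q' := by
    have h : q'.primeCompl = Algebra.algebraMapSubmonoid (Λ ⧸ J) q.primeCompl := by
      ext x
      obtain ⟨z, rfl⟩ := Ideal.Quotient.mk_surjective x
      refine ⟨fun hz => ⟨z, fun hzq => hz (Ideal.mem_map_of_mem _ hzq), rfl⟩, fun ⟨w, hw, hwz⟩ hz => hw ?_⟩
      rw [SetLike.mem_coe, ← hcomap', Ideal.mem_comap]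
      change Ideal.Quotient.mk J w = Ideal.Quotient.mk J z at hwz
      rw [hwz]
      exact hz
    show IsLocalization q'.primeCompl L'
    rw [h]
    infer_instance
  -- the base is local
  have horigin : K ≤ origin k d := by
    refine Ideal.span_le.2 ?_
    rintro _ ⟨i, rfl⟩
    show constantCoeff (((X i : R) ^ M) ^ 8) = 0
    rw [map_pow, map_pow, constantCoeff_X, zero_pow (Nat.succ_ne_zero _), zero_pow (by norm_num)]
  let p' := q'.comap (algebraMap (R ⧸ K) (Λ ⧸ J))
  haveI : IsLocalization.AtPrime (R ⧸ K) p' := by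
    refine IsLocalization.of_le_isUnit_of_bijective (fun x hx => ?_) Function.bijective_id
    obtain ⟨x, hx, rfl⟩ := hx
    show IsUnit x
    obtain ⟨z, rfl⟩ := Ideal.Quotient.mk_surjective x
    have hz : z ∉ origin k d := fun hz0 => by
      refine hx ?_
      show Ideal.Quotient.mk J (algebraMap R Λ z) ∈ q'
      refine Ideal.mem_map_of_mem _ ((?_ : origin k d ≤ q.comap (algebraMap R Λ)) hz0)
      rw [origin_eq_span, Ideal.span_le]
      rintro _ ⟨i, rfl⟩
      show algebraMap R Λ (X i) ∈ q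
      rw [hπR]
      exact hπq i
    by_contra hu
    obtain ⟨P, hP, hzP⟩ := exists_max_ideal_of_mem_nonunits hu
    have hle0 : origin k d ≤ P.comap (Ideal.Quotient.mk K) := by
      rw [origin_eq_span, Ideal.span_le]
      rintro _ ⟨i, rfl⟩
      refine hP.isPrime.mem_of_pow_mem (M * 8) ?_
      rw [pow_mul, ← map_pow, ← map_pow, Ideal.Quotient.eq_zero_iff_mem.2 (show ((X i : R) ^ M) ^ 8 ∈ K from Ideal.subset_span ⟨i, rfl⟩)]
      exact zero_mem _
    exact hz ((origin_isMaximal.eq_of_le (Ideal.comap_ne_top _ hP.ne_top) hle0).symm ▸ hzP)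
  haveI : Ideal.IsPrime p' := Ideal.IsPrime.comap _
  letI : Algebra (R ⧸ K) L' := ((algebraMap (Λ ⧸ J) L').comp (algebraMap (R ⧸ K) (Λ ⧸ J))).toAlgebra
  haveI : IsScalarTower (R ⧸ K) (Λ ⧸ J) L' := IsScalarTower.of_algebraMap_eq' rfl
  haveI : IsNoetherianRing (R ⧸ K) := inferInstance
  haveI : Algebra.FinitePresentation (R ⧸ K) (C₀ ⧸ K.map (algebraMap R C₀)) := by
    haveI : Algebra.FiniteType R (C₀ ⧸ K.map (algebraMap R C₀)) := inferInstance
    haveI : Algebra.FiniteType (R ⧸ K) (C₀ ⧸ K.map (algebraMap R C₀)) :=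
      Algebra.FiniteType.of_restrictScalars_finiteType R (R ⧸ K) _
    exact Algebra.FinitePresentation.of_finiteType.1 inferInstance
  haveI : IsScalarTower (R ⧸ K) (R ⧸ K) L' := ⟨fun a b c => by simp only [Algebra.smul_def, smul_eq_mul, map_mul, mul_assoc]⟩
  refine Groth.Agent.S2034.result φK q' hmin' (Rₚ := R ⧸ K) (Λq := L') ?_ ?_
  · haveI : IsLocalRing L' := IsLocalization.AtPrime.isLocalRing L' q'
    rw [IsLocalization.AtPrime.ringKrullDim_eq_height q' L']
    have hmin0 : q' ∈ minimalPrimes (Λ ⧸ J) := by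
      refine ⟨⟨hq', bot_le⟩, fun P hP hPq => ?_⟩
      haveI := hP.1
      have hJP : J ≤ P.comap (Ideal.Quotient.mk J) := fun z hz => by
        rw [Ideal.mem_comap, Ideal.Quotient.eq_zero_iff_mem.2 hz]
        exact zero_mem _
      have hPq' : P.comap (Ideal.Quotient.mk J) ≤ q := hcomap' ▸ Ideal.comap_mono hPq
      have h1 : q ≤ P.comap (Ideal.Quotient.mk J) := by
        intro z hz
        have h2 : f z ∈ (P.comap (Ideal.Quotient.mk J)).map f := by
          refine (Ideal.span_le.2 ?_ : Ideal.span (Set.range fun i => f (π i)) ≤ _) (hπspan.symm ▸ Ideal.mem_map_of_mem f hz)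
          rintro _ ⟨i, rfl⟩
          exact Ideal.mem_map_of_mem _ (hπgen _ inferInstance hJP i)
        obtain ⟨t, ht, htz⟩ := (IsLocalization.algebraMap_mem_map_algebraMap_iff q.primeCompl Lq _ z).1 h2
        exact ((Ideal.IsPrime.mem_or_mem inferInstance htz).resolve_left fun h => ht (hPq' h))
      exact Ideal.map_le_iff_le_comap.2 h1
    rw [Ideal.height_eq_zero_iff.2 hmin0]
    rfl
  -- ind-smoothness of the local ring
  haveI : Algebra.FinitePresentation (R ⧸ K) ((R ⧸ K) ⊗[R ⧸ K] (C₀ ⧸ K.map (algebraMap R C₀))) := inferInstance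
  refine resolvable_of_indSmooth _ _ ?_ ?_
  · intro htop
    have h1 : (1 : L') ∈ q'.map (algebraMap (Λ ⧸ J) L') := htop ▸ Submodule.mem_top
    rw [← map_one (algebraMap (Λ ⧸ J) L'), IsLocalization.algebraMap_mem_map_algebraMap_iff q'.primeCompl] at h1
    obtain ⟨t, ht, ht1⟩ := h1
    exact ht (by simpa using ht1)
  haveI : IsScalarTower k R Lq := IsScalarTower.of_algebraMap_eq fun z => by
    show _ = f (algebraMap R Λ (algebraMap k R z))
    rw [← IsScalarTower.algebraMap_apply k R Λ]
    exact IsScalarTower.algebraMap_apply k Λ Lq z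
  have hpar : Ideal.span (Set.range fun i : Fin d => algebraMap R Lq (X i)) = IsLocalRing.maximalIdeal Lq := by
    rw [← IsLocalization.AtPrime.map_eq_maximalIdeal q Lq, ← hπspan]
    refine congrArg (fun g => Ideal.span (Set.range g)) (funext fun i => ?_)
    show f (algebraMap R Λ (X i)) = _
    rw [hπR]
  haveI : Algebra.IsGeometricallyReduced k (Lq ⧸ IsLocalRing.maximalIdeal Lq) :=
    (inferInstance : Algebra.IsGeometricallyReduced k q.ResidueField)
  have h := indSmooth_quotient hd hpar K horigin fun i => ⟨M * 8, by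
    rw [pow_mul]; exact Ideal.subset_span ⟨i, rfl⟩⟩
  refine indSmooth_of_equiv (RingEquiv.refl (R ⧸ K)) (Ideal.quotEquivOfEq (by rw [Ideal.map_map]; rfl)) (fun z => ?_) h
  obtain ⟨z, rfl⟩ := Ideal.Quotient.mk_surjective z
  rfl

end Groth.Agent.Lib.SmoothingH7
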