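import Groth.Prelude.Def_Smoothing
import Mathlib.RingTheory.Etale.Kaehler
import Mathlib.Algebra.MvPolynomial.Derivation
import Mathlib.LinearAlgebra.Matrix.NonsingularInverse
import Mathlib.LinearAlgebra.Matrix.ToLin

/-! The differentials of `A_a` are stably free for a strictly standard `a`. -/

set_option autoImplicit false

universe u

open MvPolynomial

namespace Groth.Agent.Lib.SmoothingH7

variable {R A : Type u} [CommRing R] [CommRing A] [Algebra R A]

/-- The chain rule for derivations on a polynomial algebra. -/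
theorem derivation_eq_sum {n : ℕ} {N : Type*} [AddCommGroup N] [Module R N]
    [Module (MvPolynomial (Fin n) R) N] [IsScalarTower R (MvPolynomial (Fin n) R) N]
    (d : Derivation R (MvPolynomial (Fin n) R) N) (p : MvPolynomial (Fin n) R) :
    d p = ∑ k, pderiv k p • d (X k) := by
  classical
  induction p using MvPolynomial.induction_on with
  | C r =>
    rw [show (C r : MvPolynomial (Fin n) R) = algebraMap R _ r from rfl, d.map_algebraMap]
    simp
  | add p q hp hq => simp only [map_add, hp, hq, add_smul, Finset.sum_add_distrib]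
  | mul_X p i hp =>
    simp only [Derivation.leibniz, hp, pderiv_X, smul_eq_mul, add_smul, mul_smul, Finset.sum_add_distrib,
      Finset.smul_sum]
    rw [add_comm (∑ x, p • _) _, add_comm]
    refine congrArg₂ (· + ·) rfl ?_
    rw [Finset.sum_eq_single i (fun k _ hk => by rw [Pi.single_eq_of_ne' hk, zero_smul, smul_zero]) (by simp),
      Pi.single_eq_same, one_smul]

theorem left_inverse_of_minors {L : Type*} [CommRing L] {n c : ℕ} (M : Matrix (Fin n) (Fin c) L)
    (lam : (Fin c → Fin n) → L) (hu : IsUnit (∑ s, lam s * (Matrix.of fun i j => M (s i) j).det)) :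
    ∃ E : Matrix (Fin c) (Fin n) L, E * M = 1 := by
  classical
  let sel : (Fin c → Fin n) → Matrix (Fin c) (Fin n) L := fun s => Matrix.of fun i k => if s i = k then 1 else 0
  refine ⟨(↑hu.unit⁻¹ : L) • ∑ s, lam s • ((Matrix.of fun i j => M (s i) j).adjugate * sel s), ?_⟩
  have h : ∀ s, sel s * M = Matrix.of fun i j => M (s i) j := fun s => by
    ext i j
    rw [Matrix.mul_apply]
    simp [sel]
  rw [Matrix.smul_mul, Matrix.sum_mul]
  simp only [Matrix.smul_mul, Matrix.mul_assoc, h, Matrix.adjugate_mul, smul_smul, ← Finset.sum_smul]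
  rw [IsUnit.val_inv_mul, one_smul]

theorem stablyFree_away (a : A) (ha : Smoothing.IsStrictlyStandard R A a)
    (L : Type u) [CommRing L] [Algebra A L] [Algebra R L] [IsScalarTower R A L] [IsLocalization.Away a L] :
    ∃ p q : ℕ, Nonempty ((Ω[L⁄R] × (Fin p → L)) ≃ₗ[L] (Fin q → L)) := by
  classical
  obtain ⟨P, hspan, hkill⟩ := ha
  let B := MvPolynomial (Fin P.n) R
  letI : Algebra B A := P.hom.toRingHom.toAlgebra
  haveI : IsScalarTower R B A := IsScalarTower.of_algebraMap_eq fun r => (P.hom.commutes r).symm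
  letI : Algebra B L := ((algebraMap A L).comp P.hom.toRingHom).toAlgebra
  haveI : IsScalarTower B A L := IsScalarTower.of_algebraMap_eq fun b => rfl
  haveI : IsScalarTower R B L := IsScalarTower.of_algebraMap_eq fun r => by
    show algebraMap R L r = algebraMap A L (P.hom (algebraMap R B r))
    rw [P.hom.commutes, ← IsScalarTower.algebraMap_apply]
  let ι : B →+* L := algebraMap B L
  let lead : Fin P.c → B := fun j => P.rel (Fin.castLE P.hcm j)
  let M : Matrix (Fin P.n) (Fin P.c) L := Matrix.of fun k j => ι (pderiv k (lead j))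
  obtain ⟨lam, hlam⟩ := Ideal.mem_span_range_iff_exists_fun.1 hspan
  have hau : IsUnit (algebraMap A L a) := IsLocalization.Away.algebraMap_isUnit a
  have hdet : ∑ s, algebraMap A L (lam s) * (Matrix.of fun i j => M (s i) j).det = algebraMap A L a := by
    rw [← hlam, map_sum]
    refine Finset.sum_congr rfl fun s _ => ?_
    rw [map_mul]
    congr 1
    show _ = ι (Smoothing.jacobianMinor P.rel (Fin.castLE P.hcm) s)
    rw [Smoothing.jacobianMinor, RingHom.map_det, ← Matrix.det_transpose]
    rfl
  obtain ⟨E, hE⟩ := left_inverse_of_minors M (fun s => algebraMap A L (lam s)) (hdet ▸ hau)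
  let N := (Fin P.n → L) ⧸ LinearMap.range M.mulVecLin
  let e : (Fin P.n → L) →ₗ[L] N × (Fin P.c → L) := (Submodule.mkQ _).prod E.mulVecLin
  have hEM : ∀ w, E.mulVec (M.mulVec w) = w := fun w => by rw [Matrix.mulVec_mulVec, hE, Matrix.one_mulVec]
  have he : Function.Bijective e := by
    refine ⟨(injective_iff_map_eq_zero e).2 fun v hv => ?_, fun x => ?_⟩
    · obtain ⟨h1, h2⟩ := Prod.ext_iff.1 hv
      obtain ⟨w, rfl⟩ := (Submodule.Quotient.mk_eq_zero _).1 h1
      have h3 : E.mulVec (M.mulVec w) = 0 := h2
      rw [hEM] at h3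
      rw [h3, map_zero]
    · obtain ⟨x, w⟩ := x
      obtain ⟨v, rfl⟩ := Submodule.Quotient.mk_surjective _ x
      refine ⟨v + M.mulVec (w - E.mulVec v), Prod.ext ?_ ?_⟩
      · exact (Submodule.Quotient.eq _).2 ⟨w - E.mulVec v, by simp [Matrix.mulVec_sub]⟩
      · show E.mulVec (v + M.mulVec (w - E.mulVec v)) = w
        rw [Matrix.mulVec_add, hEM]; abel
  let g : Fin P.n → N := fun k => Submodule.Quotient.mk (Pi.single k 1)
  let d : Derivation R B N := mkDerivation R g
  have hd : ∀ p : B, d p = Submodule.Quotient.mk (fun k => ι (pderiv k p)) := fun p => by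
    rw [derivation_eq_sum d p]
    have h1 : ∀ k, pderiv k p • d (X k) = (Submodule.mkQ _) (ι (pderiv k p) • (Pi.single k 1 : Fin P.n → L)) :=
      fun k => by
        rw [show d (X k) = g k from mkDerivation_X R g k, ← algebraMap_smul L (pderiv k p) (g k), map_smul]
        rfl
    rw [Finset.sum_congr rfl fun k _ => h1 k, ← map_sum]
    show Submodule.Quotient.mk _ = _
    congr 1
    funext l
    simp [Finset.sum_apply, Pi.single_apply]
  have hlead : ∀ j, d (lead j) = 0 := fun j => by
    rw [hd, Submodule.Quotient.mk_eq_zero]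
    exact ⟨Pi.single j 1, by ext k; simp [M]⟩
  let I : Ideal B := Ideal.span (Set.range P.rel)
  have hI0 : ∀ z ∈ I, ι z = 0 := fun z hz => by
    rw [show I = RingHom.ker P.hom.toRingHom from P.ker_eq.symm] at hz
    show algebraMap A L (P.hom z) = 0
    rw [show P.hom z = 0 from hz, map_zero]
  have hsm : ∀ (b : B) (x : N), b • x = ι b • x := fun b x => (algebraMap_smul L b x).symm
  let K : Ideal B :=
    { carrier := {z | z ∈ I ∧ d z = 0}
      add_mem' := fun {x y} hx hy => ⟨I.add_mem hx.1 hy.1, by rw [map_add, hx.2, hy.2, add_zero]⟩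
      zero_mem' := ⟨I.zero_mem, map_zero d⟩
      smul_mem' := fun b x hx => ⟨I.mul_mem_left b hx.1, by
        show d (b * x) = 0
        rw [Derivation.leibniz, hx.2, smul_zero, zero_add, hsm, hI0 x hx.1, zero_smul]⟩ }
  have hker : ∀ z ∈ I, d z = 0 := by
    have hgen : ∀ j, d (P.rel j) = 0 := fun j => by
      by_cases hj : (j : ℕ) < P.c
      · exact hlead ⟨j, hj⟩
      obtain ⟨a', ha'⟩ := P.surj a
      have hle : Ideal.span (P.rel '' {j' : Fin P.m | (j' : ℕ) < P.c}) ⊔ I ^ 2 ≤ K := by
        refine sup_le (Ideal.span_le.2 ?_) ?_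
        · rintro _ ⟨j', hj', rfl⟩
          exact ⟨Ideal.subset_span ⟨j', rfl⟩, hlead ⟨j', hj'⟩⟩
        · rw [pow_two]
          exact Ideal.mul_le.2 fun x hx y hy => ⟨I.mul_mem_left x hy, by
            rw [Derivation.leibniz, hsm, hsm, hI0 x hx, hI0 y hy, zero_smul, zero_smul, add_zero]⟩
      have h := (hle (hkill a' ha' j (Nat.le_of_not_lt hj))).2
      rw [Derivation.leibniz, hsm (P.rel j), hI0 _ (Ideal.subset_span ⟨j, rfl⟩), zero_smul, add_zero, hsm] at h
      refine (hau.smul_eq_zero).1 ?_
      rwa [show ι a' = algebraMap A L a from congrArg (algebraMap A L) ha'] at h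
    intro z hz
    induction hz using Submodule.span_induction with
    | mem x hx => obtain ⟨j, rfl⟩ := hx; exact hgen j
    | zero => exact map_zero d
    | add x y _ _ hx hy => rw [map_add, hx, hy, add_zero]
    | smul b x hx h => rw [smul_eq_mul, Derivation.leibniz, h, smul_zero, zero_add, hsm, hI0 x hx, zero_smul]
  choose s hs using P.surj
  have hds : ∀ x y, P.hom x = P.hom y → d x = d y := fun x y h => sub_eq_zero.1 <| by
    rw [← map_sub]
    refine hker _ ?_
    rw [show I = RingHom.ker P.hom.toRingHom from P.ker_eq.symm]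
    exact RingHom.mem_ker.2 (show P.hom (x - y) = 0 by rw [map_sub, h, sub_self])
  have hsA : ∀ (x : A) (z : N), x • z = algebraMap A L x • z := fun x z => (algebraMap_smul L x z).symm
  haveI : IsScalarTower R A N := IsScalarTower.of_algebraMap_smul fun r z => by
    rw [hsA, ← IsScalarTower.algebraMap_apply, algebraMap_smul]
  let dA : Derivation R A N := Derivation.mk'
    { toFun := fun x => d (s x)
      map_add' := fun x y => by rw [hds (s (x + y)) (s x + s y) (by rw [map_add, hs, hs, hs]), map_add]
      map_smul' := fun r x => by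
        rw [RingHom.id_apply, hds (s (r • x)) (r • s x) (by rw [hs, map_smul, hs]), Derivation.map_smul] }
    fun x y => by
      show d (s (x * y)) = x • d (s y) + y • d (s x)
      rw [hds (s (x * y)) (s x * s y) (by rw [map_mul, hs, hs, hs]), Derivation.leibniz, hsm, hsm, hsA, hsA,
        show ι (s x) = algebraMap A L x from congrArg (algebraMap A L) (hs x),
        show ι (s y) = algebraMap A L y from congrArg (algebraMap A L) (hs y)]
  haveI : IsScalarTower A L N := IsScalarTower.of_algebraMap_smul fun x z => (hsA x z).symm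
  haveI : IsScalarTower R A Ω[L⁄R] := inferInstance
  let mapΩ := KaehlerDifferential.map R R A L
  have hunits : ∀ x : Submonoid.powers a, IsUnit (algebraMap A (Module.End A N) x) := fun x => by
    rw [Module.End.isUnit_iff]
    have hu : IsUnit (algebraMap A L x) := IsLocalization.map_units L x
    refine ⟨fun y z h => hu.smul_left_cancel.1
        (by rwa [Module.algebraMap_end_apply, Module.algebraMap_end_apply, hsA, hsA] at h),
      fun y => ⟨(↑hu.unit⁻¹ : L) • y, ?_⟩⟩
    rw [Module.algebraMap_end_apply, hsA, smul_smul, IsUnit.mul_val_inv, one_smul]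
  let Φ₀ : Ω[L⁄R] →ₗ[A] N := IsLocalizedModule.lift (Submonoid.powers a) mapΩ dA.liftKaehlerDifferential hunits
  let Φ : Ω[L⁄R] →ₗ[L] N := Φ₀.extendScalarsOfIsLocalization (Submonoid.powers a) L
  have hΦ : ∀ x : A, Φ (KaehlerDifferential.D R L (algebraMap A L x)) = dA x := fun x => by
    show Φ₀ _ = _
    rw [← KaehlerDifferential.map_D R R A L x]
    exact (IsLocalizedModule.lift_apply (Submonoid.powers a) mapΩ _ hunits _).trans
      (Derivation.liftKaehlerDifferential_comp_D dA x)
  let dx : Fin P.n → Ω[L⁄R] := fun k => KaehlerDifferential.D R L (ι (X k))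
  have hD : ∀ p : B, KaehlerDifferential.D R L (ι p) = ∑ k, ι (pderiv k p) • dx k := fun p => by
    have := derivation_eq_sum ((KaehlerDifferential.D R L).compAlgebraMap B) p
    rw [Derivation.compAlgebraMap_apply] at this
    refine this.trans (Finset.sum_congr rfl fun k _ => ?_)
    rw [Derivation.compAlgebraMap_apply]
    exact (algebraMap_smul L (pderiv k p) _).symm
  let Ψ : N →ₗ[L] Ω[L⁄R] := Submodule.liftQ _ (Fintype.linearCombination L dx) (by
    rintro _ ⟨w, rfl⟩
    rw [LinearMap.mem_ker, Fintype.linearCombination_apply]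
    simp only [Matrix.mulVecLin_apply, Matrix.mulVec, dotProduct, Finset.sum_smul]
    rw [Finset.sum_comm]
    refine Finset.sum_eq_zero fun j _ => ?_
    simp only [mul_comm _ (w j), ← smul_smul, ← Finset.smul_sum]
    rw [show ∑ k, M k j • dx k = KaehlerDifferential.D R L (ι (lead j)) from (hD _).symm,
      hI0 _ (Ideal.subset_span ⟨_, rfl⟩), map_zero, smul_zero])
  have hΨd : ∀ p, Ψ (d p) = KaehlerDifferential.D R L (ι p) := fun p => by
    rw [hd, hD]
    show Fintype.linearCombination L dx (fun k => ι (pderiv k p)) = _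
    exact Fintype.linearCombination_apply L dx _
  have hΦΨ : Φ ∘ₗ Ψ = LinearMap.id := by
    refine Submodule.linearMap_qext _ (LinearMap.pi_ext' fun k => LinearMap.ext_ring ?_)
    show Φ (Fintype.linearCombination L dx (Pi.single k 1)) = g k
    rw [Fintype.linearCombination_apply_single, one_smul]
    show Φ (KaehlerDifferential.D R L (algebraMap A L (P.hom (X k)))) = g k
    rw [hΦ]
    show d (s (P.hom (X k))) = g k
    rw [hds _ (X k) (hs _)]
    exact mkDerivation_X R g k
  have hΨΦ : Ψ ∘ₗ Φ = LinearMap.id := by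
    suffices h : (Ψ ∘ₗ Φ).restrictScalars A = (LinearMap.id : Ω[L⁄R] →ₗ[L] Ω[L⁄R]).restrictScalars A from
      LinearMap.ext fun z => LinearMap.congr_fun h z
    refine IsLocalizedModule.ext (Submonoid.powers a) mapΩ (fun x => ?_)
      (Derivation.liftKaehlerDifferential_unique _ _ (Derivation.ext fun x => ?_))
    · exact (Module.End.isUnit_iff _).2 ⟨fun y z h => (IsLocalization.map_units L x).smul_left_cancel.1
        (by rwa [Module.algebraMap_end_apply, Module.algebraMap_end_apply, ← algebraMap_smul L (x : A) y,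
          ← algebraMap_smul L (x : A) z] at h), fun y =>
          ⟨(↑(IsLocalization.map_units L x).unit⁻¹ : L) • y, by
            rw [Module.algebraMap_end_apply, ← algebraMap_smul L (x : A), smul_smul, IsUnit.mul_val_inv, one_smul]⟩⟩
    · show Ψ (Φ (mapΩ (KaehlerDifferential.D R A x))) = mapΩ (KaehlerDifferential.D R A x)
      rw [KaehlerDifferential.map_D, hΦ]
      show Ψ (d (s x)) = _
      rw [hΨd, show ι (s x) = algebraMap A L x from congrArg (algebraMap A L) (hs x)]
  let eΩ : Ω[L⁄R] ≃ₗ[L] N := LinearEquiv.ofLinearMap Φ Ψ hΦΨ hΨΦ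
  exact ⟨P.c, P.n, ⟨(eΩ.prodCongr (LinearEquiv.refl L _)).trans (LinearEquiv.ofBijective e he).symm⟩⟩

end Groth.Agent.Lib.SmoothingH7
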