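import Groth.Agent.Lib.LeftInv.Jacobian
import Groth.Agent.Lib.NeronH7.Detect
import Groth.Prelude.Def_Smoothing

/-!
Standard elements at a smooth point of a finitely presented algebra over an arbitrary ring.
-/

set_option autoImplicit false

universe u

open TensorProduct KaehlerDifferential IsLocalRing

namespace Groth.Agent.Lib.SmoothingH7

variable {R B A : Type u} [CommRing R] [CommRing B] [CommRing A] [Algebra R B] [Algebra B A] [Algebra R A]
  [IsScalarTower R B A]

/-- At a point where the quotient is smooth, derivations detect the generators of the kernel. -/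
theorem detect_of_smoothAt [Algebra.FormallySmooth R B] (hsurj : Function.Surjective (algebraMap B A))
    (hfg : (RingHom.ker (algebraMap B A)).FG) (q : Ideal A) [q.IsPrime] (hsm : Algebra.IsSmoothAt R q)
    (x : B) (hx : x ∈ RingHom.ker (algebraMap B A))
    (h : ∀ s : Derivation R B B, s x ∈ q.comap (algebraMap B A)) :
    algebraMap B (Localization.AtPrime (q.comap (algebraMap B A))) x ∈
      maximalIdeal (Localization.AtPrime (q.comap (algebraMap B A))) •
        (RingHom.ker (algebraMap B A)).map (algebraMap B (Localization.AtPrime (q.comap (algebraMap B A)))) := by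
  classical
  haveI : Module.Finite B (RingHom.ker (algebraMap B A)) := Module.Finite.iff_fg.2 hfg
  haveI : Module.Finite B (RingHom.ker (algebraMap B A)).Cotangent :=
    Module.Finite.of_surjective _ (RingHom.ker (algebraMap B A)).toCotangent_surjective
  haveI := LeftInv.finite_cotangent_extOfSurj R B A hsurj
  let P : Algebra.Extension.{u} R A := LeftInv.extOfSurj R B A hsurj
  haveI : Algebra.FormallySmooth R P.Ring := ‹Algebra.FormallySmooth R B›
  obtain ⟨w, t, ht, hwu⟩ := (LeftInv.lInv_cotangentComplex_iff P q.primeCompl).1 hsm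
  let J : Ideal B := RingHom.ker (algebraMap B A)
  let Q : Ideal B := q.comap (algebraMap B A)
  have hJQ : J ≤ Q := fun x hx => by
    show algebraMap B A x ∈ q
    rw [RingHom.mem_ker.mp hx]; exact q.zero_mem
  obtain ⟨P0, hP0⟩ := Module.projective_def.1 (inferInstance : Module.Projective B Ω[B⁄R])
  obtain ⟨t₀, rfl⟩ := hsurj t
  let y : P.Cotangent := Algebra.Extension.Cotangent.mk (P := P) ⟨x, hx⟩
  have hu : P.cotangentComplex y ∈ q • (⊤ : Submodule A P.CotangentSpace) := by
    rw [show P.cotangentComplex y = (1 : A) ⊗ₜ[B] KaehlerDifferential.D R B x from rfl,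
      ← hP0 (KaehlerDifferential.D R B x), Finsupp.linearCombination_apply, Finsupp.sum,
      TensorProduct.tmul_sum]
    refine Submodule.sum_mem _ fun s _ => ?_
    rw [id_eq, TensorProduct.tmul_smul, ← algebraMap_smul A (P0 (KaehlerDifferential.D R B x) s)]
    exact Submodule.smul_mem_smul (h (((Finsupp.lapply s).comp P0).compDer (KaehlerDifferential.D R B))) trivial
  have hty : algebraMap B A t₀ • y ∈ q • (⊤ : Submodule A P.Cotangent) := by
    have h1 := Submodule.mem_map_of_mem (f := w) hu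
    rw [Submodule.map_smul''] at h1
    have h2 : w (P.cotangentComplex y) = algebraMap B A t₀ • y := LinearMap.congr_fun hwu y
    rw [h2] at h1
    exact Submodule.smul_mono le_rfl le_top h1
  have hrep : ∀ z ∈ q • (⊤ : Submodule A P.Cotangent),
      ∃ j, ∃ hj : j ∈ J, j ∈ Q * J ∧ z = Algebra.Extension.Cotangent.mk (P := P) ⟨j, hj⟩ := by
    intro z hz
    refine Submodule.smul_induction_on hz (fun c hc z _ => ?_) ?_
    · obtain ⟨b, rfl⟩ := hsurj c
      obtain ⟨⟨j, hj⟩, rfl⟩ := Algebra.Extension.Cotangent.mk_surjective z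
      refine ⟨b * j, J.mul_mem_left _ hj, Ideal.mul_mem_mul hc hj, ?_⟩
      let b₀ : P.Ring := b
      rw [show (⟨b * j, _⟩ : P.ker) = b₀ • (⟨j, hj⟩ : P.ker) from rfl, map_smul]
      exact algebraMap_smul A b₀ _
    · rintro _ _ ⟨j, hj, hj', rfl⟩ ⟨k, hk, hk', rfl⟩
      exact ⟨j + k, J.add_mem hj hk, (Q * J).add_mem hj' hk', (map_add _ _ _).symm⟩
  obtain ⟨j, hj, hj', hjy⟩ := hrep _ hty
  have htx : t₀ * x ∈ Q * J := by
    let t₁ : P.Ring := t₀
    have h3 : Algebra.Extension.Cotangent.mk (P := P) (t₁ • ⟨x, hx⟩) =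
        Algebra.Extension.Cotangent.mk (P := P) ⟨j, hj⟩ := by
      rw [map_smul, ← hjy]
      exact (algebraMap_smul A t₁ _).symm
    rw [Algebra.Extension.Cotangent.mk_eq_mk_iff_sub_mem] at h3
    have h4 : t₀ * x - j ∈ Q * J := (pow_two J ▸ Ideal.mul_mono hJQ le_rfl : J ^ 2 ≤ Q * J) h3
    simpa using (Q * J).add_mem h4 hj'
  have h6 : algebraMap B (Localization.AtPrime Q) (t₀ * x) ∈
      Q.map (algebraMap B (Localization.AtPrime Q)) * J.map (algebraMap B (Localization.AtPrime Q)) := by
    rw [← Ideal.map_mul]; exact Ideal.mem_map_of_mem _ htx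
  rw [map_mul, Ideal.unit_mul_mem_iff_mem _
    (IsLocalization.map_units (Localization.AtPrime Q) (⟨t₀, ht⟩ : Q.primeCompl)),
    Localization.AtPrime.map_eq_maximalIdeal] at h6
  exact h6

/-- Some of the given generators generate locally and are separated by derivations. -/
theorem exists_rows [Algebra.FormallySmooth R B] (hsurj : Function.Surjective (algebraMap B A))
    {m : ℕ} (f : Fin m → B) (hker : RingHom.ker (algebraMap B A) = Ideal.span (Set.range f))
    (q : Ideal A) [q.IsPrime] (hsm : Algebra.IsSmoothAt R q) :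
    ∃ (c : ℕ) (rows : Fin c → Fin m) (D : Fin c → Derivation R B B), Function.Injective rows ∧
      (∀ x ∈ Ideal.span (Set.range f), ∃ w, algebraMap B A w ∉ q ∧ w * x ∈ Ideal.span (Set.range (f ∘ rows))) ∧
      algebraMap B A (Matrix.det (Matrix.of fun i j => D j (f (rows i)))) ∉ q := by
  classical
  let Q : Ideal B := q.comap (algebraMap B A)
  let ι := algebraMap B (Localization.AtPrime Q)
  let I : Ideal B := Ideal.span (Set.range f)
  have hIQ : I ≤ Q := fun x hx => by
    show algebraMap B A x ∈ q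
    rw [RingHom.mem_ker.mp (hker ▸ hx : x ∈ RingHom.ker (algebraMap B A))]
    exact q.zero_mem
  let Gen : ℕ → Prop := fun c => ∃ rows : Fin c → Fin m, Function.Injective rows ∧
    I.map ι ≤ (Ideal.span (Set.range (f ∘ rows))).map ι
  obtain ⟨c, ⟨rows, hinj, hgen⟩, hmin⟩ : ∃ c, Gen c ∧ ∀ n < c, ¬ Gen n :=
    ⟨_, Nat.find_spec (⟨m, id, Function.injective_id, le_rfl⟩ : ∃ c, Gen c), fun n => Nat.find_min _⟩
  have hf : ∀ i, f (rows i) ∈ Q := fun i => hIQ (Ideal.subset_span ⟨_, rfl⟩)
  rcases NeronH7.exists_det_or_relation (R := R) Q (f ∘ rows) hf with ⟨D, hD⟩ | ⟨b, k, hbk, hrel⟩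
  · exact ⟨c, rows, D, hinj, fun x hx => (NeronH7.mem_map_atPrime_iff Q _ x).1
      (hgen (Ideal.mem_map_of_mem _ hx)), hD⟩
  exfalso
  obtain ⟨n, rfl⟩ : ∃ n, c = n + 1 := ⟨c - 1, by have := k.2; omega⟩
  refine hmin n (Nat.lt_succ_self n) ⟨rows ∘ k.succAbove, hinj.comp Fin.succAbove_right_injective, ?_⟩
  let S : Ideal (Localization.AtPrime Q) := (Ideal.span (Set.range (f ∘ rows))).map ι
  let T : Ideal (Localization.AtPrime Q) := (Ideal.span (Set.range (f ∘ rows ∘ k.succAbove))).map ι
  have hSfg : S.FG := Ideal.FG.map (Submodule.fg_span (Set.finite_range _)) _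
  refine hgen.trans (Submodule.le_of_le_smul_of_le_jacobson_bot hSfg (IsLocalRing.maximalIdeal_le_jacobson _) ?_)
  have hxI : (∑ i, b i * f (rows i)) ∈ I := I.sum_mem fun i _ => I.mul_mem_left _ (Ideal.subset_span ⟨_, rfl⟩)
  have hx := detect_of_smoothAt hsurj (hker ▸ Submodule.fg_span (Set.finite_range f)) q hsm _ (hker ▸ hxI) hrel
  have hx' : ι (∑ i, b i * f (rows i)) ∈ maximalIdeal (Localization.AtPrime Q) • S := by
    rw [hker] at hx
    exact Submodule.smul_mono le_rfl hgen hx
  refine Ideal.map_le_iff_le_comap.2 (Ideal.span_le.2 ?_)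
  rintro _ ⟨i, rfl⟩
  have hT : ∀ j, ι (f (rows (k.succAbove j))) ∈ T := fun j => Ideal.mem_map_of_mem _ (Ideal.subset_span ⟨j, rfl⟩)
  by_cases hi : i = k
  · subst hi
    show ι ((f ∘ rows) i) ∈ T ⊔ maximalIdeal (Localization.AtPrime Q) • S
    refine (Ideal.unit_mul_mem_iff_mem _
      (IsLocalization.map_units (Localization.AtPrime Q) (⟨b i, hbk⟩ : Q.primeCompl))).1 ?_
    have hsum : ι (b i) * ι ((f ∘ rows) i) = ι (∑ j, b j * f (rows j)) -
        ∑ j, ι (b (i.succAbove j)) * ι (f (rows (i.succAbove j))) := by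
      rw [Fin.sum_univ_succAbove _ i, map_add, map_sum, map_mul]
      simp only [map_mul, Function.comp_apply]
      ring
    show ι (b i) * ι ((f ∘ rows) i) ∈ _
    rw [hsum]
    exact Submodule.sub_mem _ (Submodule.mem_sup_right hx')
      (Submodule.sum_mem _ fun j _ => Submodule.mem_sup_left (T.mul_mem_left _ (hT j)))
  · obtain ⟨j, rfl⟩ := Fin.exists_succAbove_eq hi
    exact Submodule.mem_sup_left (hT j)

end Groth.Agent.Lib.SmoothingH7
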