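import Groth.Agent.Lib.SmoothingH7.StablyFree
import Groth.Agent.Lib.LeftInv.Jacobian
import Mathlib.RingTheory.Flat.EquationalCriterion
import Mathlib.RingTheory.Smooth.Flat
import Mathlib.RingTheory.Smooth.Locus

/-! The desingularization lemma. -/

set_option autoImplicit false

universe u

open MvPolynomial IsLocalRing

namespace Groth.Agent.Lib.SmoothingH7

/-- Second order Taylor expansion along a multiple of a scalar. -/
theorem exists_taylor {R P : Type*} [CommRing R] [CommRing P] [Algebra R P] {n : ℕ} (a : Fin n → R) (s : R)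
    (w : Fin n → P) (p : MvPolynomial (Fin n) R) :
    ∃ q : P, aeval (fun k => algebraMap R P (a k) + algebraMap R P s * w k) p =
      algebraMap R P (aeval a p) + algebraMap R P s * ∑ k, algebraMap R P (aeval a (pderiv k p)) * w k +
        algebraMap R P s ^ 2 * q := by
  classical
  induction p using MvPolynomial.induction_on with
  | C r => exact ⟨0, by simp⟩
  | add p p' hp hp' =>
    obtain ⟨q, hq⟩ := hp
    obtain ⟨q', hq'⟩ := hp'
    refine ⟨q + q', ?_⟩
    simp only [map_add, hq, hq', add_mul, Finset.sum_add_distrib]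
    ring
  | mul_X p i hp =>
    obtain ⟨q, hq⟩ := hp
    refine ⟨q * (algebraMap R P (a i) + algebraMap R P s * w i) +
      (∑ k, algebraMap R P (aeval a (pderiv k p)) * w k) * w i, ?_⟩
    have e : ∑ k, algebraMap R P (aeval a (pderiv k (p * X i))) * w k =
        (∑ k, algebraMap R P (aeval a (pderiv k p)) * w k) * algebraMap R P (a i) +
          algebraMap R P (aeval a p) * w i := by
      rw [Finset.sum_mul, ← Finset.sum_erase_add _ _ (Finset.mem_univ i),
        ← Finset.sum_erase_add (f := fun k => algebraMap R P (aeval a (pderiv k p)) * w k * algebraMap R P (a i)) _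
          (Finset.mem_univ i)]
      rw [pderiv_mul, pderiv_X_self, mul_one, map_add, map_add, map_mul, map_mul, aeval_X]
      rw [Finset.sum_congr rfl fun k hk => (by
        rw [pderiv_mul, pderiv_X_of_ne (Finset.ne_of_mem_erase hk).symm, mul_zero, add_zero, map_mul, map_mul, aeval_X]
        ring : algebraMap R P (aeval a (pderiv k (p * X i))) * w k =
          algebraMap R P (aeval a (pderiv k p)) * w k * algebraMap R P (a i))]
      ring
    rw [map_mul, hq, aeval_X, e, map_mul, map_mul, aeval_X]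
    ring

theorem eq_bot_of_le_maximalIdeal_mul {L : Type*} [CommRing L] [IsLocalRing L] (K : Ideal L) (hfg : K.FG)
    (h : K ≤ maximalIdeal L * K) : K = ⊥ :=
  Submodule.eq_bot_of_le_smul_of_le_jacobson_bot _ K hfg (by rwa [Ideal.smul_eq_mul])
    (IsLocalRing.maximalIdeal_le_jacobson _)

theorem desingularize {R Λ A : Type u} [CommRing R] [IsNoetherianRing R] [CommRing Λ]
    [Algebra R Λ] (π : R) (hΛ : ∀ x : Λ, π ^ 2 • x = 0 → π • x = 0) [CommRing A] [Algebra R A]
    [Algebra.FinitePresentation R A] (φ : A →ₐ[R] Λ)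
    (hπ : Smoothing.IsStrictlyStandard R A (algebraMap R A π))
    (ρ : A →ₐ[R] R ⧸ Ideal.span {π ^ 4})
    (hρ : ∀ (a : A) (r : R), Ideal.Quotient.mk (Ideal.span {π ^ 4}) r = ρ a →
      algebraMap R Λ r - φ a ∈ Ideal.span {algebraMap R Λ (π ^ 4)}) :
    ∃ (B : Type u) (_ : CommRing B) (_ : Algebra R B), Algebra.FinitePresentation R B ∧
      ∃ (α : A →ₐ[R] B) (β : B →ₐ[R] Λ), β.comp α = φ ∧
        ∀ r : R, (∀ x : R, π ^ 2 * x = 0 → π * (r * x) = 0) →
          algebraMap R B r ∈ Smoothing.singularIdeal R B := by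
  classical
  obtain ⟨P, hspan, hkill⟩ := hπ
  choose a ha using fun k => Ideal.Quotient.mk_surjective (ρ (P.hom (X k)))
  have hρev : ∀ p, ρ (P.hom p) = Ideal.Quotient.mk _ (aeval a p) := fun p => by
    have : ρ.comp P.hom = (Ideal.Quotient.mkₐ R _).comp (aeval a) := MvPolynomial.algHom_ext fun k => by
      show ρ (P.hom (X k)) = Ideal.Quotient.mk _ (aeval a (X k))
      rw [aeval_X, ha]
    exact AlgHom.congr_fun this p
  have hrel0 : ∀ j, P.hom (P.rel j) = 0 := fun j => by
    have h1 : P.rel j ∈ RingHom.ker P.hom.toRingHom := P.ker_eq.symm ▸ Ideal.subset_span ⟨j, rfl⟩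
    exact h1
  choose c₀ hc₀ using fun j => Ideal.mem_span_singleton'.1
    (Ideal.Quotient.eq_zero_iff_mem.1 ((hρev (P.rel j)).symm.trans (by rw [hrel0, map_zero])))
  choose μ hμ using fun k => Ideal.mem_span_singleton'.1 (hρ (P.hom (X k)) (a k) (ha k))
  let lead : Fin P.c → Fin P.m := Fin.castLE P.hcm
  -- the right inverse up to `ω`
  let Ja : Matrix (Fin P.c) (Fin P.n) R := Matrix.of fun j k => aeval a (pderiv k (P.rel (lead j)))
  obtain ⟨lam, hlam⟩ := Ideal.mem_span_range_iff_exists_fun.1 hspan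
  choose lam' hlam' using fun s => P.surj (lam s)
  let lamR : (Fin P.c → Fin P.n) → R := fun s => aeval a (lam' s)
  let ω : R := ∑ s, lamR s * (Matrix.of fun j i => Ja j (s i)).det
  have hω : ∃ u : R, ω = π * (1 + π ^ 3 * u) := by
    have h1 : Ideal.Quotient.mk (Ideal.span {π ^ 4}) ω = Ideal.Quotient.mk _ π := by
      have h2 := congrArg ρ hlam
      rw [map_sum, AlgHom.commutes, Ideal.Quotient.algebraMap_eq] at h2
      rw [← h2, map_sum]
      refine Finset.sum_congr rfl fun s _ => ?_
      rw [← hlam', ← map_mul P.hom, hρev, map_mul (aeval a), Smoothing.jacobianMinor, AlgHom.map_det]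
      rfl
    obtain ⟨u, hu⟩ := Ideal.mem_span_singleton'.1 (Ideal.Quotient.eq.1 h1)
    exact ⟨u, by linear_combination -hu⟩
  obtain ⟨u, hu⟩ := hω
  let sel : (Fin P.c → Fin P.n) → Matrix (Fin P.n) (Fin P.c) R :=
    fun s => Matrix.of fun k i => if s i = k then 1 else 0
  let N : Matrix (Fin P.n) (Fin P.c) R :=
    ∑ s, lamR s • (sel s * (Matrix.of fun j i => Ja j (s i)).adjugate)
  have hJN : Ja * N = ω • (1 : Matrix (Fin P.c) (Fin P.c) R) := by
    have h : ∀ s, Ja * sel s = Matrix.of fun j i => Ja j (s i) := fun s => by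
      ext j i
      rw [Matrix.mul_apply]
      simp [sel]
    simp only [N, Matrix.mul_sum, Matrix.mul_smul, ← Matrix.mul_assoc, h, Matrix.mul_adjugate, smul_smul,
      ← Finset.sum_smul]
    rfl
  let w : R := 1 + π ^ 3 * u
  let tt : Fin P.c → (MvPolynomial (Fin P.c ⊕ Fin P.n) R) := fun i => X (Sum.inl i)
  let zz : Fin P.n → (MvPolynomial (Fin P.c ⊕ Fin P.n) R) := fun k => X (Sum.inr k)
  let η : Fin P.n → (MvPolynomial (Fin P.c ⊕ Fin P.n) R) := fun k => ∑ i, algebraMap R (MvPolynomial (Fin P.c ⊕ Fin P.n) R) (N k i) * tt i + algebraMap R (MvPolynomial (Fin P.c ⊕ Fin P.n) R) π * zz k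
  let xs : Fin P.n → (MvPolynomial (Fin P.c ⊕ Fin P.n) R) := fun k => algebraMap R (MvPolynomial (Fin P.c ⊕ Fin P.n) R) (a k) + algebraMap R (MvPolynomial (Fin P.c ⊕ Fin P.n) R) (π ^ 2) * η k
  let sub : MvPolynomial (Fin P.n) R →ₐ[R] (MvPolynomial (Fin P.c ⊕ Fin P.n) R) := aeval xs
  choose q hq using fun j => exists_taylor a (π ^ 2) η (P.rel j)
  let G : Fin P.c → (MvPolynomial (Fin P.c ⊕ Fin P.n) R) := fun j => algebraMap R (MvPolynomial (Fin P.c ⊕ Fin P.n) R) w * tt j + ∑ k, algebraMap R (MvPolynomial (Fin P.c ⊕ Fin P.n) R) (Ja j k) * zz k +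
    algebraMap R (MvPolynomial (Fin P.c ⊕ Fin P.n) R) π * (algebraMap R (MvPolynomial (Fin P.c ⊕ Fin P.n) R) (c₀ (lead j)) + q (lead j))
  have hfG : ∀ j, sub (P.rel (lead j)) = algebraMap R (MvPolynomial (Fin P.c ⊕ Fin P.n) R) (π ^ 3) * G j := fun j => by
    have h1 : ∑ k, algebraMap R (MvPolynomial (Fin P.c ⊕ Fin P.n) R) (Ja j k) * η k =
        algebraMap R (MvPolynomial (Fin P.c ⊕ Fin P.n) R) ω * tt j + algebraMap R (MvPolynomial (Fin P.c ⊕ Fin P.n) R) π * ∑ k, algebraMap R (MvPolynomial (Fin P.c ⊕ Fin P.n) R) (Ja j k) * zz k := by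
      simp only [η, mul_add, Finset.sum_add_distrib]
      congr 1
      · simp only [Finset.mul_sum]
        rw [Finset.sum_comm]
        have h2 : ∀ i, ∑ k, Ja j k * N k i = if j = i then ω else 0 := fun i => by
          have := congrFun (congrFun hJN j) i
          rw [Matrix.mul_apply, Matrix.smul_apply, Matrix.one_apply] at this
          rw [this]; split_ifs <;> simp
        simp only [← mul_assoc, ← map_mul, ← Finset.sum_mul, ← map_sum, h2]
        rw [Finset.sum_eq_single j (fun i _ hi => by rw [if_neg (Ne.symm hi), map_zero, zero_mul]) (by simp),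
          if_pos rfl]
      · rw [Finset.mul_sum]
        exact Finset.sum_congr rfl fun k _ => by ring
    show aeval xs (P.rel (lead j)) = _
    rw [hq (lead j), show ∑ k, algebraMap R (MvPolynomial (Fin P.c ⊕ Fin P.n) R) (aeval a (pderiv k (P.rel (lead j)))) * η k = _ from h1,
      ← hc₀ (lead j), hu]
    simp only [G, w, map_mul, map_pow, map_add, map_one]
    ring
  have hfdiv : ∀ j, algebraMap R (MvPolynomial (Fin P.c ⊕ Fin P.n) R) (π ^ 2) ∣ sub (P.rel j) := fun j => by
    show _ ∣ aeval xs (P.rel j)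
    rw [hq j, ← hc₀ j]
    refine ⟨algebraMap R (MvPolynomial (Fin P.c ⊕ Fin P.n) R) (c₀ j * π ^ 2) + ∑ k, algebraMap R (MvPolynomial (Fin P.c ⊕ Fin P.n) R) (aeval a (pderiv k (P.rel j))) * η k +
      algebraMap R (MvPolynomial (Fin P.c ⊕ Fin P.n) R) (π ^ 2) * q j, ?_⟩
    simp only [map_mul, map_pow]
    ring
  -- the algebra
  let rels : Fin P.c ⊕ Fin P.m → (MvPolynomial (Fin P.c ⊕ Fin P.n) R) := Sum.elim G fun j => sub (P.rel j)
  let JB : Ideal (MvPolynomial (Fin P.c ⊕ Fin P.n) R) := Ideal.span (Set.range rels)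
  let B := (MvPolynomial (Fin P.c ⊕ Fin P.n) R) ⧸ JB
  haveI : Algebra.FinitePresentation R B := Algebra.FinitePresentation.quotient (Submodule.fg_span (Set.finite_range _))
  let vΛ : (Fin P.c ⊕ Fin P.n) → Λ := Sum.elim (fun _ => 0) fun k => algebraMap R Λ π * (-μ k)
  have hc : ∀ c : R, aeval vΛ (algebraMap R (MvPolynomial (Fin P.c ⊕ Fin P.n) R) c) = algebraMap R Λ c := fun c => (aeval vΛ).commutes c
  have hxsΛ : ∀ k, aeval vΛ (xs k) = φ (P.hom (X k)) := fun k => by
    simp only [xs, η, tt, zz, map_add, map_mul, map_sum, hc, aeval_X]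
    simp only [vΛ, Sum.elim_inl, Sum.elim_inr,
      mul_zero, Finset.sum_const_zero, zero_add, map_pow]
    rw [show φ (P.hom (X k)) = algebraMap R Λ (a k) - μ k * algebraMap R Λ (π ^ 4) by rw [hμ]; ring, map_pow]
    ring
  have hsubΛ : ∀ p, aeval vΛ (sub p) = φ (P.hom p) := fun p => by
    have : (aeval vΛ).comp sub = φ.comp P.hom := MvPolynomial.algHom_ext fun k => by
      show aeval vΛ (sub (X k)) = φ (P.hom (X k))
      rw [show sub (X k) = xs k from aeval_X _ k, hxsΛ]
    exact AlgHom.congr_fun this p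
  have hGΛ : ∀ j, aeval vΛ (G j) = 0 := fun j => by
    let Ssum : Λ := ∑ k, algebraMap R Λ (Ja j k) * (-μ k) + algebraMap R Λ (c₀ (lead j)) + aeval vΛ (q (lead j))
    have h1 : aeval vΛ (G j) = π • Ssum := by
      simp only [G, tt, zz, map_add, map_mul, map_sum, hc, aeval_X]
      simp only [vΛ, Sum.elim_inl, Sum.elim_inr,
        mul_zero, zero_add, Algebra.smul_def, Ssum, mul_add, Finset.mul_sum]
      rw [add_assoc]
      exact congrArg₂ (· + ·) (Finset.sum_congr rfl fun k _ => by ring) rfl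
    have h2 : π ^ 4 • Ssum = 0 := by
      have h3 := hsubΛ (P.rel (lead j))
      rw [hfG, map_mul, hc, h1, ← Algebra.smul_def, smul_smul, ← pow_succ, hrel0, map_zero] at h3
      exact h3
    have h4 : π ^ 2 • (π ^ 2 • Ssum) = 0 := by rw [smul_smul, ← pow_add]; exact h2
    have h5 := hΛ _ h4
    rw [smul_smul, ← pow_succ'] at h5
    have h6 : π ^ 2 • (π • Ssum) = 0 := by rw [smul_smul, ← pow_succ]; exact h5
    have h7 := hΛ _ h6
    rw [smul_smul, ← pow_two] at h7
    rw [h1]
    exact hΛ _ h7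
  let β : B →ₐ[R] Λ := Ideal.Quotient.liftₐ JB (aeval vΛ) fun x hx => RingHom.mem_ker.1 <| (Ideal.span_le.2
    (Set.range_subset_iff.2 fun i => RingHom.mem_ker.2 (by
      rcases i with j | j
      · exact hGΛ j
      · show aeval vΛ (sub (P.rel j)) = 0
        rw [hsubΛ, hrel0, map_zero]))) hx
  have hsubJ : ∀ j, sub (P.rel j) ∈ JB := fun j => Ideal.subset_span ⟨Sum.inr j, rfl⟩
  let α : A →ₐ[R] B := AlgHom.liftOfSurjective P.hom P.surj ((Ideal.Quotient.mkₐ R JB).comp sub) fun z hz => by
    refine RingHom.mem_ker.2 (Ideal.Quotient.eq_zero_iff_mem.2 ?_)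
    have h2 := Ideal.mem_map_of_mem sub.toRingHom (P.ker_eq ▸ hz : z ∈ Ideal.span (Set.range P.rel))
    rw [Ideal.map_span, ← Set.range_comp] at h2
    exact Ideal.span_le.2 (Set.range_subset_iff.2 hsubJ) h2
  refine ⟨B, inferInstance, inferInstance, inferInstance, α, β, AlgHom.ext fun x => ?_, fun r hr => ?_⟩
  · obtain ⟨p, rfl⟩ := P.surj x
    show β (α (P.hom p)) = φ (P.hom p)
    rw [show α (P.hom p) = Ideal.Quotient.mkₐ R JB (sub p) from AlgHom.liftOfSurjective_apply _ _ _ _ p]
    exact hsubΛ p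
  refine (PrimeSpectrum.mem_vanishingIdeal _ _).2 fun 𝔮 h𝔮 => ?_
  by_contra hrq
  refine h𝔮 ?_
  -- smoothness at a prime where `r` is invertible
  let Q : Ideal B := 𝔮.asIdeal
  let Qs : Ideal (MvPolynomial (Fin P.c ⊕ Fin P.n) R) := Q.comap (Ideal.Quotient.mk JB)
  haveI : Qs.IsPrime := Ideal.IsPrime.comap _
  have hrQs : algebraMap R (MvPolynomial (Fin P.c ⊕ Fin P.n) R) r ∉ Qs := hrq
  have hJQ : JB ≤ Qs := fun x hx => by
    show Ideal.Quotient.mk JB x ∈ Q
    rw [Ideal.Quotient.eq_zero_iff_mem.2 hx]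
    exact Q.zero_mem
  have hGJ : ∀ j, G j ∈ JB := fun j => Ideal.subset_span ⟨Sum.inl j, rfl⟩
  have hdet : ∃ cols : Fin P.c → (Fin P.c ⊕ Fin P.n),
      Matrix.det (Matrix.of fun i j => pderiv (cols j) (G i)) ∉ Qs := by
    by_cases hπQ : algebraMap R (MvPolynomial (Fin P.c ⊕ Fin P.n) R) π ∈ Qs
    · refine ⟨Sum.inl, fun hbad => ?_⟩
      let ι : (MvPolynomial (Fin P.c ⊕ Fin P.n) R) →+* (MvPolynomial (Fin P.c ⊕ Fin P.n) R) ⧸ Qs := Ideal.Quotient.mk Qs
      have hπ0 : ι (algebraMap R (MvPolynomial (Fin P.c ⊕ Fin P.n) R) π) = 0 := Ideal.Quotient.eq_zero_iff_mem.2 hπQ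
      have hentry : ι.mapMatrix (Matrix.of fun i j => pderiv (Sum.inl j) (G i)) = 1 := by
        ext i j
        show ι (pderiv (Sum.inl j) (G i)) = (1 : Matrix (Fin P.c) (Fin P.c) ((MvPolynomial (Fin P.c ⊕ Fin P.n) R) ⧸ Qs)) i j
        simp only [G, w, tt, zz, map_add, map_sum, pderiv_mul, algebraMap_eq, pderiv_C, zero_mul, zero_add,
          map_mul, map_zero, add_zero]
        rw [show ι (C π) = 0 from hπ0]
        simp only [zero_mul, add_zero, map_pow, map_one, show ι (C π) = 0 from hπ0, zero_pow three_ne_zero]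
        rw [Finset.sum_eq_zero (fun k _ => by
          rw [pderiv_X_of_ne Sum.inr_ne_inl, map_zero, mul_zero]), add_zero, one_mul, Matrix.one_apply]
        rcases eq_or_ne i j with rfl | hne
        · rw [pderiv_X_self, map_one, if_pos rfl, zero_add]
        · rw [pderiv_X_of_ne (fun h => hne (Sum.inl_injective h)), map_zero, if_neg hne, zero_add]
      have := congrArg Matrix.det hentry
      rw [← RingHom.map_det, Matrix.det_one, show ι _ = 0 from Ideal.Quotient.eq_zero_iff_mem.2 hbad] at this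
      exact one_ne_zero this.symm
    · obtain ⟨s, hs⟩ : ∃ s : Fin P.c → Fin P.n,
          sub (Smoothing.jacobianMinor P.rel lead s) ∉ Qs := by
        by_contra hall
        push Not at hall
        refine hπQ ?_
        have h1 : ∑ s, lam' s * Smoothing.jacobianMinor P.rel lead s - algebraMap R _ π ∈
            Ideal.span (Set.range P.rel) := by
          rw [← P.ker_eq]
          refine RingHom.mem_ker.2 ?_
          show P.hom _ = 0
          rw [map_sub, map_sum, AlgHom.commutes, sub_eq_zero, ← hlam]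
          exact Finset.sum_congr rfl fun s _ => by rw [map_mul, hlam']
        have h2 := Ideal.mem_map_of_mem sub.toRingHom h1
        rw [Ideal.map_span, ← Set.range_comp] at h2
        have h3 : sub (∑ s, lam' s * Smoothing.jacobianMinor P.rel lead s - algebraMap R _ π) ∈ Qs :=
          hJQ (Ideal.span_le.2 (Set.range_subset_iff.2 hsubJ) h2)
        rw [map_sub, AlgHom.commutes, map_sum] at h3
        exact (Qs.sub_mem_iff_right (Qs.sum_mem fun s _ => by
          rw [map_mul]; exact Qs.mul_mem_left _ (hall s))).1 h3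
      refine ⟨fun i => Sum.inr (s i), fun hbad => hs ?_⟩
      let ι : (MvPolynomial (Fin P.c ⊕ Fin P.n) R) →+* (MvPolynomial (Fin P.c ⊕ Fin P.n) R) ⧸ Qs := Ideal.Quotient.mk Qs
      have hentry : ∀ i k, algebraMap R (MvPolynomial (Fin P.c ⊕ Fin P.n) R) (π ^ 3) * pderiv (Sum.inr k) (G i) =
          algebraMap R (MvPolynomial (Fin P.c ⊕ Fin P.n) R) (π ^ 3) * sub (pderiv k (P.rel (lead i))) := fun i k => by
        have h1 : pderiv (Sum.inr k) (sub (P.rel (lead i))) =
            algebraMap R (MvPolynomial (Fin P.c ⊕ Fin P.n) R) (π ^ 3) * sub (pderiv k (P.rel (lead i))) := by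
          show ((pderiv (Sum.inr k : (Fin P.c ⊕ Fin P.n))).compAlgebraMap (MvPolynomial (Fin P.c ⊕ Fin P.n) R)) (sub (P.rel (lead i))) = _
          generalize P.rel (lead i) = p
          induction p using MvPolynomial.induction_on with
          | C r => simp [sub]
          | add p p' hp hp' => simp only [map_add, hp, hp', mul_add]
          | mul_X p l hp =>
            have hxs : pderiv (Sum.inr k : (Fin P.c ⊕ Fin P.n)) (xs l) = algebraMap R (MvPolynomial (Fin P.c ⊕ Fin P.n) R) (π ^ 3) * (if l = k then 1 else 0) := by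
              simp only [xs, η, tt, zz, map_add, map_sum, pderiv_mul, algebraMap_eq, pderiv_C, zero_mul, zero_add,
                pderiv_X_of_ne Sum.inl_ne_inr, mul_zero, Finset.sum_const_zero]
              rcases eq_or_ne l k with rfl | hne
              · rw [pderiv_X_self, if_pos rfl, mul_one, mul_one, ← map_mul, ← pow_succ]
              · rw [pderiv_X_of_ne (fun h => hne (Sum.inr_injective h)), if_neg hne, mul_zero, mul_zero, mul_zero]
            simp only [Derivation.compAlgebraMap_apply, Algebra.algebraMap_self, RingHom.id_apply] at hp ⊢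
            rw [map_mul, show sub (X l) = xs l from aeval_X _ l, pderiv_mul, hp, hxs, pderiv_mul,
              map_add, map_mul, map_mul, show sub (X l) = xs l from aeval_X _ l]
            rcases eq_or_ne l k with rfl | hne
            · rw [if_pos rfl, pderiv_X_self, map_one]; ring
            · rw [if_neg hne, pderiv_X_of_ne hne, map_zero]; ring
        rw [← h1, hfG, algebraMap_eq, pderiv_C_mul]
      have hπne : ι (algebraMap R (MvPolynomial (Fin P.c ⊕ Fin P.n) R) (π ^ 3)) ≠ 0 := fun h => hπQ (‹Qs.IsPrime›.mem_of_pow_mem 3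
        (map_pow (algebraMap R (MvPolynomial (Fin P.c ⊕ Fin P.n) R)) π 3 ▸ Ideal.Quotient.eq_zero_iff_mem.1 h))
      have e : ι.mapMatrix (Matrix.of fun i j => pderiv (Sum.inr (s j) : (Fin P.c ⊕ Fin P.n)) (G i)) =
          ι.mapMatrix (sub.toRingHom.mapMatrix (Matrix.of fun i j => pderiv (s j) (P.rel (lead i)))) := by
        ext i j
        refine mul_left_cancel₀ hπne ?_
        show ι _ * ι (pderiv _ (G i)) = ι _ * ι (sub _)
        rw [← map_mul, ← map_mul, hentry]
        rfl
      have h2 := congrArg Matrix.det e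
      rw [← RingHom.map_det, ← RingHom.map_det, ← RingHom.map_det,
        show ι _ = 0 from Ideal.Quotient.eq_zero_iff_mem.2 hbad] at h2
      exact Ideal.Quotient.eq_zero_iff_mem.1 h2.symm
  obtain ⟨cols, hdet⟩ := hdet
  let IG : Ideal (MvPolynomial (Fin P.c ⊕ Fin P.n) R) := Ideal.span (Set.range G)
  have hIGJ : IG ≤ JB := Ideal.span_le.2 (Set.range_subset_iff.2 hGJ)
  let Cq := (MvPolynomial (Fin P.c ⊕ Fin P.n) R) ⧸ IG
  let Qc : Ideal Cq := Qs.map (Ideal.Quotient.mk IG)
  have hQc : Qc.comap (Ideal.Quotient.mk IG) = Qs := by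
    rw [Ideal.comap_map_of_surjective _ Ideal.Quotient.mk_surjective, ← RingHom.ker_eq_comap_bot, Ideal.mk_ker]
    exact sup_eq_left.2 (hIGJ.trans hJQ)
  haveI : Qc.IsPrime := Ideal.map_isPrime_of_surjective Ideal.Quotient.mk_surjective
    (by rw [Ideal.mk_ker]; exact hIGJ.trans hJQ)
  have hQc' : ∀ x, Ideal.Quotient.mk IG x ∈ Qc ↔ x ∈ Qs := fun x => by
    rw [← hQc]; rfl
  haveI : Algebra.FinitePresentation R Cq :=
    Algebra.FinitePresentation.quotient (Submodule.fg_span (Set.finite_range _))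
  haveI hsmC : Algebra.IsSmoothAt R Qc :=
    (LeftInv.formallySmooth_localization_iff_jacobian (A := R) (B := (MvPolynomial (Fin P.c ⊕ Fin P.n) R)) Ideal.Quotient.mk_surjective Qc).2
      ⟨P.c, G, fun j => pderiv (cols j), fun i => RingHom.mem_ker.2
        (Ideal.Quotient.eq_zero_iff_mem.2 (Ideal.subset_span ⟨i, rfl⟩)),
        fun x hx => ⟨1, by rw [map_one]; exact Qc.primeCompl.one_mem,
          by rw [one_mul]; exact Ideal.Quotient.eq_zero_iff_mem.1 (RingHom.mem_ker.1 hx)⟩,
        fun h => hdet ((hQc' _).1 h)⟩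
  let L := Localization.AtPrime Qc
  let ιL : (MvPolynomial (Fin P.c ⊕ Fin P.n) R) →+* L := (algebraMap Cq L).comp (Ideal.Quotient.mk IG)
  have hιR : ∀ c, ιL (algebraMap R (MvPolynomial (Fin P.c ⊕ Fin P.n) R) c) = algebraMap R L c := fun c => by
    rw [IsScalarTower.algebraMap_apply R Cq L]; rfl
  let K : Ideal L := Ideal.span (Set.range fun j => ιL (sub (P.rel j)))
  have hKfg : K.FG := Submodule.fg_span (Set.finite_range _)
  let πL := algebraMap R L π
  have hπK : Ideal.span {πL} * K ≤ K ^ 2 := by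
    rw [Ideal.span_mul_span', Ideal.span_le]
    rintro _ ⟨_, rfl, _, ⟨j, rfl⟩, rfl⟩
    show algebraMap R L π * ιL (sub (P.rel j)) ∈ K ^ 2
    by_cases hj : (j : ℕ) < P.c
    · have h0 : ιL (sub (P.rel j)) = 0 := by
        rw [show j = lead ⟨j, hj⟩ from rfl, hfG, map_mul,
          show ιL (G _) = 0 by
            show algebraMap Cq L (Ideal.Quotient.mk IG _) = 0
            rw [Ideal.Quotient.eq_zero_iff_mem.2 (Ideal.subset_span (Set.mem_range_self _) : _ ∈ IG), map_zero], mul_zero]
      rw [h0, mul_zero]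
      exact Submodule.zero_mem _
    · have h1 := Ideal.mem_map_of_mem (ιL.comp sub.toRingHom)
        (hkill (algebraMap R _ π) (P.hom.commutes π) j (Nat.le_of_not_lt hj))
      rw [Ideal.map_sup, Ideal.map_pow, Ideal.map_span, Ideal.map_span, ← Set.range_comp] at h1
      rw [map_mul, show (ιL.comp sub.toRingHom) (algebraMap R _ π) = algebraMap R L π by
        show ιL (sub (algebraMap R _ π)) = _
        rw [sub.commutes, hιR]] at h1
      refine (sup_le (Ideal.span_le.2 ?_) le_rfl : _ ⊔ K ^ 2 ≤ K ^ 2) h1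
      rintro _ ⟨_, ⟨j', hj', rfl⟩, rfl⟩
      show ιL (sub (P.rel j')) ∈ K ^ 2
      rw [show j' = lead ⟨j', hj'⟩ from rfl, hfG, map_mul,
        show ιL (G _) = 0 by
          show algebraMap Cq L (Ideal.Quotient.mk IG _) = 0
          rw [Ideal.Quotient.eq_zero_iff_mem.2 (Ideal.subset_span (Set.mem_range_self _) : _ ∈ IG), map_zero], mul_zero]
      exact Submodule.zero_mem _
  have hKm : K ≤ maximalIdeal L := by
    rw [Ideal.span_le, ← Localization.AtPrime.map_eq_maximalIdeal]
    rintro _ ⟨j, rfl⟩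
    exact Ideal.mem_map_of_mem _ ((hQc' _).2 (hJQ (hsubJ j)))
  have hrL : IsUnit (algebraMap R L r) := by
    rw [← hιR]
    exact IsLocalization.map_units L (⟨_, fun h => hrQs ((hQc' _).1 h)⟩ : Qc.primeCompl)
  have hK0 : K = ⊥ := by
    by_cases hπQ : algebraMap R (MvPolynomial (Fin P.c ⊕ Fin P.n) R) π ∈ Qs
    · have hπm : Ideal.span {πL} ≤ maximalIdeal L := (Ideal.span_singleton_le_iff_mem (I := maximalIdeal L)).2 (by
        show algebraMap R L π ∈ maximalIdeal L
        rw [← hιR, ← Localization.AtPrime.map_eq_maximalIdeal]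
        exact Ideal.mem_map_of_mem _ ((hQc' _).2 hπQ))
      have hKdiv : K ≤ Ideal.span {πL ^ 2} := Ideal.span_le.2 (Set.range_subset_iff.2 fun j => by
        obtain ⟨x, hx⟩ := hfdiv j
        rw [SetLike.mem_coe, Ideal.mem_span_singleton, hx, map_mul, hιR, map_pow]
        exact dvd_mul_right _ _)
      have hM0 : Ideal.span {πL} * K = ⊥ := by
        let M₀ : Ideal L := Ideal.span {πL} * K
        have hM₀fg : M₀.FG := Submodule.FG.mul (Submodule.fg_span_singleton (R := L) πL) hKfg
        refine @eq_bot_of_le_maximalIdeal_mul L _ _ M₀ hM₀fg ?_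
        refine hπK.trans ?_
        rw [pow_two]
        calc K * K ≤ Ideal.span {πL ^ 2} * K := Ideal.mul_mono hKdiv le_rfl
          _ = Ideal.span {πL} * (Ideal.span {πL} * K) := by
            rw [← mul_assoc, Ideal.span_singleton_mul_span_singleton, pow_two]
          _ ≤ maximalIdeal L * (Ideal.span {πL} * K) := Ideal.mul_mono hπm le_rfl
      haveI : Module.Flat R L := by
        obtain ⟨t, ht, hts⟩ := Algebra.IsSmoothAt.exists_notMem_smooth (R := R) Qc
        haveI := hts
        letI : Algebra (Localization.Away t) L := (IsLocalization.lift (M := Submonoid.powers t)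
          (S := Localization.Away t) (g := algebraMap Cq L) fun y => IsLocalization.map_units L
            (⟨(y : Cq), fun h => by
              obtain ⟨k, hk⟩ := y.2
              rw [← hk] at h
              exact ht (‹Qc.IsPrime›.mem_of_pow_mem k h)⟩ : Qc.primeCompl)).toAlgebra
        haveI : IsScalarTower Cq (Localization.Away t) L :=
          IsScalarTower.of_algebraMap_eq (R := Cq) (S := Localization.Away t) (A := L) fun x => (IsLocalization.lift_eq _ x).symm
        haveI : IsScalarTower R (Localization.Away t) L := IsScalarTower.to₁₃₄ R Cq _ L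
        haveI : IsLocalization (Submonoid.map (algebraMap Cq (Localization.Away t)) Qc.primeCompl) L :=
          IsLocalization.isLocalization_of_submonoid_le (Localization.Away t) L (Submonoid.powers t) Qc.primeCompl
            (Submonoid.powers_le.2 ht)
        haveI : Module.Flat (Localization.Away t) L := IsLocalization.flat _
          (Submonoid.map (algebraMap Cq (Localization.Away t)) Qc.primeCompl)
        exact Module.Flat.trans R (Localization.Away t) L
      rw [eq_bot_iff]
      refine Ideal.span_le.2 (Set.range_subset_iff.2 fun j => ?_)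
      obtain ⟨x, hx⟩ := hfdiv j
      have hg : ιL (sub (P.rel j)) = algebraMap R L (π ^ 2) * ιL x := by rw [hx, map_mul, hιR]
      have h3 : (π ^ 3) • ιL x = 0 := by
        have : πL * ιL (sub (P.rel j)) ∈ Ideal.span {πL} * K :=
          Ideal.mul_mem_mul (Ideal.mem_span_singleton_self _) (Ideal.subset_span ⟨j, rfl⟩)
        rw [hM0, Ideal.mem_bot, hg, ← mul_assoc, ← map_mul, ← pow_succ'] at this
        rwa [Algebra.smul_def]
      obtain ⟨k, av, yv, hxv, hav⟩ := Module.Flat.isTrivialRelation_of_sum_smul_eq_zero (R := R) (M := L)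
        (ι := Unit) (f := fun _ => π ^ 3) (x := fun _ => ιL x) (by simpa using h3)
      have h4 : algebraMap R L r * (algebraMap R L (π ^ 2) * ιL x) = 0 := by
        rw [show ιL x = ∑ l, av () l • yv l from hxv (), Finset.mul_sum, Finset.mul_sum]
        refine Finset.sum_eq_zero fun l _ => ?_
        have h5 : π ^ 2 * (π * av () l) = 0 := by
          have := hav l
          simp only [Finset.univ_unique, Finset.sum_singleton] at this
          rw [← mul_assoc, ← pow_succ]; exact this
        have h6 : r * π ^ 2 * av () l = 0 := by linear_combination hr _ h5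
        rw [Algebra.smul_def, ← mul_assoc, ← mul_assoc, ← map_mul, ← map_mul, h6, map_zero, zero_mul]
      rw [SetLike.mem_coe, Ideal.mem_bot, hg]
      exact hrL.mul_right_eq_zero.1 h4
    · have hu : IsUnit πL := by
        show IsUnit (algebraMap R L π)
        rw [← hιR]
        exact IsLocalization.map_units L (⟨_, fun h => hπQ ((hQc' _).1 h)⟩ : Qc.primeCompl)
      refine @eq_bot_of_le_maximalIdeal_mul L _ _ K hKfg ?_
      intro x hx
      refine Ideal.mul_mono hKm le_rfl ?_
      rw [← pow_two]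
      have := hπK (Ideal.mul_mem_mul (Ideal.mem_span_singleton_self πL) hx)
      exact (Ideal.unit_mul_mem_iff_mem _ hu).1 this
  show Algebra.FormallySmooth R (Localization.AtPrime Q)
  refine (LeftInv.formallySmooth_localization_iff_jacobian (A := R) (B := (MvPolynomial (Fin P.c ⊕ Fin P.n) R)) Ideal.Quotient.mk_surjective Q).2
    ⟨P.c, G, fun j => pderiv (cols j), fun i => RingHom.mem_ker.2 (Ideal.Quotient.eq_zero_iff_mem.2 (hGJ i)),
      fun x hx => ?_, hdet⟩
  have hx' : ιL x = 0 := by
    have h1 := Ideal.mem_map_of_mem ιL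
      (Ideal.Quotient.eq_zero_iff_mem.1 (RingHom.mem_ker.1 hx) : x ∈ JB)
    rw [Ideal.map_span] at h1
    refine (Ideal.mem_bot).1 ((Ideal.span_le.2 ?_ : _ ≤ (⊥ : Ideal L)) h1)
    rintro _ ⟨_, ⟨i | j, rfl⟩, rfl⟩
    · show ιL (G i) ∈ (⊥ : Ideal L)
      rw [Ideal.mem_bot]
      show algebraMap Cq L (Ideal.Quotient.mk IG _) = 0
      rw [Ideal.Quotient.eq_zero_iff_mem.2 (Ideal.subset_span (Set.mem_range_self _) : _ ∈ IG), map_zero]
    · show ιL (sub (P.rel j)) ∈ (⊥ : Ideal L)
      rw [← hK0]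
      exact Ideal.subset_span ⟨j, rfl⟩
  obtain ⟨⟨z, hz⟩, hzx⟩ := (IsLocalization.map_eq_zero_iff Qc.primeCompl L _).1 hx'
  obtain ⟨z, rfl⟩ := Ideal.Quotient.mk_surjective z
  exact ⟨z, fun h => hz ((hQc' z).2 h), Ideal.Quotient.eq_zero_iff_mem.1 ((map_mul _ z x).trans hzx)⟩

end Groth.Agent.Lib.SmoothingH7
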