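import Groth.Agent.Lib.SmoothingH7.SepField
import Groth.Agent.Lib.SmoothingH7.NilpInd
import Groth.Agent.Lib.Miracle4
import Groth.Agent.Lib.CI2.Smooth
import Groth.Agent.Lib.Depth.CM
import Mathlib.RingTheory.RegularLocalRing.Defs
import Mathlib.RingTheory.Ideal.Height

/-!
A regular local `k`-algebra with separable residue field, modulo powers of parameters, is ind-smooth
over the corresponding quotient of a polynomial ring.
-/

set_option autoImplicit false

universe u

open MvPolynomial IsLocalRing

namespace Groth.Agent.Lib.SmoothingH7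

variable {k : Type u} [Field k] {d : ℕ}

/-- The ideal of the origin. -/
noncomputable abbrev origin (k : Type u) [Field k] (d : ℕ) : Ideal (MvPolynomial (Fin d) k) :=
  RingHom.ker (constantCoeff (σ := Fin d) (R := k))

theorem origin_isMaximal : (origin k d).IsMaximal :=
  RingHom.ker_isMaximal_of_surjective _ fun x => ⟨C x, constantCoeff_C _ x⟩

theorem origin_eq_span : origin k d = Ideal.span (Set.range (X : Fin d → MvPolynomial (Fin d) k)) := by
  refine le_antisymm (fun p hp => ?_) (Ideal.span_le.2 ?_)
  · rw [← Set.image_univ, mem_ideal_span_X_image]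
    intro m hm
    obtain ⟨i, hi⟩ : ∃ i, m i ≠ 0 := by
      by_contra hc
      simp only [not_exists, not_not] at hc
      rw [show m = 0 from Finsupp.ext hc, mem_support_iff] at hm
      exact hm hp
    exact ⟨i, trivial, hi⟩
  · rintro _ ⟨i, rfl⟩
    exact constantCoeff_X _ i

variable {L : Type u} [CommRing L] [IsRegularLocalRing L] [Algebra k L] [Algebra (MvPolynomial (Fin d) k) L]
  [IsScalarTower k (MvPolynomial (Fin d) k) L]

theorem map_origin (h : Ideal.span (Set.range fun i : Fin d => algebraMap (MvPolynomial (Fin d) k) L (X i)) =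
    maximalIdeal L) : (origin k d).map (algebraMap (MvPolynomial (Fin d) k) L) = maximalIdeal L := by
  rw [origin_eq_span, Ideal.map_span, ← Set.range_comp]
  exact h

/-- Polynomial parameters make a regular local ring flat. -/
theorem flat_of_parameters (hd : ringKrullDim L = d)
    (h : Ideal.span (Set.range fun i : Fin d => algebraMap (MvPolynomial (Fin d) k) L (X i)) = maximalIdeal L) :
    Module.Flat (MvPolynomial (Fin d) k) L := by
  classical
  let R := MvPolynomial (Fin d) k
  let m := origin k d
  haveI hmax : m.IsMaximal := origin_isMaximal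
  have hcomap : (maximalIdeal L).comap (algebraMap R L) = m := by
    refine (hmax.eq_of_le (Ideal.comap_ne_top _ (maximalIdeal.isMaximal L).ne_top) ?_).symm
    rw [← Ideal.map_le_iff_le_comap, map_origin h]
  let A := Localization.AtPrime m
  letI : Algebra A L := (IsLocalization.lift (M := m.primeCompl) (S := A) (g := algebraMap R L) fun y => by
    by_contra hy
    exact y.2 (hcomap.le (show (y : R) ∈ (maximalIdeal L).comap (algebraMap R L) from hy))).toAlgebra
  haveI : IsScalarTower R A L := IsScalarTower.of_algebraMap_eq fun r => (IsLocalization.lift_eq _ r).symm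
  have hmapA : (maximalIdeal A).map (algebraMap A L) = maximalIdeal L := by
    rw [← IsLocalization.AtPrime.map_eq_maximalIdeal m A, Ideal.map_map, ← IsScalarTower.algebraMap_eq,
      map_origin h]
  haveI : IsLocalHom (algebraMap A L) := ⟨fun a ha => by
    by_contra hna
    exact (maximalIdeal.isMaximal L).ne_top (Ideal.eq_top_of_isUnit_mem _
      (hmapA ▸ Ideal.mem_map_of_mem _ (show a ∈ maximalIdeal A from hna)) ha)⟩
  have hdimA : ringKrullDim A = d := by
    rw [IsLocalization.AtPrime.ringKrullDim_eq_height m A, Groth.Agent.CI2.height_maximal_mvPolynomial m]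
    rfl
  haveI : IsNoetherianRing A := IsLocalization.isNoetherianRing m.primeCompl A inferInstance
  haveI : IsRegularLocalRing A := IsRegularLocalRing.of_spanFinrank_maximalIdeal_le (R := A) (by
    rw [hdimA, ← IsLocalization.AtPrime.map_eq_maximalIdeal m A]
    have hspan : m.map (algebraMap R A) = Ideal.span (Set.range fun i => algebraMap R A (X i)) := by
      refine (congrArg (Ideal.map (algebraMap R A)) origin_eq_span).trans ?_
      rw [Ideal.map_span, ← Set.range_comp]; rfl
    rw [hspan]
    exact_mod_cast (Submodule.spanFinrank_span_le_ncard_of_finite (Set.finite_range _)).trans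
      (by rw [← Set.image_univ]; exact (Set.ncard_image_le (Set.toFinite _)).trans_eq (by simp)))
  haveI : LocCoh.IsCohenMacaulayLocalRing L := Groth.Agent.DepthLib.isCohenMacaulayLocalRing_of_isRegularLocalRing
  haveI : Module.Flat A L := Groth.Agent.Miracle4.flat_of_ringKrullDim_eq (by
    rw [hmapA, hdimA, hd, ringKrullDim_eq_zero_of_isField
      ((Ideal.Quotient.maximal_ideal_iff_isField_quotient _).1 (maximalIdeal.isMaximal L)), add_zero])
  haveI : Module.Flat R A := IsLocalization.flat A m.primeCompl
  exact Module.Flat.trans R A L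

/-- Powers of parameters give an ind-smooth quotient. -/
theorem indSmooth_quotient (hd : ringKrullDim L = d)
    (h : Ideal.span (Set.range fun i : Fin d => algebraMap (MvPolynomial (Fin d) k) L (X i)) = maximalIdeal L)
    [Algebra.IsGeometricallyReduced k (L ⧸ maximalIdeal L)]
    (K : Ideal (MvPolynomial (Fin d) k)) (hK : K ≤ origin k d) (hKpow : ∀ i, ∃ n : ℕ, (X i : MvPolynomial (Fin d) k) ^ n ∈ K) :
    Smoothing.IndSmooth (MvPolynomial (Fin d) k ⧸ K) (L ⧸ K.map (algebraMap (MvPolynomial (Fin d) k) L)) := by
  classical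
  let R := MvPolynomial (Fin d) k
  haveI := flat_of_parameters hd h
  haveI : Module.Flat (R ⧸ K) (L ⧸ K.map (algebraMap R L)) := flat_quotient_map K
  let I : Ideal (R ⧸ K) := (origin k d).map (Ideal.Quotient.mk K)
  have hI : IsNilpotent I := by
    refine (Ideal.FG.isNilpotent_iff_le_nilradical (Ideal.FG.map (IsNoetherian.noetherian (origin k d)) _)).2 ?_
    show (origin k d).map (Ideal.Quotient.mk K) ≤ _
    rw [origin_eq_span, Ideal.map_span, Ideal.span_le]
    rintro _ ⟨_, ⟨i, rfl⟩, rfl⟩
    obtain ⟨n, hn⟩ := hKpow i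
    exact ⟨n, by rw [← map_pow]; exact Ideal.Quotient.eq_zero_iff_mem.2 hn⟩
  refine indSmooth_of_nilpotent I hI ?_
  let e₁ : k →+* (R ⧸ K) ⧸ I := (algebraMap k ((R ⧸ K) ⧸ I))
  have he₁ : Function.Bijective e₁ := by
    have hbij : Function.Bijective (DoubleQuot.quotQuotEquivQuotOfLE hK ∘ e₁) := by
      refine ⟨?_, fun y => ?_⟩
      · haveI : Nontrivial (R ⧸ origin k d) := Ideal.Quotient.nontrivial_iff.2 origin_isMaximal.ne_top
        exact ((DoubleQuot.quotQuotEquivQuotOfLE hK).toRingHom.comp e₁).injective
      · obtain ⟨p, rfl⟩ := Ideal.Quotient.mk_surjective y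
        refine ⟨constantCoeff p, Ideal.Quotient.eq.2 ?_⟩
        show C (constantCoeff p) - p ∈ origin k d
        rw [RingHom.mem_ker, map_sub, constantCoeff_C, sub_self]
    exact ((DoubleQuot.quotQuotEquivQuotOfLE hK).bijective.of_comp_iff' e₁).1 hbij
  have hKm : K.map (algebraMap R L) ≤ maximalIdeal L := (Ideal.map_mono hK).trans (map_origin h).le
  let eΛ : (L ⧸ maximalIdeal L) ≃+* (L ⧸ K.map (algebraMap R L)) ⧸ I.map (algebraMap (R ⧸ K) (L ⧸ K.map (algebraMap R L))) :=
    (DoubleQuot.quotQuotEquivQuotOfLE hKm).symm.trans (Ideal.quotEquivOfEq (by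
      rw [← map_origin h, Ideal.map_map, Ideal.map_map]
      rfl))
  letI : Field (L ⧸ maximalIdeal L) := Ideal.Quotient.field _
  refine indSmooth_of_equiv (RingEquiv.ofBijective e₁ he₁) eΛ (fun c => ?_)
    (indSmooth_of_geometricallyReduced_field k (L ⧸ maximalIdeal L))
  show eΛ (Ideal.Quotient.mk _ (algebraMap k L c)) = Ideal.Quotient.mk _ (Ideal.Quotient.mk _ (algebraMap R L (C c)))
  rw [show algebraMap R L (C c) = algebraMap k L c from (IsScalarTower.algebraMap_apply k R L c).symm]
  rfl

end Groth.Agent.Lib.SmoothingH7
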