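import Groth.Prelude.Def_Smoothing
import Groth.Agent.Lib.SmoothLiftH7.Main
import Mathlib.RingTheory.Flat.EquationalCriterion

/-! Lifting factorizations through smooth algebras along a square-zero ideal. -/

set_option autoImplicit false

universe u

open MvPolynomial

namespace Groth.Agent.Lib.SmoothingH7

variable {R Λ : Type u} [CommRing R] [CommRing Λ] [Algebra R Λ]

theorem pow_two_map_eq_bot (I : Ideal R) (hI : I ^ 2 = ⊥) (B : Type u) [CommRing B] [Algebra R B] :
    I.map (algebraMap R B) ^ 2 = ⊥ := by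
  rw [← Ideal.map_pow, hI, Ideal.map_bot]

theorem mul_eq_zero_of_mem (I : Ideal R) (hI : I ^ 2 = ⊥) {B : Type u} [CommRing B] [Algebra R B] {x y : B}
    (hx : x ∈ I.map (algebraMap R B)) (hy : y ∈ I.map (algebraMap R B)) : x * y = 0 := by
  rw [← Ideal.mem_bot, ← pow_two_map_eq_bot I hI B, pow_two]
  exact Ideal.mul_mem_mul hx hy

theorem exists_sum_of_mem (I : Ideal R) {B : Type u} [CommRing B] [Algebra R B] {x : B}
    (hx : x ∈ I.map (algebraMap R B)) :
    ∃ (N : ℕ) (r : Fin N → R) (b : Fin N → B), (∀ t, r t ∈ I) ∧ x = ∑ t, algebraMap R B (r t) * b t := by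
  obtain ⟨N, b, g, hg⟩ := (Submodule.mem_span_set' (R := B) (s := algebraMap R B '' (I : Set R))).1 hx
  choose r hr hrg using fun t => (g t).2
  refine ⟨N, r, b, hr, ?_⟩
  rw [← hg]
  exact Finset.sum_congr rfl fun t _ => by rw [smul_eq_mul, hrg, mul_comm]

/-- A finitely presented algebra over `R ⧸ I` mapping to `Λ / IΛ` maps into the reduction of a smooth
`R`-algebra over `Λ`. -/
theorem exists_smooth_over (I : Ideal R) (hI : I ^ 2 = ⊥)
    (h : Smoothing.IndSmooth (R ⧸ I) (Λ ⧸ I.map (algebraMap R Λ))) {n : ℕ} {ν : Type u}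
    (rel : ν → MvPolynomial (Fin n) R) [Finite ν] (v : Fin n → Λ)
    (hv : ∀ j, aeval v (rel j) ∈ I.map (algebraMap R Λ)) :
    ∃ (B : Type u) (_ : CommRing B) (_ : Algebra R B), Algebra.Smooth R B ∧ ∃ (β : B →ₐ[R] Λ) (b : Fin n → B),
      (∀ k, β (b k) - v k ∈ I.map (algebraMap R Λ)) ∧ ∀ j, aeval b (rel j) ∈ I.map (algebraMap R B) := by
  classical
  haveI := Fintype.ofFinite ν
  let P := MvPolynomial (Fin n) (R ⧸ I)
  let red : MvPolynomial (Fin n) R →+* P := MvPolynomial.map (Ideal.Quotient.mk I)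
  let K : Ideal P := Ideal.span (Set.range fun j => red (rel j))
  let Cq := P ⧸ K
  haveI : Algebra.FinitePresentation (R ⧸ I) Cq :=
    Algebra.FinitePresentation.quotient (Submodule.fg_span (Set.finite_range _))
  let v' : Fin n → Λ ⧸ I.map (algebraMap R Λ) := fun k => Ideal.Quotient.mk _ (v k)
  have hred : ∀ p, aeval v' (red p) = Ideal.Quotient.mk _ (aeval v p) := fun p => by
    induction p using MvPolynomial.induction_on with
    | C r =>
      rw [show red (C r) = C (Ideal.Quotient.mk I r) from map_C _ _, aeval_C, aeval_C]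
      rfl
    | add p q hp hq => simp only [map_add, hp, hq]
    | mul_X p k hp =>
      rw [map_mul, map_mul, hp, show red (X k) = X k from map_X _ k, aeval_X, map_mul, map_mul, aeval_X]
  have hK : ∀ x ∈ K, aeval v' x = 0 := fun x hx => RingHom.mem_ker.1 <| (Ideal.span_le.2 (Set.range_subset_iff.2
    fun j => RingHom.mem_ker.2 (by
      show aeval v' (red (rel j)) = 0
      rw [hred, Ideal.Quotient.eq_zero_iff_mem]; exact hv j))) hx
  let g : Cq →ₐ[R ⧸ I] Λ ⧸ I.map (algebraMap R Λ) := Ideal.Quotient.liftₐ K (aeval v') hK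
  obtain ⟨C', _, _, hC', gC, hC'Λ, hcomp⟩ := h Cq inferInstance g
  haveI := hC'
  obtain ⟨B, _, _, hB, ⟨e⟩⟩ := SmoothLiftH7.exists_smooth_lift_quotient (A₀ := C') I
  haveI := hB
  let π : B →ₐ[R] Λ ⧸ I.map (algebraMap R Λ) :=
    { ((hC'Λ.toRingHom.comp e.toAlgHom.toRingHom).comp (Ideal.Quotient.mk _)) with
      commutes' := fun r => by
        show hC'Λ (e (algebraMap (R ⧸ I) (B ⧸ I.map (algebraMap R B)) (Ideal.Quotient.mk I r))) = _
        rw [e.commutes, hC'Λ.commutes]
        rfl }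
  let β : B →ₐ[R] Λ := Algebra.FormallySmooth.lift _ ⟨2, pow_two_map_eq_bot I hI Λ⟩ π
  have hβ : ∀ y, Ideal.Quotient.mk _ (β y) = π y := Algebra.FormallySmooth.mk_lift _ _ π
  choose b hb using fun k => Ideal.Quotient.mk_surjective (e.symm (gC (Ideal.Quotient.mk K (X k))))
  refine ⟨B, inferInstance, inferInstance, hB, β, b, fun k => ?_, fun j => ?_⟩
  · rw [← Ideal.Quotient.eq, hβ]
    show hC'Λ (e (Ideal.Quotient.mk _ (b k))) = _
    rw [hb, e.apply_symm_apply, show hC'Λ (gC _) = g _ from AlgHom.congr_fun hcomp _]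
    exact aeval_X v' k
  · rw [← Ideal.Quotient.eq_zero_iff_mem]
    have h1 : ∀ p, Ideal.Quotient.mk (I.map (algebraMap R B)) (aeval b p) =
        e.symm (gC (Ideal.Quotient.mk K (red p))) := fun p => by
      induction p using MvPolynomial.induction_on with
      | C r =>
        rw [show red (C r) = algebraMap (R ⧸ I) P (Ideal.Quotient.mk I r) from map_C _ _, aeval_C]
        show _ = e.symm (gC (algebraMap (R ⧸ I) Cq (Ideal.Quotient.mk I r)))
        rw [gC.commutes, e.symm.commutes]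
        rfl
      | add p q hp hq => simp only [map_add, hp, hq]
      | mul_X p k hp => rw [map_mul, map_mul, hp, aeval_X, hb, map_mul, show red (X k) = X k from map_X _ k, map_mul, map_mul, map_mul]
    rw [h1, show Ideal.Quotient.mk K (red (rel j)) = 0 from
      Ideal.Quotient.eq_zero_iff_mem.2 (Ideal.subset_span ⟨j, rfl⟩), map_zero, map_zero]

/-- Lift once. -/
theorem lift_once (I : Ideal R) (hI : I ^ 2 = ⊥)
    (h : Smoothing.IndSmooth (R ⧸ I) (Λ ⧸ I.map (algebraMap R Λ)))
    {A : Type u} [CommRing A] [Algebra R A] [Algebra.FinitePresentation R A] (φ : A →ₐ[R] Λ) :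
    ∃ (B : Type u) (_ : CommRing B) (_ : Algebra R B), Algebra.Smooth R B ∧
      ∃ J : Ideal B, J ≤ I.map (algebraMap R B) ∧ J.FG ∧
        ∃ (g : A →ₐ[R] B ⧸ J) (k : (B ⧸ J) →ₐ[R] Λ), k.comp g = φ := by
  classical
  obtain ⟨n, q, hq, hfg⟩ := Algebra.FinitePresentation.out (R := R) (A := A)
  obtain ⟨m, rel, hrel⟩ := Submodule.fg_iff_exists_fin_generating_family.mp hfg
  let v : Fin n → Λ := fun k => φ (q (X k))
  have hqv : ∀ p, aeval v p = φ (q p) := fun p => by
    rw [show (φ (q p)) = φ.comp q p from rfl, aeval_unique (φ.comp q)]; rfl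
  have hker : ∀ p, q p = 0 ↔ p ∈ Ideal.span (Set.range rel) := fun p => by
    rw [Ideal.span, hrel]; exact RingHom.mem_ker.symm
  obtain ⟨B, _, _, hB, β, b, hβb, hb⟩ := exists_smooth_over I hI h (ν := ULift.{u} (Fin m)) (fun j => rel j.down) v
    (fun j => by rw [hqv, (hker _).2 (Ideal.subset_span ⟨_, rfl⟩), map_zero]; exact Submodule.zero_mem _)
  haveI := hB
  choose N r lam hr hlam using fun k => exists_sum_of_mem I (hβb k)
  let σ := Σ k : Fin n, Fin (N k)
  let B' := MvPolynomial σ B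
  haveI : Algebra.Smooth B B' := ⟨inferInstance, inferInstance⟩
  haveI : Algebra.Smooth R B' := Algebra.Smooth.comp R B B'
  let b' : Fin n → B' := fun k => C (b k) - ∑ t, algebraMap R B' (r k t) * X ⟨k, t⟩
  let β₁ : B' →ₐ[R] Λ := aevalTower β fun s : σ => lam s.1 s.2
  have hβ₁C : ∀ y, β₁ (C y) = β y := fun y => aevalTower_C _ _ y
  have hβ₁X : ∀ s, β₁ (X s) = lam s.1 s.2 := fun s => aevalTower_X _ _ s
  let G : MvPolynomial (Fin n) R →ₐ[R] B' := aeval b'
  have hG : ∀ p, β₁ (G p) = φ (q p) := fun p => by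
    rw [← hqv]
    have : β₁.comp G = aeval v := MvPolynomial.algHom_ext fun k => by
      show β₁ (G (X k)) = aeval v (X k)
      rw [show G (X k) = b' k from aeval_X _ k, aeval_X, map_sub, map_sum, hβ₁C]
      simp only [map_mul, AlgHom.commutes, hβ₁X]
      rw [← hlam k, sub_sub_cancel]
    exact AlgHom.congr_fun this p
  let J : Ideal B' := Ideal.span (Set.range fun j => G (rel j))
  have hJI : J ≤ I.map (algebraMap R B') := by
    rw [Ideal.span_le]
    rintro _ ⟨j, rfl⟩
    show G (rel j) ∈ _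
    have h1 : ∀ p, G p - C (aeval b p) ∈ I.map (algebraMap R B') := fun p => by
      induction p using MvPolynomial.induction_on with
      | C c =>
        rw [show G (C c) = algebraMap R B' c from aeval_C _ c, aeval_C, IsScalarTower.algebraMap_apply R B B',
          algebraMap_eq, sub_self]
        exact Submodule.zero_mem _
      | add p p' hp hp' => rw [map_add, map_add, map_add, add_sub_add_comm]; exact Submodule.add_mem _ hp hp'
      | mul_X p k hp =>
        rw [map_mul, map_mul, show G (X k) = b' k from aeval_X _ k, aeval_X, map_mul,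
          show G p * b' k - C (aeval b p) * C (b k) =
            (G p - C (aeval b p)) * b' k + C (aeval b p) * (b' k - C (b k)) by ring]
        refine Submodule.add_mem _ (Ideal.mul_mem_right _ _ hp) (Ideal.mul_mem_left _ _ ?_)
        rw [show b' k - C (b k) = -∑ t, algebraMap R B' (r k t) * X ⟨k, t⟩ by simp [b']]
        exact Submodule.neg_mem _ (Ideal.sum_mem _ fun t _ =>
          Ideal.mul_mem_right _ _ (Ideal.mem_map_of_mem _ (hr k t)))
    have h2 : C (aeval b (rel j)) ∈ I.map (algebraMap R B') := by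
      have h3 := Ideal.mem_map_of_mem (C : B →+* B') (hb ⟨j⟩)
      rwa [Ideal.map_map, ← algebraMap_eq, ← IsScalarTower.algebraMap_eq] at h3
    simpa using Submodule.add_mem _ (h1 (rel j)) h2
  let g : A →ₐ[R] B' ⧸ J := AlgHom.liftOfSurjective q hq ((Ideal.Quotient.mkₐ R J).comp G) fun p hp => by
    refine RingHom.mem_ker.2 (Ideal.Quotient.eq_zero_iff_mem.2 ?_)
    have := Ideal.mem_map_of_mem G.toRingHom ((hker p).1 hp)
    rwa [Ideal.map_span, ← Set.range_comp] at this
  let k : (B' ⧸ J) →ₐ[R] Λ := Ideal.Quotient.liftₐ J β₁ fun x hx => RingHom.mem_ker.1 <|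
    (Ideal.span_le.2 (Set.range_subset_iff.2 fun j => RingHom.mem_ker.2 (by
      rw [hG, (hker _).2 (Ideal.subset_span ⟨_, rfl⟩), map_zero]))) hx
  refine ⟨B', inferInstance, inferInstance, inferInstance, J, hJI, Submodule.fg_span (Set.finite_range _), g, k,
    AlgHom.ext fun x => ?_⟩
  obtain ⟨p, rfl⟩ := hq x
  show k (g (q p)) = _
  rw [show g (q p) = Ideal.Quotient.mkₐ R J (G p) from AlgHom.liftOfSurjective_apply _ _ _ _ p]
  exact hG p

/-- The lifting lemma. -/
theorem lifting_lemma [Module.Flat R Λ] (I : Ideal R) (hI : I ^ 2 = ⊥)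
    (h : Smoothing.IndSmooth (R ⧸ I) (Λ ⧸ I.map (algebraMap R Λ)))
    {B : Type u} [CommRing B] [Algebra R B] [Algebra.Smooth R B] (φ : B →ₐ[R] Λ) (J : Ideal B)
    (hJ : J ≤ I.map (algebraMap R B)) (hJfg : J.FG) (hφJ : ∀ x ∈ J, φ x = 0) :
    ∃ (B' : Type u) (_ : CommRing B') (_ : Algebra R B'), Algebra.Smooth R B' ∧
      ∃ (α : B →ₐ[R] B') (β : B' →ₐ[R] Λ), (∀ x ∈ J, α x = 0) ∧
        ∀ b : B, β (α b) - φ b ∈ I.map (algebraMap R Λ) := by
  classical
  obtain ⟨L, jj, hjj⟩ := Submodule.fg_iff_exists_fin_generating_family.mp hJfg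
  have hjjJ : ∀ l, jj l ∈ J := fun l => hjj ▸ Submodule.subset_span ⟨l, rfl⟩
  choose N r bb hr hbb using fun l => exists_sum_of_mem I (hJ (hjjJ l))
  have hrel : ∀ l, ∑ t, r l t • φ (bb l t) = 0 := fun l => by
    have h0 := hφJ _ (hjjJ l)
    rw [hbb l, map_sum] at h0
    rw [← h0]
    exact Finset.sum_congr rfl fun t _ => by rw [map_mul, φ.commutes, Algebra.smul_def]
  choose K a z hz ha using fun l => Module.Flat.isTrivialRelation_of_sum_smul_eq_zero (R := R) (M := Λ) (hrel l)
  obtain ⟨n, q, hq, hfg⟩ := Algebra.FinitePresentation.out (R := R) (A := B)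
  obtain ⟨m, rel, hrelq⟩ := Submodule.fg_iff_exists_fin_generating_family.mp hfg
  have hker : ∀ p, q p = 0 ↔ p ∈ Ideal.span (Set.range rel) := fun p => by
    rw [Ideal.span, hrelq]; exact RingHom.mem_ker.symm
  let σ := Σ l : Fin L, Fin (K l)
  let M := Fintype.card σ
  let eσ : σ ≃ Fin M := Fintype.equivFin σ
  let v : Fin (n + M) → Λ := Fin.append (fun k => φ (q (X k))) (fun s => z (eσ.symm s).1 (eσ.symm s).2)
  let inc : MvPolynomial (Fin n) R →ₐ[R] MvPolynomial (Fin (n + M)) R := rename (Fin.castAdd M)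
  choose w hw using fun l t => hq (bb l t)
  let ν := ULift.{u} (Fin m ⊕ Σ l : Fin L, Fin (N l))
  let relC : ν → MvPolynomial (Fin (n + M)) R := fun x => x.down.elim (fun j => inc (rel j))
    fun s => inc (w s.1 s.2) - ∑ k, C (a s.1 s.2 k) * X (Fin.natAdd n (eσ ⟨s.1, k⟩))
  have hinc : ∀ {T : Type u} [CommRing T] [Algebra R T] (u : Fin (n + M) → T) (p : MvPolynomial (Fin n) R),
      aeval u (inc p) = aeval (fun k => u (Fin.castAdd M k)) p := fun u p => aeval_rename _ _ _
  have hvq : ∀ p, aeval v (inc p) = φ (q p) := fun p => by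
    rw [hinc, show (fun k => v (Fin.castAdd M k)) = fun k => φ (q (X k)) from funext fun k => Fin.append_left _ _ k,
      show (φ (q p)) = φ.comp q p from rfl, aeval_unique (φ.comp q)]
    rfl
  have hvz : ∀ l k, v (Fin.natAdd n (eσ ⟨l, k⟩)) = z l k := fun l k => by
    refine (Fin.append_right _ _ _).trans ?_
    show z (eσ.symm (eσ ⟨l, k⟩)).1 (eσ.symm (eσ ⟨l, k⟩)).2 = z l k
    rw [Equiv.symm_apply_apply]
  obtain ⟨B', _, _, hB', β, b, hβb, hb⟩ := exists_smooth_over I hI h relC v fun x => by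
    obtain ⟨x | s⟩ := x
    · show aeval v (inc (rel x)) ∈ _
      rw [hvq, (hker _).2 (Ideal.subset_span ⟨_, rfl⟩), map_zero]
      exact Submodule.zero_mem _
    · show aeval v (inc (w s.1 s.2) - ∑ k, _) ∈ _
      rw [map_sub, hvq, hw, show φ (bb s.1 s.2) = ∑ k, a s.1 s.2 k • z s.1 k from hz s.1 s.2, map_sum]
      simp only [map_mul, aeval_C, aeval_X, hvz, ← Algebra.smul_def, sub_self, Submodule.zero_mem]
  haveI := hB'
  let b₀ : Fin n → B' := fun k => b (Fin.castAdd M k)
  let π₀ : MvPolynomial (Fin n) R →ₐ[R] B' ⧸ I.map (algebraMap R B') := (Ideal.Quotient.mkₐ R _).comp (aeval b₀)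
  let α₀ : B →ₐ[R] B' ⧸ I.map (algebraMap R B') := AlgHom.liftOfSurjective q hq π₀ fun p hp => RingHom.mem_ker.2 <|
    RingHom.mem_ker.1 <| (Ideal.span_le.2 (Set.range_subset_iff.2 fun j => RingHom.mem_ker.2 (by
      show Ideal.Quotient.mk _ (aeval b₀ (rel j)) = 0
      rw [Ideal.Quotient.eq_zero_iff_mem, ← hinc b (rel j)]
      exact hb ⟨Sum.inl j⟩))) ((hker p).1 hp)
  have hα₀ : ∀ p, α₀ (q p) = Ideal.Quotient.mk _ (aeval b₀ p) := fun p => AlgHom.liftOfSurjective_apply _ _ _ _ p
  let α : B →ₐ[R] B' := Algebra.FormallySmooth.lift _ ⟨2, pow_two_map_eq_bot I hI B'⟩ α₀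
  have hα : ∀ p, α (q p) - aeval b₀ p ∈ I.map (algebraMap R B') := fun p => by
    rw [← Ideal.Quotient.eq]
    exact (Algebra.FormallySmooth.mk_lift _ _ α₀ (q p)).trans (hα₀ p)
  refine ⟨B', inferInstance, inferInstance, hB', α, β, fun x hx => ?_, fun y => ?_⟩
  · rw [← hjj] at hx
    induction hx using Submodule.span_induction with
    | mem x hx =>
      obtain ⟨l, rfl⟩ := hx
      rw [hbb l, map_sum]
      have h1 : ∀ t, algebraMap R B' (r l t) * α (bb l t) =
          ∑ k, algebraMap R B' (r l t * a l t k) * b (Fin.natAdd n (eσ ⟨l, k⟩)) := fun t => by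
        have h2 : α (bb l t) - ∑ k, algebraMap R B' (a l t k) * b (Fin.natAdd n (eσ ⟨l, k⟩)) ∈
            I.map (algebraMap R B') := by
          have h3 : aeval b₀ (w l t) - ∑ k, algebraMap R B' (a l t k) * b (Fin.natAdd n (eσ ⟨l, k⟩)) ∈
              I.map (algebraMap R B') := by
            have h4 := hb ⟨Sum.inr ⟨l, t⟩⟩
            change aeval b (inc (w l t) - ∑ k, C (a l t k) * X (Fin.natAdd n (eσ ⟨l, k⟩))) ∈ _ at h4
            rwa [map_sub, hinc, map_sum, Finset.sum_congr rfl (fun k _ => by rw [map_mul, aeval_C, aeval_X] :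
              ∀ k ∈ (Finset.univ : Finset (Fin (K l))), _ = algebraMap R B' (a l t k) * b (Fin.natAdd n (eσ ⟨l, k⟩)))] at h4
          have := Submodule.add_mem _ (hα (w l t)) h3
          rwa [hw, sub_add_sub_cancel] at this
        have h5 := mul_eq_zero_of_mem I hI (Ideal.mem_map_of_mem (algebraMap R B') (hr l t)) h2
        rw [mul_sub, sub_eq_zero, Finset.mul_sum] at h5
        rw [h5]
        exact Finset.sum_congr rfl fun k _ => by rw [map_mul, mul_assoc]
      rw [Finset.sum_congr rfl fun t _ => (by rw [map_mul, α.commutes, h1] :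
        α (algebraMap R B (r l t) * bb l t) = _), Finset.sum_comm]
      refine Finset.sum_eq_zero fun k _ => ?_
      rw [← Finset.sum_mul, ← map_sum, ha l k, map_zero, zero_mul]
    | zero => exact map_zero α
    | add x y _ _ hx hy => rw [map_add, hx, hy, add_zero]
    | smul c x _ hx => rw [smul_eq_mul, map_mul, hx, mul_zero]
  · obtain ⟨p, rfl⟩ := hq y
    have hmapI : ∀ x ∈ I.map (algebraMap R B'), β x ∈ I.map (algebraMap R Λ) := fun x hx => by
      have := Ideal.mem_map_of_mem β.toRingHom hx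
      rwa [Ideal.map_map, show β.toRingHom.comp (algebraMap R B') = algebraMap R Λ from β.comp_algebraMap] at this
    have h1 := hmapI _ (hα p)
    rw [map_sub, show β (aeval b₀ p) = aeval (fun k => β (b₀ k)) p from comp_aeval_apply b₀ β p] at h1
    have h2 : aeval (fun k => β (b₀ k)) p - φ (q p) ∈ I.map (algebraMap R Λ) := by
      rw [← Ideal.Quotient.eq]
      have : (Ideal.Quotient.mkₐ R (I.map (algebraMap R Λ))).comp (aeval fun k => β (b₀ k)) =
          ((Ideal.Quotient.mkₐ R _).comp φ).comp q := MvPolynomial.algHom_ext fun k => by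
        show Ideal.Quotient.mk _ (aeval _ (X k)) = Ideal.Quotient.mk _ (φ (q (X k)))
        rw [aeval_X, Ideal.Quotient.eq]
        have := hβb (Fin.castAdd M k)
        rwa [show v (Fin.castAdd M k) = φ (q (X k)) from Fin.append_left _ _ k] at this
      exact AlgHom.congr_fun this p
    simpa using Submodule.add_mem _ h1 h2

end Groth.Agent.Lib.SmoothingH7
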