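import Groth.Agent.Lib.SmoothingH7.Standard
import Groth.Agent.Lib.SmoothingH7.Desing

/-! Lifting a problem from `R / π²` to `R`. -/

set_option autoImplicit false

universe u

open MvPolynomial IsLocalRing

namespace Groth.Agent.Lib.SmoothingH7

/-- Derivations separating rows can be replaced by partial derivatives. -/
theorem exists_cols {R : Type u} [CommRing R] {n c : ℕ} (Q : Ideal (MvPolynomial (Fin n) R)) [Q.IsPrime]
    (f : Fin c → MvPolynomial (Fin n) R) (D : Fin c → Derivation R (MvPolynomial (Fin n) R) (MvPolynomial (Fin n) R))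
    (hdet : Matrix.det (Matrix.of fun i j => D j (f i)) ∉ Q) :
    ∃ cols : Fin c → Fin n, Matrix.det (Matrix.of fun i j => pderiv (cols j) (f i)) ∉ Q := by
  classical
  let B := MvPolynomial (Fin n) R
  let K := FractionRing (B ⧸ Q)
  let ι : B →+* K := (algebraMap (B ⧸ Q) K).comp (Ideal.Quotient.mk Q)
  have hι : ∀ z, ι z = 0 ↔ z ∈ Q := fun z => by
    rw [RingHom.comp_apply, (IsFractionRing.injective (B ⧸ Q) K).eq_iff' (map_zero _),
      Ideal.Quotient.eq_zero_iff_mem]
  let v : Fin c → Fin n → K := fun i k => ι (pderiv k (f i))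
  have hv : LinearIndependent K v := by
    by_contra hv
    rw [Fintype.not_linearIndependent_iff] at hv
    obtain ⟨g, hg, i₀, hi₀⟩ := hv
    refine hdet ((hι _).1 ?_)
    rw [RingHom.map_det]
    refine Matrix.exists_vecMul_eq_zero_iff.1 ⟨g, fun h => hi₀ (congrFun h i₀), funext fun j => ?_⟩
    show ∑ i, g i * ι (D j (f i)) = 0
    have hsum : ∀ i, ι (D j (f i)) = ∑ k, ι (pderiv k (f i)) * ι (D j (X k)) := fun i => by
      rw [derivation_eq_sum (D j) (f i), map_sum]
      exact Finset.sum_congr rfl fun k _ => map_mul ι _ _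
    simp only [hsum, Finset.mul_sum]
    rw [Finset.sum_comm]
    refine Finset.sum_eq_zero fun k _ => ?_
    simp only [← mul_assoc, ← Finset.sum_mul]
    rw [show ∑ i, g i * ι (pderiv k (f i)) = 0 by simpa [v, Finset.sum_apply] using congrFun hg k, zero_mul]
  obtain ⟨cols, hcols⟩ := LeftInv.exists_columns_det_ne_zero v hv
  refine ⟨cols, fun h => hcols ?_⟩
  have e : (Matrix.of fun i j => v i (cols j)) = ι.mapMatrix (Matrix.of fun i j => pderiv (cols j) (f i)) := rfl
  rw [e, ← RingHom.map_det]
  exact (hι _).2 h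

/-- The localization at a smooth point is flat. -/
theorem flat_atPrime {R C : Type u} [CommRing R] [CommRing C] [Algebra R C] [Algebra.FinitePresentation R C]
    (p : Ideal C) [p.IsPrime] [Algebra.IsSmoothAt R p] : Module.Flat R (Localization.AtPrime p) := by
  obtain ⟨t, ht, hts⟩ := Algebra.IsSmoothAt.exists_notMem_smooth (R := R) p
  haveI := hts
  let L := Localization.AtPrime p
  letI : Algebra (Localization.Away t) L := (IsLocalization.lift (M := Submonoid.powers t)
    (S := Localization.Away t) (g := algebraMap C L) fun y => IsLocalization.map_units L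
      (⟨(y : C), fun h => by
        obtain ⟨k, hk⟩ := y.2
        rw [← hk] at h
        exact ht (‹p.IsPrime›.mem_of_pow_mem k h)⟩ : p.primeCompl)).toAlgebra
  haveI : IsScalarTower C (Localization.Away t) L :=
    IsScalarTower.of_algebraMap_eq (R := C) (S := Localization.Away t) (A := L)
      fun x => (IsLocalization.lift_eq _ x).symm
  haveI : IsScalarTower R (Localization.Away t) L := IsScalarTower.to₁₃₄ R C _ L
  haveI : IsLocalization (Submonoid.map (algebraMap C (Localization.Away t)) p.primeCompl) L :=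
    IsLocalization.isLocalization_of_submonoid_le (Localization.Away t) L (Submonoid.powers t) p.primeCompl
      (Submonoid.powers_le.2 ht)
  haveI : Module.Flat (Localization.Away t) L := IsLocalization.flat _
    (Submonoid.map (algebraMap C (Localization.Away t)) p.primeCompl)
  exact Module.Flat.trans R (Localization.Away t) L

/-- Smoothness of a quotient of a polynomial ring from a square system with nonvanishing minor that
generates locally. -/
theorem isSmoothAt_of_system {R V σ : Type u} [CommRing R] [IsNoetherianRing R] [Finite V] [Fintype σ]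
    [DecidableEq σ] (J : Ideal (MvPolynomial V R)) (Q : Ideal (MvPolynomial V R ⧸ J)) [Q.IsPrime]
    (G : σ → MvPolynomial V R) (hG : ∀ i, G i ∈ J) (cols : σ → V)
    (hdet : Ideal.Quotient.mk J (Matrix.det (Matrix.of fun i j => pderiv (cols j) (G i))) ∉ Q)
    (hgen : ∀ x ∈ J, ∃ s, Ideal.Quotient.mk J s ∉ Q ∧ s * x ∈ Ideal.span (Set.range G)) :
    Algebra.IsSmoothAt R Q := by
  classical
  let e : σ ≃ Fin (Fintype.card σ) := Fintype.equivFin σ
  haveI : IsNoetherianRing (MvPolynomial V R) := inferInstance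
  show Algebra.FormallySmooth R (Localization.AtPrime Q)
  refine (LeftInv.formallySmooth_localization_iff_jacobian (A := R) (B := MvPolynomial V R)
    Ideal.Quotient.mk_surjective Q).2 ⟨Fintype.card σ, G ∘ e.symm, fun j => pderiv (cols (e.symm j)),
      fun i => RingHom.mem_ker.2 (Ideal.Quotient.eq_zero_iff_mem.2 (hG _)), fun x hx => ?_, ?_⟩
  · obtain ⟨s, hs, hsx⟩ := hgen x (Ideal.Quotient.eq_zero_iff_mem.1 (RingHom.mem_ker.1 hx))
    exact ⟨s, hs, by rwa [e.symm.surjective.range_comp]⟩
  · rw [← Matrix.det_submatrix_equiv_self e.symm] at hdet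
    exact hdet

/-- The local ring of the system is smooth and the relations vanish there. -/
theorem hgen_of_vanish {R V σ : Type u} [CommRing R] [IsNoetherianRing R] [Finite V] [Fintype σ]
    [DecidableEq σ] (J : Ideal (MvPolynomial V R)) (Qs : Ideal (MvPolynomial V R)) [Qs.IsPrime] (hJQ : J ≤ Qs)
    (G : σ → MvPolynomial V R) (hG : ∀ i, G i ∈ J) (cols : σ → V)
    (hdet : Matrix.det (Matrix.of fun i j => pderiv (cols j) (G i)) ∉ Qs)
    (hvan : ∀ (L : Type u) (_ : CommRing L) (_ : Algebra R L) (ev : MvPolynomial V R →ₐ[R] L),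
      Module.Flat R L → (∀ i, ev (G i) = 0) → (∀ s, s ∉ Qs → IsUnit (ev s)) →
        ∃ T : Set (MvPolynomial V R), J ≤ Ideal.span T ∧ ∀ x ∈ T, ev x = 0) :
    ∀ x ∈ J, ∃ s, s ∉ Qs ∧ s * x ∈ Ideal.span (Set.range G) := by
  classical
  let IG := Ideal.span (Set.range G)
  have hIG : IG ≤ J := Ideal.span_le.2 (Set.range_subset_iff.2 hG)
  let Cq := MvPolynomial V R ⧸ IG
  let Qc : Ideal Cq := Qs.map (Ideal.Quotient.mk IG)
  have hQc : Qc.comap (Ideal.Quotient.mk IG) = Qs := by
    rw [Ideal.comap_map_of_surjective _ Ideal.Quotient.mk_surjective, ← RingHom.ker_eq_comap_bot, Ideal.mk_ker]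
    exact sup_eq_left.2 (hIG.trans hJQ)
  haveI : Qc.IsPrime := Ideal.map_isPrime_of_surjective Ideal.Quotient.mk_surjective
    (by rw [Ideal.mk_ker]; exact hIG.trans hJQ)
  have hQc' : ∀ x, Ideal.Quotient.mk IG x ∈ Qc ↔ x ∈ Qs := fun x => by
    rw [← hQc]; rfl
  haveI : Algebra.FinitePresentation R Cq :=
    Algebra.FinitePresentation.quotient (Submodule.fg_span (Set.finite_range _))
  haveI : Algebra.IsSmoothAt R Qc := isSmoothAt_of_system IG Qc G (fun i => Ideal.subset_span ⟨i, rfl⟩) cols
    (fun h => hdet ((hQc' _).1 h)) fun x hx => ⟨1, fun h => Qc.primeCompl.one_mem (by rwa [map_one] at h),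
      by rwa [one_mul]⟩
  let L := Localization.AtPrime Qc
  let ev : MvPolynomial V R →ₐ[R] L := (IsScalarTower.toAlgHom R Cq L).comp (Ideal.Quotient.mkₐ R IG)
  have hflat : Module.Flat R L := flat_atPrime Qc
  obtain ⟨T, hT, hT0⟩ := hvan L inferInstance inferInstance ev hflat (fun i => by
    show algebraMap Cq L (Ideal.Quotient.mk IG _) = 0
    rw [Ideal.Quotient.eq_zero_iff_mem.2 (Ideal.subset_span (Set.mem_range_self _) : _ ∈ IG), map_zero])
    (fun s hs => IsLocalization.map_units L (⟨_, fun h => hs ((hQc' s).1 h)⟩ : Qc.primeCompl))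
  intro x hx
  have h0 : ev x = 0 := RingHom.mem_ker.1
    ((Ideal.span_le.2 fun y hy => RingHom.mem_ker.2 (hT0 y hy) : _ ≤ RingHom.ker ev.toRingHom) (hT hx))
  obtain ⟨⟨z, hz⟩, hzx⟩ := (IsLocalization.map_eq_zero_iff Qc.primeCompl L _).1 h0
  obtain ⟨z, rfl⟩ := Ideal.Quotient.mk_surjective z
  exact ⟨z, fun h => hz ((hQc' z).2 h), Ideal.Quotient.eq_zero_iff_mem.1 ((map_mul _ z x).trans hzx)⟩

theorem exists_lift_sq {R Λ C₀ : Type u} [CommRing R] [IsNoetherianRing R] [CommRing Λ]
    [Algebra R Λ] (π : R) (hR : ∀ r : R, π ^ 2 * r = 0 → π * r = 0)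
    (hΛ : ∀ x : Λ, π ^ 2 • x = 0 → π • x = 0) [CommRing C₀] [Algebra R C₀]
    [Algebra (R ⧸ Ideal.span {π ^ 2}) C₀] [IsScalarTower R (R ⧸ Ideal.span {π ^ 2}) C₀]
    [Algebra.FinitePresentation (R ⧸ Ideal.span {π ^ 2}) C₀]
    (g : C₀ →ₐ[R] Λ ⧸ Ideal.span {algebraMap R Λ (π ^ 2)}) :
    ∃ (D : Type u) (_ : CommRing D) (_ : Algebra R D), Algebra.FinitePresentation R D ∧
      ∃ (δ : D →ₐ[R] Λ) (ψ : C₀ →ₐ[R] D ⧸ Ideal.span {algebraMap R D π}),
        (∀ (c : C₀) (d : D) (l : Λ), Ideal.Quotient.mk (Ideal.span {algebraMap R D π}) d = ψ c →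
          Ideal.Quotient.mk (Ideal.span {algebraMap R Λ (π ^ 2)}) l = g c →
            δ d - l ∈ Ideal.span {algebraMap R Λ π}) ∧
        (∀ (Q : Ideal D) [Q.IsPrime], algebraMap R D π ∉ Q → Algebra.IsSmoothAt R Q) ∧
        (∀ (Q : Ideal (D ⧸ Ideal.span {algebraMap R D π})) [Q.IsPrime],
          Algebra.IsSmoothAt (R ⧸ Ideal.span {π ^ 2}) (Q.comap ψ) →
            Algebra.IsSmoothAt R (Q.comap (Ideal.Quotient.mk (Ideal.span {algebraMap R D π})))) := by
  classical
  let R₂ := R ⧸ Ideal.span {π ^ 2}
  obtain ⟨n, qC, hqC, hfgC⟩ := Algebra.FinitePresentation.out (R := R₂) (A := C₀)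
  obtain ⟨m, fb, hfb⟩ := Submodule.fg_iff_exists_fin_generating_family.mp hfgC
  let red : MvPolynomial (Fin n) R →+* MvPolynomial (Fin n) R₂ := MvPolynomial.map (Ideal.Quotient.mk _)
  have hred : Function.Surjective red := MvPolynomial.map_surjective _ Ideal.Quotient.mk_surjective
  choose f hf using fun j => hred (fb j)
  let q : MvPolynomial (Fin n) R →ₐ[R] C₀ := aeval fun k => qC (X k)
  have hq : ∀ p, q p = qC (red p) := fun p => by
    induction p using MvPolynomial.induction_on with
    | C r =>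
      rw [show q (C r) = algebraMap R C₀ r from q.commutes r,
        show red (C r) = algebraMap R₂ _ (Ideal.Quotient.mk _ r) from map_C _ _, qC.commutes,
        IsScalarTower.algebraMap_apply R R₂ C₀]
      rfl
    | add p p' hp hp' => simp only [map_add, hp, hp']
    | mul_X p k hp =>
      rw [map_mul, map_mul, map_mul, hp, show q (X k) = qC (X k) from aeval_X _ k,
        show red (X k) = X k from map_X _ k]
  have hqs : Function.Surjective q := fun c => by
    obtain ⟨p, rfl⟩ := hqC c
    obtain ⟨p, rfl⟩ := hred p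
    exact ⟨p, hq p⟩
  have hkerred : ∀ p, red p = 0 → ∃ b, p = C (π ^ 2) * b := fun p hp => by
    have h1 : p ∈ RingHom.ker red := hp
    rw [MvPolynomial.ker_map, Ideal.mk_ker, Ideal.map_span, Set.image_singleton] at h1
    obtain ⟨b, hb⟩ := Ideal.mem_span_singleton'.1 h1
    exact ⟨b, by rw [← hb, mul_comm]⟩
  have hkerq : ∀ p, q p = 0 → ∃ (a : Fin m → MvPolynomial (Fin n) R) (b : MvPolynomial (Fin n) R),
      p = ∑ j, a j * f j + C (π ^ 2) * b := fun p hp => by
    rw [hq] at hp
    have h1 : red p ∈ Ideal.span (Set.range fb) := hfb.ge hp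
    obtain ⟨a', ha'⟩ := Ideal.mem_span_range_iff_exists_fun.1 h1
    choose a ha using fun j => hred (a' j)
    obtain ⟨b, hb⟩ := hkerred (p - ∑ j, a j * f j) (by
      simp only [map_sub, map_sum, map_mul, ha, hf, ha', sub_self])
    exact ⟨a, b, by linear_combination hb⟩
  have hqf : ∀ j, q (f j) = 0 := fun j => by
    rw [hq, hf]; exact RingHom.mem_ker.1 (hfb ▸ Submodule.subset_span ⟨j, rfl⟩ : fb j ∈ RingHom.ker qC.toRingHom)
  choose lam hlam using fun k => Ideal.Quotient.mk_surjective (g (qC (X k)))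
  have hgev : ∀ p, Ideal.Quotient.mk _ (aeval lam p) = g (q p) := fun p => by
    have : (Ideal.Quotient.mkₐ R _).comp (aeval lam) = g.comp q := MvPolynomial.algHom_ext fun k => by
      show Ideal.Quotient.mk _ (aeval lam (X k)) = g (q (X k))
      rw [aeval_X, hlam, show q (X k) = qC (X k) from aeval_X _ k]
    exact AlgHom.congr_fun this p
  choose μ hμ using fun j => Ideal.mem_span_singleton'.1
    (Ideal.Quotient.eq_zero_iff_mem.1 ((hgev (f j)).trans (by rw [hqf, map_zero])))
  -- syzygies
  let L₀ : ((Fin m → MvPolynomial (Fin n) R) × MvPolynomial (Fin n) R) →ₗ[MvPolynomial (Fin n) R] MvPolynomial (Fin n) R :=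
    (Fintype.linearCombination _ f).coprod (LinearMap.mulLeft _ (C (π ^ 2)))
  have hL₀ : ∀ x : ((Fin m → MvPolynomial (Fin n) R) × MvPolynomial (Fin n) R), L₀ x = ∑ j, x.1 j * f j + C (π ^ 2) * x.2 := fun x => by
    show Fintype.linearCombination _ f x.1 + C (π ^ 2) * x.2 = _
    rw [Fintype.linearCombination_apply]
    simp [smul_eq_mul]
  obtain ⟨N, syz, hsyz⟩ := Submodule.fg_iff_exists_fin_generating_family.mp (IsNoetherian.noetherian (LinearMap.ker L₀))
  have hsyz0 : ∀ s, L₀ (syz s) = 0 := fun s => (hsyz ▸ Submodule.subset_span ⟨s, rfl⟩ : syz s ∈ LinearMap.ker L₀)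
  let V := ULift.{u} (Fin n ⊕ Fin m)
  let jx : Fin n → V := fun k => ⟨Sum.inl k⟩
  let jz : Fin m → V := fun j => ⟨Sum.inr j⟩
  let inc : MvPolynomial (Fin n) R →ₐ[R] MvPolynomial V R := rename jx
  let F : Fin m → MvPolynomial V R := fun j => inc (f j) - C π * X (jz j)
  let H : ((Fin m → MvPolynomial (Fin n) R) × MvPolynomial (Fin n) R) → MvPolynomial V R := fun x => ∑ j, inc (x.1 j) * X (jz j) + C π * inc x.2
  let rels : Fin m ⊕ Fin N → MvPolynomial V R := Sum.elim F fun s => H (syz s)
  let J : Ideal (MvPolynomial V R) := Ideal.span (Set.range rels)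
  have hFJ : ∀ j, F j ∈ J := fun j => Ideal.subset_span ⟨Sum.inl j, rfl⟩
  have hHJ : ∀ x, L₀ x = 0 → H x ∈ J := fun x hx => by
    suffices h0 : ∀ y ∈ Submodule.span (MvPolynomial (Fin n) R) (Set.range syz), H y ∈ J from
      h0 x (hsyz.ge (LinearMap.mem_ker.2 hx))
    intro y₀ h1
    induction h1 using Submodule.span_induction with
    | mem y hy => obtain ⟨s, rfl⟩ := hy; exact Ideal.subset_span ⟨Sum.inr s, rfl⟩
    | zero => simp [H]
    | add y y' hy hy' ih ih' =>
      have e : H (y + y') = H y + H y' := by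
        simp only [H, Prod.fst_add, Prod.snd_add, Pi.add_apply, map_add, add_mul, mul_add, Finset.sum_add_distrib]
        ring
      rw [e]
      exact J.add_mem ih ih'
    | smul c y hy ih =>
      have e : H (c • y) = inc c * H y := by
        simp only [H, Prod.smul_fst, Prod.smul_snd, Pi.smul_apply, smul_eq_mul, map_mul, Finset.mul_sum, mul_add]
        congr 1
        · exact Finset.sum_congr rfl fun j _ => by ring
        · ring
      rw [e]
      exact J.mul_mem_left _ ih
  let D := MvPolynomial V R ⧸ J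
  haveI : Algebra.FinitePresentation R D := Algebra.FinitePresentation.quotient (Submodule.fg_span (Set.finite_range _))
  let vΛ : V → Λ := fun x => x.down.elim lam fun j => algebraMap R Λ π * μ j
  have hvinc : ∀ p, aeval vΛ (inc p) = aeval lam p := fun p => aeval_rename _ _ _
  have hvz : ∀ j, aeval vΛ (X (jz j) : MvPolynomial V R) = algebraMap R Λ π * μ j := fun j => aeval_X _ _
  have hFΛ : ∀ j, aeval vΛ (F j) = 0 := fun j => by
    rw [map_sub, map_mul, aeval_C, hvinc, hvz, ← hμ j, map_pow]
    ring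
  have hHΛ : ∀ x, L₀ x = 0 → aeval vΛ (H x) = 0 := fun x hx => by
    let Y : Λ := ∑ j, aeval lam (x.1 j) * μ j + aeval lam x.2
    have h1 : aeval vΛ (H x) = π • Y := by
      simp only [H, map_add, map_sum, map_mul, aeval_C, hvinc, hvz, Y, Algebra.smul_def, mul_add, Finset.mul_sum]
      exact congrArg₂ (· + ·) (Finset.sum_congr rfl fun j _ => by ring) rfl
    rw [h1]
    refine hΛ Y ?_
    have h2 := congrArg (aeval lam) hx
    rw [hL₀, map_zero, map_add, map_sum, map_mul, aeval_C] at h2
    simp only [map_mul, ← hμ] at h2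
    rw [Algebra.smul_def]
    simp only [Y, mul_add, Finset.mul_sum]
    rw [← h2]
    exact congrArg₂ (· + ·) (Finset.sum_congr rfl fun j _ => by ring) rfl
  let δ : D →ₐ[R] Λ := Ideal.Quotient.liftₐ J (aeval vΛ) fun x hx => RingHom.mem_ker.1 <| (Ideal.span_le.2
    (Set.range_subset_iff.2 fun i => RingHom.mem_ker.2 (by
      rcases i with j | s
      · exact hFΛ j
      · exact hHΛ _ (hsyz0 s)))) hx
  let K : Ideal D := Ideal.span {algebraMap R D π}
  let ψ₀ : MvPolynomial (Fin n) R →ₐ[R] D ⧸ K := ((Ideal.Quotient.mkₐ R K).comp (Ideal.Quotient.mkₐ R J)).comp inc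
  have hπK : Ideal.Quotient.mk K (Ideal.Quotient.mk J (C π)) = 0 :=
    Ideal.Quotient.eq_zero_iff_mem.2 (Ideal.mem_span_singleton_self _)
  have hψf : ∀ j, ψ₀ (f j) = 0 := fun j => by
    have h1 : Ideal.Quotient.mk J (inc (f j)) = Ideal.Quotient.mk J (C π * X (jz j)) :=
      Ideal.Quotient.eq.2 (hFJ j)
    show Ideal.Quotient.mk K (Ideal.Quotient.mk J (inc (f j))) = 0
    rw [h1, map_mul, map_mul, hπK]
    exact zero_mul (Ideal.Quotient.mk K (Ideal.Quotient.mk J (X (jz j))))
  let ψ : C₀ →ₐ[R] D ⧸ K := AlgHom.liftOfSurjective (C := D ⧸ K) q hqs ψ₀ fun p hp => by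
    obtain ⟨a, b, rfl⟩ := hkerq p hp
    refine RingHom.mem_ker.2 ?_
    show ψ₀ _ = 0
    rw [map_add, map_sum, map_mul,
      show ψ₀ (C (π ^ 2)) = algebraMap R (D ⧸ K) (π ^ 2) from ψ₀.commutes _, map_pow,
      show algebraMap R (D ⧸ K) π = 0 from hπK]
    refine (congrArg₂ (· + ·) (Finset.sum_eq_zero fun j _ => ?_)
      (mul_eq_zero_of_left (zero_pow two_ne_zero) (ψ₀ b))).trans (add_zero 0)
    rw [map_mul, hψf]; exact mul_zero (ψ₀ (a j))
  have hψ : ∀ p, ψ (q p) = ψ₀ p := fun p => AlgHom.liftOfSurjective_apply _ _ _ _ p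
  refine ⟨D, inferInstance, inferInstance, inferInstance, δ, ψ, ?_, ?_, ?_⟩
  · intro c d l hd hl
    obtain ⟨p, rfl⟩ := hqs c
    rw [hψ] at hd
    obtain ⟨e, he⟩ := Ideal.mem_span_singleton'.1 (Ideal.Quotient.eq.1 hd :
      d - Ideal.Quotient.mk J (inc p) ∈ K)
    rw [← hgev] at hl
    obtain ⟨e', he'⟩ := Ideal.mem_span_singleton'.1 (Ideal.Quotient.eq.1 hl)
    have h1 : δ d = δ e * algebraMap R Λ π + aeval lam p := by
      have h2 := congrArg δ he
      rw [map_mul, δ.commutes, map_sub, show δ (Ideal.Quotient.mk J (inc p)) = aeval vΛ (inc p) from rfl,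
        hvinc] at h2
      linear_combination -h2
    rw [Ideal.mem_span_singleton']
    refine ⟨δ e - e' * algebraMap R Λ π, ?_⟩
    rw [h1]
    rw [map_pow] at he'
    linear_combination -he'
  · intro Q _ hπQ
    let Qs : Ideal (MvPolynomial V R) := Q.comap (Ideal.Quotient.mk J)
    haveI : Qs.IsPrime := Ideal.IsPrime.comap _
    have hJQ : J ≤ Qs := fun x hx => by
      show Ideal.Quotient.mk J x ∈ Q
      rw [Ideal.Quotient.eq_zero_iff_mem.2 hx]; exact Q.zero_mem
    have hπQs : (C π : MvPolynomial V R) ∉ Qs := hπQ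
    let G : ULift.{u} (Fin m) → MvPolynomial V R := fun j => F j.down
    have hdet : Matrix.det (Matrix.of fun i j : ULift.{u} (Fin m) => pderiv (jz j.down) (G i)) ∉ Qs := by
      have e : (Matrix.of fun i j : ULift.{u} (Fin m) => pderiv (jz j.down) (G i)) =
          Matrix.diagonal fun _ => -(C π : MvPolynomial V R) := by
        ext1 i j
        show pderiv (jz j.down) (inc (f i.down) - C π * X (jz i.down)) = _
        rw [map_sub, pderiv_eq_zero_of_notMem_vars (f := inc (f i.down)), zero_sub, pderiv_C_mul]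
        · rcases eq_or_ne i j with rfl | hne
          · rw [pderiv_X_self, mul_one, Matrix.diagonal_apply_eq]
          · rw [pderiv_X_of_ne (fun h => hne (ULift.ext _ _ (Sum.inr_injective (congrArg ULift.down h)))),
              mul_zero, neg_zero, Matrix.diagonal_apply_ne _ hne]
        · intro hmem
          obtain ⟨k, -, hk⟩ := Finset.mem_image.1 (vars_rename _ _ hmem)
          exact Sum.inl_ne_inr (congrArg ULift.down hk)
      rw [e, Matrix.det_diagonal, Finset.prod_const]
      exact fun h => hπQs (neg_mem_iff.1 (‹Qs.IsPrime›.mem_of_pow_mem _ h))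
    refine isSmoothAt_of_system J Q G (fun j => hFJ _) (fun j => jz j.down) hdet
      (hgen_of_vanish J Qs hJQ G (fun j => hFJ _) (fun j => jz j.down) hdet ?_)
    intro L _ _ ev _ hG hu
    refine ⟨Set.range rels, le_rfl, ?_⟩
    rintro _ ⟨j | s, rfl⟩
    · exact hG ⟨j⟩
    · show ev (H (syz s)) = 0
      refine (hu _ hπQs).mul_right_eq_zero.1 ?_
      have hF : ∀ j, ev (inc (f j)) = ev (C π) * ev (X (jz j)) := fun j => by
        have := hG ⟨j⟩
        rwa [map_sub, map_mul, sub_eq_zero] at this
      have h2 := congrArg (fun p => ev (inc p)) (hsyz0 s)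
      simp only [hL₀, map_add, map_sum, map_mul, map_zero, hF] at h2
      rw [show inc (C (π ^ 2)) = C π ^ 2 by rw [← map_pow]; exact rename_C _ _, map_pow] at h2
      simp only [H, map_add, map_sum, map_mul, mul_add, Finset.mul_sum]
      rw [← h2]
      exact congrArg₂ (· + ·) (Finset.sum_congr rfl fun j _ => by ring) (by ring)
  · intro Qb _ hsm
    let Q : Ideal D := Qb.comap (Ideal.Quotient.mk K)
    let Qs : Ideal (MvPolynomial V R) := Q.comap (Ideal.Quotient.mk J)
    haveI : Q.IsPrime := Ideal.IsPrime.comap _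
    haveI : Qs.IsPrime := Ideal.IsPrime.comap _
    have hJQ : J ≤ Qs := fun x hx => by
      show Ideal.Quotient.mk J x ∈ Q
      rw [Ideal.Quotient.eq_zero_iff_mem.2 hx]; exact Q.zero_mem
    have hπQs : (C π : MvPolynomial V R) ∈ Qs := by
      show Ideal.Quotient.mk K (Ideal.Quotient.mk J (C π)) ∈ Qb
      rw [hπK]; exact Qb.zero_mem
    letI : Algebra (MvPolynomial (Fin n) R₂) C₀ := qC.toRingHom.toAlgebra
    haveI : IsScalarTower R₂ (MvPolynomial (Fin n) R₂) C₀ :=
      IsScalarTower.of_algebraMap_eq fun r => (qC.commutes r).symm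
    obtain ⟨c, rows, Dv, hinj, hgen, hdet0⟩ :=
      exists_rows (R := R₂) (B := MvPolynomial (Fin n) R₂) hqC fb hfb.symm (Qb.comap ψ) hsm
    let Qp : Ideal (MvPolynomial (Fin n) R₂) := (Qb.comap ψ).comap qC.toRingHom
    haveI : Qp.IsPrime := Ideal.IsPrime.comap _
    obtain ⟨cols, hcols⟩ := exists_cols Qp (fb ∘ rows) Dv hdet0
    have hQp : ∀ p, red p ∈ Qp ↔ inc p ∈ Qs := fun p => by
      show ψ (qC (red p)) ∈ Qb ↔ _
      rw [← hq, hψ]
      rfl
    have hwab : ∀ j, ∃ (wl : MvPolynomial (Fin n) R) (a : Fin c → MvPolynomial (Fin n) R) (b : MvPolynomial (Fin n) R),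
        inc wl ∉ Qs ∧ wl * f j - ∑ i, a i * f (rows i) = C (π ^ 2) * b ∧
          (j ∈ Set.range rows → wl = 1 ∧ b = 0 ∧ ∃ i₀, rows i₀ = j ∧ a = Pi.single i₀ 1) := by
      intro j
      by_cases hj : j ∈ Set.range rows
      · obtain ⟨i₀, rfl⟩ := hj
        refine ⟨1, Pi.single i₀ 1, 0, ?_, ?_, fun _ => ⟨rfl, rfl, i₀, rfl, rfl⟩⟩
        · rw [map_one]; exact Qs.primeCompl.one_mem
        · simp [Pi.single_apply, Finset.sum_ite_eq']
      · obtain ⟨w, hw, hwx⟩ := hgen (fb j) (Ideal.subset_span ⟨j, rfl⟩)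
        obtain ⟨wl, rfl⟩ := hred w
        obtain ⟨al, hal⟩ := Ideal.mem_span_range_iff_exists_fun.1 hwx
        choose a ha using fun i => hred (al i)
        obtain ⟨b, hb⟩ := hkerred (wl * f j - ∑ i, a i * f (rows i)) (by
          simp only [map_sub, map_sum, map_mul, ha, hf]
          rw [sub_eq_zero, ← hal]; rfl)
        exact ⟨wl, a, b, fun h => hw ((hQp wl).2 h), hb, fun h => absurd h hj⟩
    choose wl a b hwQ hb hrows using hwab
    let T := {l : Fin m // l ∉ Set.range rows}
    let syzT : T → ((Fin m → MvPolynomial (Fin n) R) × MvPolynomial (Fin n) R) := fun l =>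
      (fun j => (if j = l.1 then wl l.1 else 0) - ∑ i, if rows i = j then a l.1 i else 0, -b l.1)
    have hsyzT : ∀ l, L₀ (syzT l) = 0 := fun l => by
      rw [hL₀]
      simp only [syzT, sub_mul, Finset.sum_sub_distrib, Finset.sum_mul, ite_mul, zero_mul]
      rw [Finset.sum_ite_eq' Finset.univ l.1 (fun j => wl l.1 * f j), Finset.sum_comm]
      simp only [Finset.sum_ite_eq, Finset.mem_univ, if_true]
      linear_combination hb l.1
    have hHT : ∀ l, H (syzT l) = inc (wl l.1) * X (jz l.1) - ∑ i, inc (a l.1 i) * X (jz (rows i)) - C π * inc (b l.1) := by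
      intro l
      simp only [H, syzT, map_sub, map_sum, apply_ite inc, map_zero, sub_mul, Finset.sum_sub_distrib, Finset.sum_mul,
        ite_mul, zero_mul, map_neg, mul_neg]
      rw [Finset.sum_ite_eq' Finset.univ l.1 (fun j => inc (wl l.1) * X (jz j)), Finset.sum_comm]
      simp only [Finset.sum_ite_eq, Finset.mem_univ, if_true]
      ring
    let σ := ULift.{u} (Fin c ⊕ T)
    let G : σ → MvPolynomial V R := fun x => x.down.elim (fun i => F (rows i)) fun l => H (syzT l)
    let gc : σ → V := fun x => x.down.elim (fun i => jx (cols i)) fun l => jz l.1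
    have hGJ : ∀ x, G x ∈ J := by
      rintro ⟨i | l⟩
      · exact hFJ _
      · exact hHJ _ (hsyzT l)
    have hnotmem : ∀ (p : MvPolynomial (Fin n) R) (j : Fin m), jz j ∉ (inc p).vars := fun p j hmem => by
      obtain ⟨k, -, hk⟩ := Finset.mem_image.1 (vars_rename _ _ hmem)
      exact Sum.inl_ne_inr (congrArg ULift.down hk)
    have hjx : Function.Injective jx := fun x y h => Sum.inl_injective (congrArg ULift.down h)
    let ι : MvPolynomial V R →+* MvPolynomial V R ⧸ Qs := Ideal.Quotient.mk Qs
    have hπ0 : ι (C π) = 0 := Ideal.Quotient.eq_zero_iff_mem.2 hπQs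
    have hdet : Matrix.det (Matrix.of fun i j => pderiv (gc j) (G i)) ∉ Qs := by
      intro hbad
      let e : Fin c ⊕ T ≃ σ := Equiv.ulift.symm
      have h1 := Ideal.Quotient.eq_zero_iff_mem.2 hbad
      rw [← Matrix.det_submatrix_equiv_self e, RingHom.map_det] at h1
      have hentry : ι.mapMatrix ((Matrix.of fun i j => pderiv (gc j) (G i)).submatrix e e) =
          Matrix.fromBlocks (Matrix.of fun i j => ι (inc (pderiv (cols j) (f (rows i))))) 0
            (Matrix.of fun l j => ι (pderiv (jx (cols j)) (H (syzT l))))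
            (Matrix.diagonal fun l : T => ι (inc (wl l.1))) := by
        ext (i | l) (j | l')
        · show ι (pderiv (jx (cols j)) (inc (f (rows i)) - C π * X (jz (rows i)))) = _
          rw [map_sub, pderiv_rename hjx, pderiv_C_mul, map_sub, map_mul, hπ0, zero_mul, sub_zero]
          rfl
        · show ι (pderiv (jz l'.1) (inc (f (rows i)) - C π * X (jz (rows i)))) = 0
          rw [map_sub, pderiv_eq_zero_of_notMem_vars (hnotmem _ _), zero_sub, pderiv_C_mul, map_neg, map_mul, hπ0,
            zero_mul, neg_zero]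
        · rfl
        · show ι (pderiv (jz l'.1) (H (syzT l))) = Matrix.diagonal (fun l : T => ι (inc (wl l.1))) l l'
          rw [hHT, map_sub, map_sub, pderiv_C_mul, pderiv_eq_zero_of_notMem_vars (hnotmem (b l.1) _), mul_zero, map_zero,
            sub_zero, map_sub, map_sum, Finset.sum_eq_zero fun i _ => (by
              rw [pderiv_mul, pderiv_eq_zero_of_notMem_vars (hnotmem _ _), zero_mul, zero_add, pderiv_X_of_ne, mul_zero]
              exact fun h => l'.2 ⟨i, Sum.inr_injective (congrArg ULift.down h)⟩ :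
              pderiv (jz l'.1) (inc (a l.1 i) * X (jz (rows i))) = 0),
            sub_zero, pderiv_mul, pderiv_eq_zero_of_notMem_vars (hnotmem _ _), zero_mul, zero_add]
          rcases eq_or_ne l l' with rfl | hne
          · rw [pderiv_X_self, mul_one, Matrix.diagonal_apply_eq]
          · rw [pderiv_X_of_ne (fun h => hne (Subtype.ext (Sum.inr_injective (congrArg ULift.down h)))),
              mul_zero, map_zero, Matrix.diagonal_apply_ne _ hne]
      rw [hentry, Matrix.det_fromBlocks_zero₁₂, Matrix.det_diagonal] at h1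
      rcases mul_eq_zero.1 h1 with h | h
      · refine hcols ?_
        have e2 : (Matrix.of fun i j => pderiv (cols j) ((fb ∘ rows) i)) =
            red.mapMatrix (Matrix.of fun i j => pderiv (cols j) (f (rows i))) := by
          ext1 i j
          show pderiv (cols j) (fb (rows i)) = red (pderiv (cols j) (f (rows i)))
          rw [← hf (rows i)]
          exact pderiv_map
        rw [e2, ← RingHom.map_det, hQp, ← Ideal.Quotient.eq_zero_iff_mem]
        rw [show (Matrix.of fun i j => ι (inc (pderiv (cols j) (f (rows i))))) =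
          (ι.comp inc.toRingHom).mapMatrix (Matrix.of fun i j => pderiv (cols j) (f (rows i))) from rfl,
          ← RingHom.map_det] at h
        exact h
      · obtain ⟨l, -, hl⟩ := Finset.prod_eq_zero_iff.1 h
        exact hwQ l.1 (Ideal.Quotient.eq_zero_iff_mem.1 hl)
    refine isSmoothAt_of_system J Q G hGJ gc hdet (hgen_of_vanish J Qs hJQ G hGJ gc hdet ?_)
    intro L _ _ ev hflat hG hu
    haveI := hflat
    refine ⟨Set.range rels, le_rfl, ?_⟩
    have hann : ∀ x : L, ev (C π) ^ 2 * x = 0 → ev (C π) * x = 0 := by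
      intro x hx
      have hc : ev (C π) = algebraMap R L π := ev.commutes π
      rw [hc, ← map_pow, ← Algebra.smul_def] at hx
      obtain ⟨k, av, yv, hxv, hav⟩ := Module.Flat.isTrivialRelation_of_sum_smul_eq_zero (R := R) (M:=L)
        (ι := Unit) (f := fun _ => π ^ 2) (x := fun _ => x) (by simpa using hx)
      rw [hc, show x = ∑ l, av () l • yv l from hxv (), Finset.mul_sum]
      refine Finset.sum_eq_zero fun l _ => ?_
      have h2 : π ^ 2 * av () l = 0 := by simpa using hav l
      rw [Algebra.smul_def, ← mul_assoc, ← map_mul, hR _ h2, map_zero, zero_mul]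
    let P := ev (C π)
    let Z : Fin m → L := fun j => ev (X (jz j))
    let E : MvPolynomial (Fin n) R →+* L := ev.toRingHom.comp inc.toRingHom
    have hEC : E (C (π ^ 2)) = P ^ 2 := by
      show ev (inc (C (π ^ 2))) = _
      rw [show inc (C (π ^ 2)) = C π ^ 2 by rw [← map_pow]; exact rename_C _ _, map_pow]
    have hZF : ∀ i, E (f (rows i)) = P * Z (rows i) := fun i => by
      have := hG ⟨Sum.inl i⟩
      change ev (F (rows i)) = 0 at this
      rwa [map_sub, map_mul, sub_eq_zero] at this
    have hZT : ∀ l : T, E (wl l.1) * Z l.1 = ∑ i, E (a l.1 i) * Z (rows i) + P * E (b l.1) := fun l => by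
      have := hG ⟨Sum.inr l⟩
      change ev (H (syzT l)) = 0 at this
      simp only [hHT, map_sub, map_mul, map_sum] at this
      linear_combination this
    have hbE : ∀ j, E (wl j) * E (f j) = ∑ i, E (a j i) * E (f (rows i)) + P ^ 2 * E (b j) := fun j => by
      have := congrArg E (hb j)
      simp only [map_sub, map_sum, map_mul, hEC] at this
      linear_combination this
    have hwu : ∀ j, IsUnit (E (wl j)) := fun j => hu _ (hwQ j)
    have hZ : ∀ j, E (wl j) * Z j = ∑ i, E (a j i) * Z (rows i) + P * E (b j) := fun j => by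
      by_cases hj : j ∈ Set.range rows
      · obtain ⟨h1, h2, i₀, rfl, h3⟩ := hrows j hj
        rw [h1, h2, h3, map_one, one_mul, map_zero, mul_zero, add_zero,
          Finset.sum_eq_single i₀ (fun i _ hi => by rw [Pi.single_eq_of_ne hi, map_zero, zero_mul]) (by simp),
          Pi.single_eq_same, map_one, one_mul]
      · exact hZT ⟨j, hj⟩
    have hF : ∀ j, E (f j) = P * Z j := by
      intro j
      refine (hwu j).mul_left_cancel ?_
      rw [hbE j, mul_left_comm, hZ j]
      simp only [hZF, mul_add, Finset.mul_sum]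
      exact congrArg₂ (· + ·) (Finset.sum_congr rfl fun i _ => by ring) (by ring)
    rintro _ ⟨j | s, rfl⟩
    · show ev (F j) = 0
      rw [map_sub, map_mul, sub_eq_zero]
      exact hF j
    · let y := syz s
      show ev (H y) = 0
      have hyH : ev (H y) = ∑ j, E (y.1 j) * Z j + P * E y.2 := by
        simp only [H, map_add, map_sum, map_mul]; rfl
      let W : MvPolynomial (Fin n) R := ∏ j, wl j
      let a' : Fin c → MvPolynomial (Fin n) R := fun i =>
        ∑ j, y.1 j * (∏ k ∈ Finset.univ.erase j, wl k) * a j i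
      let b' : MvPolynomial (Fin n) R := W * y.2 + ∑ j, y.1 j * (∏ k ∈ Finset.univ.erase j, wl k) * b j
      have hWj : ∀ j, W = wl j * ∏ k ∈ Finset.univ.erase j, wl k := fun j =>
        (Finset.mul_prod_erase _ wl (Finset.mem_univ j)).symm
      have hid : ∑ i, a' i * f (rows i) + C (π ^ 2) * b' = 0 := by
        have h1 : W * L₀ y = 0 := by rw [hsyz0 s, mul_zero]
        rw [hL₀, mul_add, Finset.mul_sum] at h1
        have h2 : ∀ j, W * (y.1 j * f j) = ∑ i, y.1 j * (∏ k ∈ Finset.univ.erase j, wl k) * a j i * f (rows i) +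
            C (π ^ 2) * (y.1 j * (∏ k ∈ Finset.univ.erase j, wl k) * b j) := fun j => by
          rw [hWj j]
          have := hb j
          calc wl j * (∏ k ∈ Finset.univ.erase j, wl k) * (y.1 j * f j)
              = y.1 j * (∏ k ∈ Finset.univ.erase j, wl k) * (∑ i, a j i * f (rows i)) +
                y.1 j * (∏ k ∈ Finset.univ.erase j, wl k) * (wl j * f j - ∑ i, a j i * f (rows i)) := by ring
            _ = _ := by
              rw [this, Finset.mul_sum]
              exact congrArg₂ (· + ·) (Finset.sum_congr rfl fun i _ => by ring) (by ring)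
        rw [Finset.sum_congr rfl fun j _ => h2 j, Finset.sum_add_distrib, Finset.sum_comm] at h1
        simp only [a', b', Finset.sum_mul, mul_add, Finset.mul_sum] at h1 ⊢
        linear_combination h1
      have hadiv : ∀ i, ∃ x, E (a' i) = P * x := by
        let Jm : Matrix (Fin c) (Fin c) L := Matrix.of fun i k => E (pderiv (cols k) (f (rows i)))
        have hJu : IsUnit Jm.det := by
          have e : Jm = E.mapMatrix (Matrix.of fun i k => pderiv (cols k) (f (rows i))) := rfl
          rw [e, ← RingHom.map_det]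
          refine hu _ fun h => hcols ?_
          have e2 : (Matrix.of fun i j => pderiv (cols j) ((fb ∘ rows) i)) =
              red.mapMatrix (Matrix.of fun i j => pderiv (cols j) (f (rows i))) := by
            ext1 i j
            show pderiv (cols j) (fb (rows i)) = red (pderiv (cols j) (f (rows i)))
            rw [← hf (rows i)]
            exact pderiv_map
          rw [e2, ← RingHom.map_det, hQp]
          exact h
        let v : Fin c → L := fun i => E (a' i)
        have hv : ∀ k, Matrix.vecMul v Jm k ∈ Ideal.span {P} := fun k => by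
          have h1 := congrArg (fun p => E (pderiv (cols k) p)) hid
          simp only [map_add, map_sum, pderiv_mul, pderiv_C, zero_mul, zero_add, map_mul, map_zero, hEC,
            Finset.sum_add_distrib, hZF] at h1
          rw [Ideal.mem_span_singleton']
          refine ⟨-(∑ i, E (pderiv (cols k) (a' i)) * Z (rows i)) - P * E (pderiv (cols k) b'), ?_⟩
          show _ = ∑ i, E (a' i) * E (pderiv (cols k) (f (rows i)))
          have e : (∑ i, E (pderiv (cols k) (a' i)) * Z (rows i)) * P =
              ∑ i, E (pderiv (cols k) (a' i)) * (P * Z (rows i)) := by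
            rw [Finset.sum_mul]; exact Finset.sum_congr rfl fun i _ => by ring
          linear_combination -h1 - e
        intro i
        have h2 : Matrix.vecMul (Matrix.vecMul v Jm) Jm.adjugate i ∈ Ideal.span {P} :=
          show ∑ k, Matrix.vecMul v Jm k * Jm.adjugate k i ∈ Ideal.span {P} from
            Ideal.sum_mem _ fun k _ => Ideal.mul_mem_right _ _ (hv k)
        rw [Matrix.vecMul_vecMul, Matrix.mul_adjugate, Matrix.vecMul_smul, Matrix.vecMul_one, Pi.smul_apply,
          smul_eq_mul, Ideal.unit_mul_mem_iff_mem _ hJu] at h2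
        obtain ⟨x, hx⟩ := Ideal.mem_span_singleton'.1 h2
        exact ⟨x, by rw [mul_comm]; exact hx.symm⟩
      choose xa hxa using hadiv
      have hWZ : E W * ev (H y) = ∑ i, E (a' i) * Z (rows i) + P * E b' := by
        have h2 : ∀ j, E W * (E (y.1 j) * Z j) = ∑ i, E (y.1 j * (∏ k ∈ Finset.univ.erase j, wl k) * a j i) * Z (rows i) +
            P * E (y.1 j * (∏ k ∈ Finset.univ.erase j, wl k) * b j) := fun j => by
          rw [hWj j, map_mul, show E (wl j) * E (∏ k ∈ Finset.univ.erase j, wl k) * (E (y.1 j) * Z j) =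
            E (y.1 j) * E (∏ k ∈ Finset.univ.erase j, wl k) * (E (wl j) * Z j) by ring, hZ j, mul_add, Finset.mul_sum]
          simp only [map_mul]
          exact congrArg₂ (· + ·) (Finset.sum_congr rfl fun i _ => by ring) (by ring)
        rw [hyH, mul_add, Finset.mul_sum, Finset.sum_congr rfl fun j _ => h2 j, Finset.sum_add_distrib,
          Finset.sum_comm]
        simp only [a', b', map_add, map_sum, map_mul, Finset.sum_mul, Finset.mul_sum, mul_add]
        ring
      have hP0 : P * (∑ i, xa i * Z (rows i) + E b') = 0 := by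
        refine hann _ ?_
        have h1 := congrArg E hid
        simp only [map_add, map_sum, map_mul, map_zero, hEC, hZF, hxa] at h1
        show P ^ 2 * _ = 0
        rw [← h1, mul_add, Finset.mul_sum]
        exact congrArg₂ (· + ·) (Finset.sum_congr rfl fun i _ => by ring) rfl
      refine (hu _ (fun h => ?_) : IsUnit (E W)).mul_right_eq_zero.1 ?_
      · obtain ⟨k, -, hk⟩ := (‹Qs.IsPrime›.prod_mem_iff).1 (by simpa only [W, map_prod] using h)
        exact hwQ k hk
      show E W * ev (H y) = 0
      rw [hWZ, ← hP0, mul_add, Finset.mul_sum]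
      exact congrArg₂ (· + ·) (Finset.sum_congr rfl fun i _ => by rw [hxa]; ring) rfl

end Groth.Agent.Lib.SmoothingH7
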