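import Groth.Prelude.Def_Smoothing
import Groth.Agent.Lib.Sep.Basic
import Mathlib.RingTheory.Smooth.Locus
import Mathlib.RingTheory.FinitePresentation
import Mathlib.RingTheory.Adjoin.FG

/-!
A separable field extension is ind-smooth.
-/

set_option autoImplicit false

universe u

namespace Groth.Agent.Lib.SmoothingH7

/-- A field extension that is geometrically reduced is ind-smooth. -/
theorem indSmooth_of_geometricallyReduced_field (k K : Type u) [Field k] [Field K] [Algebra k K]
    [Algebra.IsGeometricallyReduced k K] : Smoothing.IndSmooth k K := by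
  intro A _ _ hA f
  let D : Subalgebra k K := f.range
  haveI : Algebra.FiniteType k D := Algebra.FiniteType.of_surjective f.rangeRestrict f.rangeRestrict_surjective
  haveI : Algebra.FinitePresentation k D := Algebra.FinitePresentation.of_finiteType.1 inferInstance
  haveI : (⊥ : Ideal D).IsPrime := Ideal.isPrime_bot
  let E := Localization.AtPrime (⊥ : Ideal D)
  haveI : IsFractionRing D E := by
    show IsLocalization (nonZeroDivisors D) E
    have h : (⊥ : Ideal D).primeCompl = nonZeroDivisors D := by
      ext x; simp [Ideal.primeCompl, mem_nonZeroDivisors_iff_ne_zero]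
    exact h ▸ (inferInstance : IsLocalization (⊥ : Ideal D).primeCompl E)
  letI : Field E := IsFractionRing.toField D
  let ι : E →ₐ[k] K := IsFractionRing.liftAlgHom (g := D.val) Subtype.val_injective
  haveI : Algebra.IsGeometricallyReduced k E := Algebra.IsGeometricallyReduced.of_injective ι ι.toRingHom.injective
  have hfs : Algebra.FormallySmooth k E := (Groth.Agent.Sep.formallySmooth_iff_isGeometricallyReduced k E).2 inferInstance
  have hP : (⟨⊥, inferInstance⟩ : PrimeSpectrum D) ∈ Algebra.smoothLocus k D := hfs
  obtain ⟨_, ⟨c, rfl⟩, hc, hsub⟩ := PrimeSpectrum.isTopologicalBasis_basic_opens.exists_subset_of_mem_open hP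
    (Algebra.isOpen_smoothLocus (R := k) (A := D))
  have hc0 : (c : K) ≠ 0 := fun h => hc (Ideal.mem_bot.2 (Subtype.ext h))
  let B := Localization.Away c
  haveI : Algebra.FormallySmooth k B := Algebra.basicOpen_subset_smoothLocus_iff.1 hsub
  haveI : Algebra.FinitePresentation D B := IsLocalization.Away.finitePresentation c
  haveI : Algebra.FinitePresentation k B := Algebra.FinitePresentation.trans k D B
  refine ⟨B, inferInstance, inferInstance, ⟨inferInstance, inferInstance⟩,
    (IsScalarTower.toAlgHom k D B).comp f.rangeRestrict,
    IsLocalization.liftAlgHom (f := D.val) (M := Submonoid.powers c) (S := B)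
      (by rintro ⟨_, j, rfl⟩; rw [map_pow]; exact (isUnit_iff_ne_zero.2 hc0).pow j),
    AlgHom.ext fun x => ?_⟩
  show IsLocalization.liftAlgHom _ (algebraMap D B (f.rangeRestrict x)) = f x
  rw [IsLocalization.liftAlgHom_apply, IsLocalization.lift_eq]
  rfl

end Groth.Agent.Lib.SmoothingH7
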